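import Cfsg.Agent.H28.Tab

/-! The exceptional isomorphism `O₆⁻(2) ↔ O₅(3)` of Fischer spaces. -/

namespace H28
open Cfsg Subgroup H11 H11.PForm Module

variable {G : Type*} [Group G] {D E : Set G}

/-- coordinates of the six-dimensional space -/
abbrev I6 := (Fin 2 ⊕ Fin 2) ⊕ Fin 2
/-- numbering of the coordinates -/
def ix6 : I6 → ℕ := Sum.elim (Sum.elim Fin.val fun i => i.val + 2) fun i => i.val + 4
/-- explicit quadratic form -/
def q6 (v : I6 → ZMod 2) : ZMod 2 := v (.inl (.inl 0)) * v (.inl (.inr 0)) + v (.inl (.inl 1)) * v (.inl (.inr 1)) +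
  (v (.inr 0) + v (.inr 0) * v (.inr 1) + v (.inr 1))
/-- explicit polar form -/
def h6 (u v : I6 → ZMod 2) : ZMod 2 := u (.inl (.inl 0)) * v (.inl (.inr 0)) + u (.inl (.inr 0)) * v (.inl (.inl 0)) +
  (u (.inl (.inl 1)) * v (.inl (.inr 1)) + u (.inl (.inr 1)) * v (.inl (.inl 1))) +
    (u (.inr 1) * v (.inr 0) + u (.inr 0) * v (.inr 1))
theorem q6_eq (v : I6 → ZMod 2) : (sMinus 2 (ZMod 2) 1 1).q v = q6 v := by
  show qMinus 2 (ZMod 2) 1 1 v = _
  simp only [qMinus_apply, Fin.sum_univ_two, q6, ZMod.pow_card, one_mul]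
theorem h6_eq (u v : I6 → ZMod 2) : (sMinus 2 (ZMod 2) 1 1).h u v = h6 u v := by
  show QuadraticMap.polar (qMinus 2 (ZMod 2) 1 1) u v = _
  simp only [qMinus_polar, Fin.sum_univ_two, h6, show (2 : ZMod 2) = 0 from rfl, one_mul, zero_mul, zero_add, add_zero]
/-- the table `O₅(3) → O₆⁻(2)` -/
def gO (w : Fin 5 → ZMod 3) (i : I6) : ZMod 2 := (0x3fcc0db20000004960137c00000000000000000208a6023bc00000072c038a000000000000000000a00000000000010000000000000600034000f31e4028e00b1c000002f8c09a2000000000000000000a1f4c0592000000cb6033fc0000000000000000020000000000000600000000000010000f00034e71000000000000038000000000000c0001c000519440000000000000c0000000000003800050001c45900002c00092984000090002c86900d14014d000000 >>> (6 * cd3 w + ix6 i) % 2 : ℕ)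
/-- the table `O₆⁻(2) → O₅(3)` -/
def gO' (v : I6 → ZMod 2) : Fin 5 → ZMod 3 :=
  vc3 (0x554000020400000804500015900104aa6a5404909940000014000000464000269000246659508540a540000044000001061000299000845a56520510001a901400966550000069400024000000000000 >>> (10 * ((v (.inl (.inl 0))).val + 2 * (v (.inl (.inl 1))).val + 4 * (v (.inl (.inr 0))).val +
    8 * (v (.inl (.inr 1))).val + 16 * (v (.inr 0)).val + 32 * (v (.inr 1)).val)))

theorem gO_chk1 : (∀ a b c d e, -dt5 ![a, b, c, d, e] ![a, b, c, d, e] = 1 → q6 (gO ![a, b, c, d, e]) = 1) ∧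
    ∀ v : I6 → ZMod 2, q6 v = 1 → -dt5 (gO' v) (gO' v) = 1 ∧ ∀ i, v i = gO (gO' v) i := by decide +kernel

/-- the compatibility of a table with the operations -/
def OOK (u v : Fin 5 → ZMod 3) : Prop :=
  (∃ c : ZMod 2, ∀ i, gO v i + h6 (gO u) (gO v) * gO u i = c * gO (fun k => v k + -dt5 u v * u k) i) ∧
    ((∃ c : ZMod 2, ∀ i, gO v i = c * gO u i) ↔ ∃ c : ZMod 3, ∀ i, v i = c * u i)
instance (u v) : Decidable (OOK u v) := by unfold OOK; infer_instance

theorem gO_chk2 : ∀ a b c d e, -dt5 ![a, b, c, d, e] ![a, b, c, d, e] = 1 → ∀ a' b' c' d' e',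
    -dt5 ![a', b', c', d', e'] ![a', b', c', d', e'] = 1 → OOK ![a, b, c, d, e] ![a', b', c', d', e'] := by
  decide +kernel

theorem Md.mo3_of_minus {τ : _ → G} (m : Md (sMinus 2 (ZMod 2) 1 1) τ E) : MO3 5 E := by
  have e : ∀ x y, ((std3 5).scale (-1)).h x y = -dt5 x y := fun x y => by rw [scale_h, std3_h, dt5_eq, neg_one_mul]
  refine ⟨(std3 5).scale (-1), _, m.relabel sf3 ((std3_nd 5).scale (by decide)) gO (fun w => ?_) (fun v hv => ?_)
    fun u v => ?_⟩
  · rw [nv_o3, e, nv_o2, q6_eq]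
    exact all5 (P := fun w => -dt5 w w = 1 → q6 (gO w) = 1) gO_chk1.1 w
  · rw [nv_o2, q6_eq] at hv
    obtain ⟨h1, h2⟩ := gO_chk1.2 v hv
    exact ⟨_, by rw [nv_o3, e, h1], 1, by rw [one_smul]; exact funext h2⟩
  · simp only [nv_o3, e, h6_eq, funext_iff]
    exact fun hu hv => all5 (P := fun u => -dt5 u u = 1 → OOK u v) (fun a b c d e h =>
      all5 (P := fun v => -dt5 v v = 1 → OOK _ v) (gO_chk2 a b c d e h) v hv) u hu

end H28
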