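import Cfsg.Agent.H28.C2
import Cfsg.Agent.H28.TabO

/-! Orthogonal models over the field with two elements; locally symplectic spaces that are not symplectic. -/

namespace H28
open Cfsg Subgroup H11 H11.PForm Module

variable {G X : Type*} [Group G] [Group X] {D E : Set G} {E' : Set X} {β : G → X} {x y z w d a c p : G}

theorem FI.d4 (h : FI β E E') (m : D4 E) : D4 E' := by
  obtain ⟨e, he, a, ha, b, hb, c, hc, k⟩ := m
  exact ⟨_, h.mem he, _, h.mem ha, _, h.mem hb, _, h.mem hc, by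
    simpa only [ne_eq, h.eq ha hb, h.eq ha hc, h.eq hb hc, h.comm ha hb, h.comm ha hc, h.comm hb hc, h.comm he ha,
      h.comm he hb, h.comm he hc] using k⟩

/-- an orthogonal model over the field with two elements, of dimension at least six -/
def MO2 (E : Set G) : Prop := ∃ (n : ℕ) (T : PForm O2P (Fin n → ZMod 2)) (τ : _ → G), Md T τ E ∧ 6 ≤ n

theorem FI.mo2 (h : FI β E E') (m : MO2 E) : MO2 E' := by
  obtain ⟨n, T, τ, m, k⟩ := m
  exact ⟨n, T, _, h.md m, k⟩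

theorem PC.mo2 [Finite G] (hD : PC D) (hS : SY D) (hV : ∀ x ∈ D, VT (nb D x)) (h4 : D4 D) : MO2 D := by
  obtain ⟨n, S, v, g⟩ := hS.gr hD.T3 hD.vt (hD.par hD.two)
  obtain ⟨e, he, a, ha, b, hb, c, hc, d1, d2, d3, c1, c2, c3, n1, n2, n3⟩ := h4
  have hl := hD.loc_pc ha (hV a ha) (by_contra fun n =>
    d3 (hD.w1 ha n a ha b ⟨hb, d1.symm, c1⟩ c ⟨hc, d2.symm, c2⟩ c3))
  have hT : ∀ a ∈ v '' D, ∀ b ∈ v '' D, ∀ c ∈ v '' D, S.h a b = 0 → S.h a c = 0 → S.h b c = 0 → a + b + c ∈ v '' D := by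
    rintro _ ⟨x, hx, rfl⟩ _ ⟨y, hy, rfl⟩ _ ⟨z, hz, rfl⟩ e1 e2 e3
    by_cases k1 : x = y
    · rw [k1, v2_add, zero_add]; exact ⟨z, hz, rfl⟩
    by_cases k2 : x = z
    · rw [k2, add_right_comm, v2_add, zero_add]; exact ⟨y, hy, rfl⟩
    by_cases k3 : y = z
    · rw [k3, add_assoc, v2_add, add_zero]; exact ⟨x, hx, rfl⟩
    obtain ⟨k, rfl, rfl, rfl⟩ := hD.tri_tr ha hl (d' := x) (x' := y) (y' := z) ⟨hb, d1.symm, c1⟩
      ⟨⟨hc, d2.symm, c2⟩, d3.symm, c3⟩ hx ⟨hy, Ne.symm k1, (g.comm hx hy).2 e1⟩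
      ⟨⟨hz, Ne.symm k2, (g.comm hx hz).2 e2⟩, Ne.symm k3, (g.comm hy hz).2 e3⟩
    have hf : k⁻¹ * e * k ∈ D := by simpa using hD.cj k⁻¹ e he
    have o : ∀ {u}, u ∈ D → ¬ Commute e (k * u * k⁻¹) → S.h (v (k⁻¹ * e * k)) (v u) = 1 := fun hu n => by
      rw [g.h _ hf _ hu, bz_n fun c => n (commute_conj'.2 c.symm).symm]
    have := g.add_mem (g.add_mem (g.add_mem (g.add_mem ⟨_, hf, rfl⟩ ⟨_, hx, rfl⟩ (o hx n1)) ⟨_, hy, rfl⟩
      (by simp [o hy n2, e1])) ⟨_, hz, rfl⟩ (by simp [o hz n3, e2, e3])) ⟨_, hf, rfl⟩ (by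
        simp only [map_add, LinearMap.add_apply, g.h _ hf _ hf, bz_c (Commute.refl _), sp_symm S _ (v (k⁻¹ * e * k)),
          o hx n1, o hy n2, o hz n3]; decide)
    rwa [show ∀ f x y z : Fin n → ZMod 2, f + x + y + z + f = f + f + (x + y + z) by intros; abel, v2_add,
      zero_add] at this
  obtain ⟨T, -, -, τ, m, -⟩ := g.md_o2 (by
    rintro _ ⟨x, hx, rfl⟩ _ ⟨y, hy, rfl⟩ e ⟨z, hz, e'⟩
    have k : x ≠ y := fun k => g.ne z hz (by rw [e', k, v2_add])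
    have := hV x hx y ⟨hy, k.symm, (g.comm hx hy).2 e⟩ z ⟨hz, fun k => g.ne y hy (by simpa [k] using e'),
      (g.comm hx hz).2 (by simp [e', e, g.h x hx x hx, bz_c (Commute.refl x)])⟩ fun u hu => by
        rw [g.comm hz hu.1, g.comm hy hu.1, e', map_add, LinearMap.add_apply, (g.comm hx hu.1).1 hu.2.2, zero_add]
    exact g.ne x hx (by simpa [this] using e')) hT
  obtain ⟨u, hu, e'⟩ := hT _ ⟨a, ha, rfl⟩ _ ⟨b, hb, rfl⟩ _ ⟨c, hc, rfl⟩ ((g.comm ha hb).1 c1) ((g.comm ha hc).1 c2)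
    ((g.comm hb hc).1 c3)
  have := six_le g.nd (g.ne a ha) (g.ne b hb) (g.ne c hc) (g.inj.ne ha hb d1) (g.inj.ne ha hc d2) (g.inj.ne hb hc d3)
    (e' ▸ g.ne u hu) ((g.comm ha hb).1 c1) ((g.comm ha hc).1 c2) ((g.comm hb hc).1 c3)
  exact ⟨n, T, τ, m, by simpa using this⟩

/-- the double perp of three points -/
def Pl (E : Set G) (x y z : G) : Set G := {w | w ∈ E ∧ ∀ e ∈ E, Commute x e → Commute y e → Commute z e → Commute w e}

theorem Pl.tr (hp : p ∈ D) (hx : x ∈ nb D p) (c1 : Commute y x) (c2 : Commute z x) (h : w ∈ Pl (nb D p) x y z)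
    (n : w ≠ x) : w ∈ Pl (nb D x) p y z :=
  ⟨⟨h.1.1, n, (h.2 x hx (Commute.refl x) c1 c2).symm⟩, fun e he e1 e2 e3 => by
    by_cases k : e = p
    exacts [k ▸ h.1.2.2.symm, h.2 e ⟨he.1, k, e1⟩ he.2.2 e2 e3]⟩

section
variable {V : Type*} [AddCommGroup V] [Module (ZMod 2) V] {T : PForm O2P V} {τ : V → G} {a b c e u : V}

theorem o2_self (T : PForm O2P V) (x : V) : T.h x x = 0 := by rw [orth_h_self]; exact zero_mul _

theorem Md.eq2 (m : Md T τ E) (ha : NV T a) (hb : NV T b) : τ a = τ b ↔ a = b := ⟨fun h => by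
  obtain ⟨k, rfl⟩ := (m.inj a b ha hb).1 h
  rcases z2_cases k with rfl | rfl
  exacts [absurd (zero_smul _ a) hb.1, (one_smul _ a).symm], congrArg τ⟩

theorem nv_sum (ha : NV T a) (hb : NV T b) (hc : NV T c) (h1 : T.h a b = 0) (h2 : T.h a c = 0) (h3 : T.h b c = 0) :
    NV T (a + b + c) := by
  rw [nv_o2] at *
  simp only [orth_q_add, ha, hb, hc, map_add, LinearMap.add_apply, h1, h2, h3]; decide

theorem Md.sum_pl (m : Md T τ E) (ha : NV T a) (hb : NV T b) (hc : NV T c) (h1 : T.h a b = 0) (h2 : T.h a c = 0)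
    (h3 : T.h b c = 0) : τ (a + b + c) ∈ Pl E (τ a) (τ b) (τ c) :=
  ⟨m.mem _ (nv_sum ha hb hc h1 h2 h3), fun e he => by
    obtain ⟨y, hy, rfl⟩ := m.surj e he
    simp +contextual [m.comm2 rfl ha hy, m.comm2 rfl hb hy, m.comm2 rfl hc hy,
      m.comm2 rfl (nv_sum ha hb hc h1 h2 h3) hy]⟩

theorem Md.of_pl [FiniteDimensional (ZMod 2) V] (m : Md T τ E) (ha : NV T a) (hb : NV T b) (hc : NV T c)
    (h1 : T.h a b = 0) (h2 : T.h a c = 0) (h3 : T.h b c = 0) (hu : NV T u) (h : τ u ∈ Pl E (τ a) (τ b) (τ c))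
    (n1 : τ u ≠ τ a) (n2 : τ u ≠ τ b) (n3 : τ u ≠ τ c) : u = a + b + c := by
  have k : ∀ y, NV T y → T.h a y = 0 → T.h b y = 0 → T.h c y = 0 → T.h u y = 0 := fun y hy e1 e2 e3 =>
    (m.comm2 rfl hu hy).1 (h.2 _ (m.mem y hy) (m.comm_of ha hy e1) (m.comm_of hb hy e2) (m.comm_of hc hy e3))
  have h1' := T.h_swap_zero h1
  have h2' := T.h_swap_zero h2
  have : u ∈ Submodule.span (ZMod 2) {a, b, c} := by
    rw [← m.nd.perp_perp (Submodule.span _ _)]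
    intro y hy
    simp only [mem_perp_span, Set.forall_mem_insert, Set.mem_singleton_iff, forall_eq] at hy
    rcases z2_cases (T.q y) with q | q
    · have := k (a + y) (by rw [nv_o2, orth_q_add, nv_o2.1 ha, q, hy.1]; rfl) (by simp [o2_self, hy]) (by simp [h1', hy])
        (by simp [h2', hy])
      rw [map_add, k a ha (o2_self T a) h1' h2', zero_add] at this
      exact T.h_swap_zero this
    · exact T.h_swap_zero (k y (nv_o2.2 q) hy.1 hy.2.1 hy.2.2)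
  obtain ⟨i, j, l, rfl⟩ := Submodule.mem_span_triple.1 this
  rw [nv_o2] at ha hb hc hu
  have z : (1 + 1 : ZMod 2) = 0 := rfl
  rcases z2_cases i with rfl | rfl <;> rcases z2_cases j with rfl | rfl <;> rcases z2_cases l with rfl | rfl <;>
    simp_all [orth_q_add, show T.q 0 = 0 by simpa using T.q_zero]

theorem MO2.assoc {E : Set G} {x y z w u v : G} (h : MO2 E) (hx : x ∈ E) (hy : y ∈ E) (hz : z ∈ E) (hw : w ∈ E)
    (c1 : Commute x y) (c2 : Commute x z) (c3 : Commute x w) (c4 : Commute y z) (c5 : Commute y w) (c6 : Commute z w)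
    (hv : v ∈ Pl E x z w) (n1 : v ≠ x) (n2 : v ≠ z) (n3 : v ≠ w) (hu : u ∈ Pl E x y v) (n4 : u ≠ x) (n5 : u ≠ y)
    (n6 : u ≠ v) : u ∈ Pl E y z w := by
  obtain ⟨n, T, τ, m, -⟩ := h
  obtain ⟨x, x1, rfl⟩ := m.surj x hx
  obtain ⟨y, y1, rfl⟩ := m.surj y hy
  obtain ⟨z, z1, rfl⟩ := m.surj z hz
  obtain ⟨w, w1, rfl⟩ := m.surj w hw
  obtain ⟨v, v1, rfl⟩ := m.surj v hv.1
  obtain ⟨u, u1, rfl⟩ := m.surj u hu.1
  rw [m.comm2 rfl (by assumption) (by assumption)] at c1 c2 c3 c4 c5 c6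
  obtain rfl := m.of_pl x1 z1 w1 c2 c3 c6 v1 hv n1 n2 n3
  have := m.of_pl x1 y1 v1 c1 (by simp [o2_self, c2, c3]) (by simp [T.h_swap_zero c1, c4, c5]) u1 hu n4 n5 n6
  rw [this, show x + y + (x + z + w) = x + x + (y + z + w) by abel, v2_add, zero_add]
  exact m.sum_pl y1 z1 w1 c4 c5 c6

theorem MO2.uniq {E : Set G} {x y z u v : G} (h : MO2 E) (hx : x ∈ E) (hy : y ∈ E) (hz : z ∈ E)
    (c1 : Commute x y) (c2 : Commute x z) (c4 : Commute y z) (hv : v ∈ Pl E x y z) (n1 : v ≠ x) (n2 : v ≠ y) (n3 : v ≠ z)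
    (hu : u ∈ Pl E x y z) (n4 : u ≠ x) (n5 : u ≠ y) (n6 : u ≠ z) : u = v := by
  obtain ⟨n, T, τ, m, -⟩ := h
  obtain ⟨x, x1, rfl⟩ := m.surj x hx
  obtain ⟨y, y1, rfl⟩ := m.surj y hy
  obtain ⟨z, z1, rfl⟩ := m.surj z hz
  obtain ⟨v, v1, rfl⟩ := m.surj v hv.1
  obtain ⟨u, u1, rfl⟩ := m.surj u hu.1
  rw [m.comm2 rfl (by assumption) (by assumption)] at c1 c2 c4
  rw [m.of_pl x1 y1 z1 c1 c2 c4 v1 hv n1 n2 n3, m.of_pl x1 y1 z1 c1 c2 c4 u1 hu n4 n5 n6]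

theorem sum_ne (h : b ≠ c) : a + b + c ≠ a ∧ b + a + c ≠ a ∧ b + c + a ≠ a := by
  refine ⟨fun e => h ?_, fun e => h ?_, fun e => h ?_⟩ <;> linear_combination (norm := abel) e - v2_add c

/-- four independent commuting points -/
structure I4 (T : PForm O2P V) (a b c e : V) : Prop where
  na : NV T a
  nb : NV T b
  nc : NV T c
  ne : NV T e
  h : T.h a b = 0 ∧ T.h a c = 0 ∧ T.h a e = 0 ∧ T.h b c = 0 ∧ T.h b e = 0 ∧ T.h c e = 0
  d : a ≠ b ∧ a ≠ c ∧ a ≠ e ∧ b ≠ c ∧ b ≠ e ∧ c ≠ e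
  s : a + c + e ≠ b

theorem I4.swap (h : I4 T a b c e) : I4 T b a c e := by
  obtain ⟨n1, n2, n3, n4, ⟨h1, h2, h3, h4, h5, h6⟩, ⟨d1, d2, d3, d4, d5, d6⟩, s⟩ := h
  exact ⟨n2, n1, n3, n4, ⟨T.h_swap_zero h1, h4, h5, h2, h3, h6⟩, ⟨d1.symm, d4, d5, d2, d3, d6⟩, fun k => s (by
    linear_combination (norm := abel) k - v2_add b + v2_add a)⟩

theorem I4.key (hL : ∀ x ∈ D, MO2 (H28.nb D x)) (hd : d ∈ D) (m : Md T τ (H28.nb D d)) (h : I4 T a b c e) :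
    τ (b + c + e) ∈ Pl (H28.nb D (τ a)) (τ b) (τ c) (τ e) := by
  have s' := h.swap.s
  obtain ⟨n1, n2, n3, n4, ⟨h1, h2, h3, h4, h5, h6⟩, ⟨d1, d2, d3, d4, d5, d6⟩, s⟩ := h
  have ma := m.mem a n1
  have k : ∀ u, NV T u → u ≠ a → T.h a u = 0 → τ u ∈ H28.nb (H28.nb D (τ a)) d := fun u hu n o =>
    nb_comm d _ ▸ ⟨m.mem u hu, (m.eq2 hu n1).not.2 n, m.comm_of n1 hu o⟩
  have kb := k b n2 d1.symm h1
  have kc := k c n3 d2.symm h2
  have ke := k e n4 d3.symm h3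
  have v1 := nv_sum n1 n3 n4 h2 h3 h6
  have v2 := nv_sum n2 n3 n4 h4 h5 h6
  have o1 : T.h a (a + c + e) = 0 := by simp [o2_self, h2, h3]
  have o2 : T.h b (a + c + e) = 0 := by simp [T.h_swap_zero h1, h4, h5]
  have p := m.sum_pl n1 n2 v1 h1 o1 o2
  rw [show a + b + (a + c + e) = a + a + (b + c + e) by abel, v2_add, zero_add] at p
  exact (hL _ ma.1).assoc (nb_symm hd ma) kb.1 kc.1 ke.1 kb.2.2 kc.2.2 ke.2.2 (m.comm_of n2 n3 h4) (m.comm_of n2 n4 h5)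
    (m.comm_of n3 n4 h6) (Pl.tr hd ma kc.1.2.2.symm ke.1.2.2.symm (m.sum_pl n1 n3 n4 h2 h3 h6)
      ((m.eq2 v1 n1).not.2 (sum_ne d6).1)) (m.mem _ v1).2.1 ((m.eq2 v1 n3).not.2 (sum_ne d3).2.1)
    ((m.eq2 v1 n4).not.2 (sum_ne d2).2.2) (Pl.tr hd ma kb.1.2.2.symm (m.comm_of n1 v1 o1).symm p
      ((m.eq2 v2 n1).not.2 s')) (m.mem _ v2).2.1 ((m.eq2 v2 n2).not.2 (sum_ne d6).1)
    ((m.eq2 v2 v1).not.2 fun k => d1 (add_right_cancel (add_right_cancel k)).symm)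

theorem I4.false (hL : ∀ x ∈ D, MO2 (H28.nb D x)) (hd : d ∈ D) (m : Md T τ (H28.nb D d)) (h : I4 T a b c e) : False := by
  have k1 := h.key hL hd m
  have k2 := h.swap.key hL hd m
  have s' := h.swap.s
  obtain ⟨n1, n2, n3, n4, ⟨h1, h2, h3, h4, h5, h6⟩, ⟨d1, d2, d3, d4, d5, d6⟩, s⟩ := h
  have k : ∀ u v, NV T u → NV T v → v ≠ u → T.h u v = 0 → τ v ∈ H28.nb D (τ u) := fun u v hu hv n o =>
    ⟨(m.mem v hv).1, (m.eq2 hv hu).not.2 n, m.comm_of hu hv o⟩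
  have v1 := nv_sum n1 n3 n4 h2 h3 h6
  have v2 := nv_sum n2 n3 n4 h4 h5 h6
  have := (hL _ (m.mem a n1).1).uniq (k a b n1 n2 d1.symm h1) (k a c n1 n3 d2.symm h2) (k a e n1 n4 d3.symm h3)
    (m.comm_of n2 n3 h4) (m.comm_of n2 n4 h5) (m.comm_of n3 n4 h6) k1 ((m.eq2 v2 n2).not.2 (sum_ne d6).1)
    ((m.eq2 v2 n3).not.2 (sum_ne d5).2.1) ((m.eq2 v2 n4).not.2 (sum_ne d4).2.2)
    (Pl.tr (m.mem b n2).1 (k b a n2 n1 d1 (T.h_swap_zero h1)) (m.comm_of n1 n3 h2).symm (m.comm_of n1 n4 h3).symm k2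
      ((m.eq2 v1 n1).not.2 (sum_ne d6).1)) ((m.eq2 v1 n2).not.2 s) ((m.eq2 v1 n3).not.2 (sum_ne d3).2.1)
    ((m.eq2 v1 n4).not.2 (sum_ne d2).2.2)
  exact d1 (add_right_cancel (add_right_cancel ((m.eq2 v1 v2).1 this)))
end

theorem loc_minus (hL : ∀ x ∈ D, MO2 (nb D x)) (hd : d ∈ D) (h4 : D4 (nb D d)) : MO3 5 (nb D d) := by
  obtain ⟨n, T, τ, m, h6⟩ := hL d hd
  obtain ⟨e, he, a, ha, b, hb, c, hc, d1, d2, d3, c1, c2, c3, n1, n2, n3⟩ := h4
  obtain ⟨e, e0, rfl⟩ := m.surj e he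
  obtain ⟨a, a0, rfl⟩ := m.surj a ha
  obtain ⟨b, b0, rfl⟩ := m.surj b hb
  obtain ⟨c, c0, rfl⟩ := m.surj c hc
  rw [m.comm2 rfl (by assumption) (by assumption)] at c1 c2 c3 n1 n2 n3
  replace n1 := (z2_cases _).resolve_left n1
  replace n2 := (z2_cases _).resolve_left n2
  replace n3 := (z2_cases _).resolve_left n3
  have c1' := T.h_swap_zero c1
  have c2' := T.h_swap_zero c2
  have k : ∀ u, NV T u → T.h a u = 0 → T.h b u = 0 → T.h c u = 0 → u = a ∨ u = b ∨ u = c ∨ u = a + b + c :=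
    fun u hu o1 o2 o3 => by
      by_contra! k
      exact I4.false hL hd m ⟨a0, hu, b0, c0, ⟨o1, c1, c2, T.h_swap_zero o2, T.h_swap_zero o3, c3⟩,
        ⟨k.1.symm, mt (congrArg τ) d1, mt (congrArg τ) d2, k.2.1, k.2.2.1, mt (congrArg τ) d3⟩, k.2.2.2.symm⟩
  have k0 : ∀ u, T.q u = 0 → T.h a u = 0 → T.h b u = 0 → T.h c u = 0 →
      u ∈ Submodule.span (ZMod 2) {a + b, a + c} := fun u q o1 o2 o3 => by
    have e : u = a + (a + u) := by rw [← add_assoc, v2_add, zero_add]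
    rcases k (a + u) (by rw [nv_o2, orth_q_add, nv_o2.1 a0, q, o1]; rfl) (by simp [o2_self, o1]) (by simp [c1', o2])
      (by simp [c2', o3]) with h | h | h | h <;> rw [e, h, Submodule.mem_span_pair]
    exacts [⟨0, 0, by simp [v2_add]⟩, ⟨1, 0, by simp⟩, ⟨0, 1, by simp⟩, ⟨1, 1, by simp only [one_smul]; abel⟩]
  have k1 : ∀ u, T.h a u = 0 → T.h b u = 0 → T.h c u = 0 → T.h e u = T.q u := fun u o1 o2 o3 => by
    rcases z2_cases (T.q u) with q | q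
    · obtain ⟨i, j, rfl⟩ := Submodule.mem_span_pair.1 (k0 u q o1 o2 o3)
      rw [q]; simp [n1, n2, n3, z2_add]
    · rcases k u (nv_o2.2 q) o1 o2 o3 with h | h | h | h <;> rw [q, h]
      exacts [n1, n2, n3, by simp only [map_add, n1, n2, n3]; rfl]
  have f6 : finrank (ZMod 2) (Fin n → ZMod 2) = 2 * (2 + 1) := by
    have h1 := m.nd.finrank_perp (Submodule.span (ZMod 2) {a, b, c})
    have h2 : T.perp (Submodule.span (ZMod 2) {a, b, c}) ≤ Submodule.span (ZMod 2) {a, b, c} := fun u hu => by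
      simp only [mem_perp_span, Set.forall_mem_insert, Set.mem_singleton_iff, forall_eq] at hu
      rw [Submodule.mem_span_triple]
      rcases z2_cases (T.q u) with q | q
      · obtain ⟨i, j, rfl⟩ := Submodule.mem_span_pair.1 (k0 u q hu.1 hu.2.1 hu.2.2)
        exact ⟨i + j, i, j, by module⟩
      · rcases k u (nv_o2.2 q) hu.1 hu.2.1 hu.2.2 with h | h | h | h <;> rw [h]
        exacts [⟨1, 0, 0, by simp⟩, ⟨0, 1, 0, by simp⟩, ⟨0, 0, 1, by simp⟩, ⟨1, 1, 1, by simp⟩]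
    have h3 := Submodule.finrank_mono h2
    rw [finrank_three a0.1 b0.1 c0.1 (mt (congrArg τ) d1) (mt (congrArg τ) d2) (mt (congrArg τ) d3)
      (nv_sum a0 b0 c0 c1 c2 c3).1] at h1 h3
    simp only [finrank_fintype_fun_eq_card, Fintype.card_fin] at h1 ⊢
    omega
  have ts : T.TS (Submodule.span (ZMod 2) {a + b, a + c}) := ts_span (by
    simp [orth_sing, orth_q_add, nv_o2.1 a0, nv_o2.1 b0, nv_o2.1 c0, c1, c2, z2_add])
    (by simp [o2_self, c1, c2, c3, c1', c2', T.h_swap_zero c3])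
  obtain ⟨τ', m'⟩ := m.eqv (m.nd.eqv_sMinus f6 (fun ⟨U, hU, e3⟩ => by
    have h1 := ts.finrank_le_of_maximal m.nd (fun u hu q => by
      simp only [mem_perp_pair, map_add, LinearMap.add_apply] at hu
      rw [orth_sing] at q
      rcases z2_cases (T.h a u) with o | o
      · exact k0 u q o (by simpa [o] using hu.1) (by simpa [o] using hu.2)
      have := k1 (e + u) (by rw [map_add, T.orth_symm e, n1, o]; rfl) (by rw [map_add, T.orth_symm e, n2, ← o, hu.1])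
        (by rw [map_add, T.orth_symm e, n3, ← o, hu.2])
      simp [orth_q_add, o2_self, nv_o2.1 e0, q] at this) hU
    have h2 := finrank_span_le_card (R := ZMod 2) ({a + b, a + c} : Set (Fin n → ZMod 2))
    have h3 : ({a + b, a + c} : Set (Fin n → ZMod 2)).toFinset.card ≤ 2 := by simpa using Finset.card_le_two
    omega) aniso_two).symm
  exact m'.mo3_of_minus

theorem conj_inv_eq {s r : G} (k : Commute s r) (e : s * a * s⁻¹ = r * a * r⁻¹) : s⁻¹ * a * s = r⁻¹ * a * r :=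
  calc s⁻¹ * a * s = s⁻¹ * r⁻¹ * (r * a * r⁻¹) * (r * s) := by group
    _ = r⁻¹ * s⁻¹ * (s * a * s⁻¹) * (s * r) := by rw [← e, k.eq, k.inv_inv.eq]
    _ = _ := by group

/-- an affine triple -/
structure Aff (D : Set G) (d a c : G) : Prop where
  md : d ∈ D
  ma : a ∈ D
  mc : c ∈ D
  n1 : ¬ Commute d a
  n2 : ¬ Commute d c
  n3 : ¬ Commute a c
  n4 : ¬ Commute c (d * a * d)

namespace Aff
variable (hD : T3 D) (h : Aff D d a c)
include hD h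

theorem swap : Aff D d c a := ⟨h.md, h.mc, h.ma, h.n2, h.n1, fun c => h.n3 c.symm, fun c =>
  h.n4 ((nc_conj_self (t3_sq hD.t3 h.md)).1 c).symm⟩

omit hD in
theorem nc (hS : ∀ x ∈ D, SY (nb D x)) (hy : y ∈ Sp D d c) : ¬ Commute y a := fun k =>
  h.n4 (hS y hy.1 d ⟨h.md, fun e => h.n1 (e ▸ k), hy.2.1.symm⟩ a ⟨h.ma, fun e => h.n1 (e ▸ hy.2.1), k⟩ c
    ⟨h.mc, fun e => h.n2 (e ▸ hy.2.1), hy.2.2.symm⟩ h.n1 h.n2 h.n3)

theorem k1 (hS : ∀ x ∈ D, SY (nb D x)) (hy : y ∈ Sp D d c) :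
    ¬ Commute y (a * d * c * d * a) ∧ ¬ Commute y (d * a * c * a * d) := by
  have b := t3_braid hD.t3 h.ma hy.1 fun k => h.nc hS hy k.symm
  have y2 := t3_sq hD.t3 hy.1
  have k : ∀ u, Commute u y → Commute y (a * u * a) → Commute u a := fun u c k => by
    rw [nc_conj_self (t3_sq hD.t3 h.ma), b] at k
    exact (comm_conj_iff y2 c).1 k.symm
  refine ⟨fun e => (h.swap hD).n4 (k _ ((hy.2.1.mul_left hy.2.2).mul_left hy.2.1) (by simpa only [mul_assoc] using e)).symm,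
    fun e => h.n3 (k _ hy.2.2 ((comm_conj_iff (t3_sq hD.t3 h.md) hy.2.1.symm).1 (by simpa only [mul_assoc] using e))).symm⟩

theorem par (hS : ∀ x ∈ D, SY (nb D x)) (hy : y ∈ Sp D d c) : ∃ w ∈ Sp D d c, ¬ Commute y w ∧
    y * w * a * w * y = c * d * a * d * c ∧ w * y * a * y * w = d * c * a * c * d := by
  obtain ⟨w, hw, c1, c2, e⟩ := siegel hD h.ma h.mc h.md hy.1 hy.2.2.symm hy.2.1.symm (h.nc hS hy) h.n3
    (fun k => h.n1 k.symm) (h.swap hD).n4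
  have y2 := t3_sq hD.t3 hy.1
  have w2 := t3_sq hD.t3 hw
  have c2' := t3_sq hD.t3 h.mc
  have d2 := t3_sq hD.t3 h.md
  have k : Commute (y * w) (c * d) := (hy.2.2.symm.mul_left c1).mul_right (hy.2.1.symm.mul_left c2)
  have e1 := conj_inv_eq k (a := a) (by rw [e, mul_inv_rev c, inv_of_sq c2', inv_of_sq d2, ← mul_assoc])
  simp only [mul_inv_rev, inv_of_sq y2, inv_of_sq w2, inv_of_sq c2', inv_of_sq d2, ← mul_assoc] at e e1
  refine ⟨w, ⟨hw, c2.symm, c1.symm⟩, fun k => h.n3 (t3_two hD.t3 h.mc h.md h.ma (fun e => h.n2 (e ▸ Commute.refl _))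
    ?_).1, e, e1⟩
  have b := t3_braid hD.t3 h.mc h.md fun k => h.n2 k.symm
  have e2 : c * d * a * d * c = d * c * a * c * d := by
    rw [← e, ← e1, k.eq, mul_assoc _ w y, ← k.eq, mul_assoc _ y w]
  have : Commute a (c * d * c * d) := by
    have := congrArg (fun u => c * d * u * (c * d)) e2
    simp only [mul_assoc, canc c2', canc d2, c2', d2, mul_one] at this
    simpa only [Commute, SemiconjBy, mul_assoc] using this.symm
  rw [b, mul_assoc, d2, mul_one] at this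
  simpa only [mul_inv_rev, inv_of_sq c2', inv_of_sq d2] using this.inv_right

theorem pair (hS : ∀ x ∈ D, SY (nb D x)) (hx : x ∈ Sp D d a) (hy : y ∈ Sp D d c) :
    ∃ x ∈ Sp D d a, ∃ y ∈ Sp D d c, Commute x y := by
  by_contra! k
  obtain ⟨w, hw, n, -⟩ := h.par hD hS hy
  have m : ∀ u ∈ Sp D d c, u ∈ nb D d := fun u hu => ⟨hu.1, fun e => h.n2 (e ▸ hu.2.2.symm), hu.2.1⟩
  exact k x hx _ ((hD.Sp d c).cl y hy w hw) (hS d h.md y (m y hy) w (m w hw) x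
    ⟨hx.1, fun e => h.n1 (e ▸ hx.2.2.symm), hx.2.1⟩ n (fun e => k x hx y hy e.symm) fun e => k x hx w hw e.symm)

theorem nc' (hS : ∀ x ∈ D, SY (nb D x)) (hx : x ∈ Sp D d a) (hy : y ∈ Sp D d c) (k : Commute x y) :
    ∃ w ∈ Sp D d a, ¬ Commute x w ∧ ¬ Commute y (w * x * c * x * w) ∧
      ¬ Commute y (x * w * x * x * c * x * (x * w * x)) := by
  obtain ⟨w, hw, n, e1, e2⟩ := (h.swap hD).par hD hS hx
  have x2 := t3_sq hD.t3 hx.1
  refine ⟨w, hw, n, e2 ▸ (h.k1 hD hS hy).2, ?_⟩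
  simp only [mul_assoc, canc x2] at e1 ⊢
  simpa only [e1, mul_assoc] using (h.k1 hD hS hy).1

theorem d4 (hS : ∀ x ∈ D, SY (nb D x)) (hx : x ∈ Sp D d a) (hy : y ∈ Sp D d c) (k : Commute x y) : D4 (nb D d) := by
  have m : ∀ u ∈ Sp D d c, u ∈ nb D d := fun u hu => ⟨hu.1, fun e => h.n2 (e ▸ hu.2.2.symm), hu.2.1⟩
  have m' : ∀ u ∈ Sp D d a, u ∈ nb D d := fun u hu => ⟨hu.1, fun e => h.n1 (e ▸ hu.2.2.symm), hu.2.1⟩
  obtain ⟨y', hy', n', e', -⟩ := (h.swap hD).nc' hD hS hy hx k.symm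
  have n1 : ¬ Commute x y' := fun j => e' ((((j.mul_right k).mul_right hx.2.2.symm).mul_right k).mul_right j)
  obtain ⟨w, hw, n, e, j⟩ : ∃ w ∈ Sp D d a, ¬ Commute x w ∧ ¬ Commute y (w * x * c * x * w) ∧ Commute y' w := by
    obtain ⟨w, hw, n, e1, e2⟩ := h.nc' hD hS hx hy k
    by_cases j : Commute w y'
    · exact ⟨w, hw, n, e1, j.symm⟩
    · exact ⟨_, (hD.Sp d a).cl x hx w hw, fun j => n ((comm_conj_iff (t3_sq hD.t3 hx.1) (Commute.refl x)).1 j), e2,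
        hS d h.md x (m' x hx) w (m' w hw) y' (m y' hy') n n1 j⟩
  have n2 : ¬ Commute w y := fun j =>
    e ((((j.symm.mul_right k.symm).mul_right hy.2.2.symm).mul_right k.symm).mul_right j.symm)
  have t := hD.nb d
  have mu := t.cl w (m' w hw) y (m y hy)
  have b1 := fun z hz => (hS d h.md).bz_conj t (m' w hw) (m y hy) (z := z) hz n2
  have n3 : ¬ Commute x (w * y * w) := by rw [← bz_eq, b1 x (m' x hx), bz_n n, bz_c k]; decide
  have b2 := fun z hz => ((hS d h.md).bz_conj t (m' x hx) mu (z := z) hz n3).trans (congrArg _ (b1 z hz))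
  have x2 := t3_sq hD.t3 hx.1
  have w2 := t3_sq hD.t3 hw.1
  refine ⟨x, m' x hx, w, m' w hw, y', m y' hy', _, t.cl x (m' x hx) _ mu, fun e => ?_, fun e => ?_, fun e' => e ?_,
    j.symm, ?_, ?_, n, n1, ?_⟩
  · exact (h.swap hD).nc hS hw (e ▸ hy'.2.2.symm)
  · refine (h.swap hD).nc hS hx ((?_ : y = x) ▸ hy.2.2.symm)
    have := congrArg (fun u => w * (x * u * x) * w) e
    simp only [mul_assoc, canc x2, canc w2, x2, w2, mul_one] at this
    have b := t3_braid hD.t3 hx.1 hw.1 n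
    simp only [mul_assoc] at b
    rw [← this, ← mul_assoc x w, ← mul_assoc (x * w), mul_assoc x w x, b]
    simp only [mul_assoc, canc w2, w2, mul_one]
  · have := hy'.2.2
    rw [e', nc_conj_self x2, nc_conj_self w2] at this
    simpa only [mul_assoc] using this.symm
  · rw [← bz_eq, b2 w (m' w hw), bz_n fun j => n j.symm, bz_c (Commute.refl w), bz_n n2]; decide
  · rw [← bz_eq, b2 y' (m y' hy'), bz_n fun j => n1 j.symm, bz_c j, bz_n fun j => n' j.symm]; decide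
  · rw [← bz_eq, b2 x (m' x hx), bz_c (Commute.refl x), bz_n n, bz_c k]; decide

end Aff

theorem Ln.tr (hp : p ∈ D) (hx : x ∈ nb D p) (c1 : Commute y p) (h : w ∈ Ln (nb D x) p y) (n : w ≠ p) :
    w ∈ Ln (nb D p) x y :=
  ⟨⟨h.1.1, n, (h.2 p (nb_symm hp hx) (Commute.refl p) c1).symm⟩, fun e he e1 e2 => by
    by_cases k : e = x
    exacts [k ▸ h.1.2.2.symm, h.2 e ⟨he.1, k, e1⟩ he.2.2 e2]⟩

/-- locally symplectic spaces which are not symplectic -/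
theorem PC.caseC1 [Finite G] (hD : PC D) (hl : ∀ x ∈ D, PC (ins (nb D x))) (hS : ∀ x ∈ D, SY (nb D x)) (n : ¬ SY D) :
    ∀ x ∈ D, MO3 5 (nb D x) := by
  obtain ⟨d, a, c, h⟩ : ∃ d a c, Aff D d a c := by
    by_contra! k
    exact n fun x hx y hy z hz n1 n2 n3 => by_contra fun n4 => k x y z ⟨hx, hy, hz, n1, n2, n3, n4⟩
  obtain ⟨x, hx⟩ := hD.sp_ne h.md h.ma h.n1
  obtain ⟨y, hy⟩ := hD.sp_ne h.md h.mc h.n2
  obtain ⟨x, hx, y, hy, k⟩ := h.pair hD.T3 hS hx hy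
  have n1 := h.nc hS hy
  have n2 := (h.swap hD.T3).nc hS hx
  have mx : x ∈ nb D d := ⟨hx.1, fun e => h.n1 (e ▸ hx.2.2.symm), hx.2.1⟩
  have my : y ∈ nb D d := ⟨hy.1, fun e => h.n2 (e ▸ hy.2.2.symm), hy.2.1⟩
  have ne : y ≠ x := fun e => n1 (e ▸ hx.2.2.symm)
  have hV : ∀ q ∈ nb D d, VT (nb (nb D d) q) := fun q hq => by_contra fun v => by
    have B := lb_of (hl d h.md) hq v
    have o : ∀ {x y a}, x ∈ nb D d → y ∈ nb D d → y ≠ x → Commute x y → a ∈ D → Commute x a → ¬ Commute d a →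
        ¬ Commute y a → ∃ z ∈ Ln (nb D d) x y, z ≠ x ∧ z ≠ y ∧ Commute a z := fun {x y a} mx my ne k ha c1 c2 c3 => by
      have dx := nb_symm h.md mx
      obtain ⟨z, hz, cz⟩ := (lb_of (hl x mx.1) dx (nb_comm d x ▸ B.nvt x mx)).ooa d dx y ⟨⟨my.1, ne, k⟩, my.2⟩ a
        ⟨ha, fun e => c2 (e ▸ mx.2.2), c1⟩
      exact ⟨z, Ln.tr h.md mx my.2.2.symm hz fun e => c2 (e ▸ cz.symm), hz.1.2.1, fun e => c3 (e ▸ cz.symm), cz⟩
    obtain ⟨z, hz, z1, z2, z3⟩ := o mx my ne k h.ma hx.2.2.symm h.n1 n1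
    obtain ⟨w, hw, w1, w2, w3⟩ := o my mx ne.symm k.symm h.mc hy.2.2.symm h.n2 n2
    rw [Ln_symm] at hw
    obtain rfl := ((eq_of_three (B.three (hS d h.md) x mx y ⟨my, ne, k⟩) (Ln.left mx) (Ln.right my) hz ne.symm z1.symm
      z2.symm hw).resolve_left w2).resolve_left w1
    exact h.nc hS ⟨hz.1.1, hz.1.2.2, w3⟩ z3.symm
  have h4 := h.d4 hD.T3 hS hx hy k
  have f := fi_ins (hD.T3.nb d)
  have m := f.mo2 ((hl d h.md).mo2 (f.sy_iff.1 (hS d h.md)) (fun q hq => (f.nb hq).vt_iff.1 (hV _ hq)) (d4_ins.2 h4))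
  have m' := loc_minus (fun x hx => (hD.fi_nb h.md hx).elim fun _ f => f.mo2 m) h.md h4
  exact fun x hx => (hD.fi_nb h.md hx).elim fun _ f => f.mo3 m'

end H28
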