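import Cfsg.Agent.H28.Tab

/-! Locally unitary Fischer spaces: local dimension five and at least seven do not occur. -/

namespace H28
open Cfsg Subgroup H11 H11.PForm Module

variable {G X : Type*} [Group G] [Group X] {D E : Set G} {E' : Set X} {β : G → X} {x y z d c p : G}

theorem FI.mem_Ln (h : FI β E E') (hx : x ∈ E) (hy : y ∈ E) (hz : z ∈ E) : β z ∈ Ln E' (β x) (β y) ↔ z ∈ Ln E x y := by
  simp only [Ln, Set.mem_ofPred_eq, h.mem hz, hz, true_and, h.all]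
  exact forall₂_congr fun e he => by rw [h.comm hx he, h.comm hy he, h.comm hz he]

theorem FI.all_Ln (h : FI β E E') (hx : x ∈ E) (hy : y ∈ E) {P : X → Prop} :
    (∀ z ∈ Ln E' (β x) (β y), P z) ↔ ∀ z ∈ Ln E x y, P (β z) :=
  ⟨fun k z hz => k _ ((h.mem_Ln hx hy hz.1).2 hz), fun k w hw => by
    obtain ⟨z, hz, rfl⟩ := h.bij.surjOn hw.1
    exact k z ((h.mem_Ln hx hy hz).1 hw)⟩

theorem FI.ncard_Ln (h : FI β E E') (hx : x ∈ E) (hy : y ∈ E) : (Ln E' (β x) (β y)).ncard = (Ln E x y).ncard := by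
  have : Set.BijOn β (Ln E x y) (Ln E' (β x) (β y)) := ⟨fun z hz => (h.mem_Ln hx hy hz.1).2 hz,
    h.bij.injOn.mono fun _ h => h.1, (h.all_Ln hx hy (P := fun w => w ∈ β '' Ln E x y)).2 fun z hz => ⟨z, hz, rfl⟩⟩
  exact this.ncard_eq.symm

theorem FI.vt_iff (h : FI β E E') : VT E' ↔ VT E := ⟨h.symm.elim fun _ k => k.1.vt, h.vt⟩
theorem FI.sy_iff (h : FI β E E') : SY E' ↔ SY E := ⟨h.symm.elim fun _ k => k.1.sy, h.sy⟩

/-- the line properties of a space with thick lines -/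
structure LB (E : Set G) : Prop where
  ooa : ∀ p ∈ E, ∀ q ∈ nb E p, ∀ a ∈ E, ∃ z ∈ Ln E p q, Commute a z
  five : ∀ p ∈ E, ∀ q ∈ nb E p, (Ln E p q).ncard ≤ 5
  three : SY E → ∀ p ∈ E, ∀ q ∈ nb E p, (Ln E p q).ncard = 3
  all : ∀ p ∈ E, ∀ q ∈ nb E p, ∀ u ∈ Ln E p q, ∀ v ∈ Ln E p q, u ≠ v → ∀ a ∈ E, Commute a u → Commute a v →
    ∀ z ∈ Ln E p q, Commute a z
  nvt : ∀ p ∈ E, ¬ VT (nb E p)

variable [Finite G]

theorem lb_of (h : PC (ins E)) (hp : p ∈ E) (n : ¬ VT (nb E p)) : LB E := by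
  have f := fi_ins (lc_of_ins h.toTC).t3
  have b := h.cb (d := inE hp) hp (mt (f.nb (x := inE hp) hp).vt n)
  refine ⟨f.all.2 fun p hp => (f.nb hp).all.2 fun q hq => f.all.2 fun a ha => ?_,
    f.all.2 fun p hp => (f.nb hp).all.2 fun q hq => f.ncard_Ln hp hq.1 ▸ b.le_five hp hq,
    fun s => f.all.2 fun p hp => (f.nb hp).all.2 fun q hq => f.ncard_Ln hp hq.1 ▸ b.three (f.sy_iff.1 s) p hp q hq,
    f.all.2 fun p hp => (f.nb hp).all.2 fun q hq => (f.all_Ln hp hq.1).2 fun u hu => (f.all_Ln hp hq.1).2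
      fun v hv ne => f.all.2 fun a ha c1 c2 => (f.all_Ln hp hq.1).2 fun z hz => comm_ins.1
        (h.all hp hq hu hv (mt (congrArg _) ne) ha (comm_ins.2 c1) (comm_ins.2 c2) hz),
    f.all.2 fun p hp => mt (f.nb hp).vt_iff.1 (b.not_vt hp)⟩
  obtain ⟨z, hz, c⟩ := b.ooa hp hq ha
  exact ⟨_, (f.mem_Ln hp hq.1 hz.1).2 hz, comm_ins.1 c⟩

section
variable {W : Type*} [AddCommGroup W] [Module K4 W] {S : PForm UP W} {τ : W → G}

omit [Finite G] in
theorem Md.indep (m : Md S τ E) {u v : W} (hu : NV S u) (hv : NV S v) (ne : τ u ≠ τ v) {a b : K4}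
    (e : a • u + b • v = 0) : a = 0 ∧ b = 0 := by
  have : b = 0 := by_contra fun n => ne ((m.inj u v hu hv).2 ⟨b⁻¹ * a, by
    rw [mul_smul, eq_neg_of_add_eq_zero_left e, smul_neg, inv_smul_smul₀ n, eq_neg_iff_add_eq_zero, v4_add]⟩)
  rw [this, zero_smul, add_zero, smul_eq_zero] at e
  exact ⟨e.resolve_right hu.1, this⟩

omit [Finite G] in
theorem Md.line (m : Md S τ E) {u t : W} (hu : NV S u) (ht : NV S t) (ne : τ u ≠ τ t) (o : S.h u t = 0) :
    (∀ k : K4, NV S (k • u + t)) ∧ (∀ k : K4, τ (k • u + t) ≠ τ u) ∧ Function.Injective fun k : K4 => τ (k • u + t) := by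
  have nv : ∀ k : K4, NV S (k • u + t) := fun k => nv_unit.2 ⟨fun e => one_ne_zero
    (m.indep hu ht ne (a := k) (b := 1) (by rwa [one_smul])).2, by
      simp [o, (nv_unit.1 hu).2, (nv_unit.1 ht).2, S.h_swap_zero o]⟩
  refine ⟨nv, fun k e => ?_, fun k l e => ?_⟩
  · obtain ⟨a, e⟩ := (m.inj _ _ hu (nv k)).1 e.symm
    exact one_ne_zero (m.indep hu ht ne (a := k - a) (b := 1) (by linear_combination (norm := module) e)).2
  · obtain ⟨a, e⟩ := (m.inj _ _ (nv k) (nv l)).1 e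
    obtain ⟨h1, h2⟩ := m.indep hu ht ne (a := l - a * k) (b := 1 - a) (by linear_combination (norm := module) e)
    linear_combination (-1 : K4) * h1 + k * h2

/-- the action of three transvections on coordinates -/
def st3 (a b e : K4) (x : K4 × K4 × K4) : K4 × K4 × K4 :=
  let γ := x.2.2 + (fr b * x.1 + fr e * x.2.1)
  let β := x.2.1 + (fr a * x.1 + e * γ)
  (x.1 + (a * β + b * γ), β, γ)

theorem st3_chk : ∀ a b e k : K4, a ≠ 0 → b ≠ 0 → e ≠ 0 → fr e + a * fr b ≠ 0 → k ≠ 0 →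
    ∃ l, l ≠ k ∧ st3 a b e (st3 a b e (k, 0, 0)) = (l, 0, 0) := by decide

/-- no affine triple perpendicular to a point outside the `μ`-set -/
theorem na (hD : T3 D) (hl : ∀ x ∈ D, PC (ins (nb D x))) (hd : d ∈ D) (m : Md S τ (nb D d)) (hc : c ∈ An D d)
    {t v₁ v₂ v₃ : W} (ht : NV S t) (n1 : NV S v₁) (n2 : NV S v₂) (n3 : NV S v₃) (o1 : S.h v₁ t = 0) (o2 : S.h v₂ t = 0)
    (o3 : S.h v₃ t = 0) (n : ¬ Commute c (τ t)) (c1 : Commute c (τ v₁)) (c2 : Commute c (τ v₂)) (c3 : Commute c (τ v₃))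
    (a1 : S.h v₁ v₂ ≠ 0) (a2 : S.h v₁ v₃ ≠ 0) (a3 : S.h v₂ v₃ ≠ 0) (a4 : S.h v₃ (v₂ + S.h v₁ v₂ • v₁) ≠ 0) : False := by
  obtain ⟨nv, ne, inj⟩ := m.line n1 ht (fun e => n (e ▸ c1)) o1
  have s1 := m.mem _ n1
  have z1 := (nv_unit.1 n1).2
  have mu : ∀ k : K4, τ (k • v₁ + t) ∈ nb (nb D (τ v₁)) d := fun k => nb_comm d _ ▸
    ⟨m.mem _ (nv k), ne k, m.comm_of n1 (nv k) (by simp [z1, o1])⟩
  have cu : ∀ k : K4, ∀ e ∈ nb (nb D (τ v₁)) d, Commute (τ (k • v₁ + t)) e ↔ Commute (τ ((0 : K4) • v₁ + t)) e :=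
    fun k e he => by
      rw [nb_comm] at he
      obtain ⟨y, hy, rfl⟩ := m.surj e he.1
      have := (m.comm2 K4.two n1 hy).1 he.2.2
      simp only [m.comm2 K4.two (nv _) hy, map_add, LinearMap.add_apply, h_smul_left, this, mul_zero]
  have hd' := nb_symm hd s1
  have B := lb_of (hl _ s1.1) hd' fun v => one_ne_zero (inj (v _ (mu 0) _ (mu 1) (cu 1)))
  have ln : ∀ k : K4, τ (k • v₁ + t) ∈ Ln (nb D (τ v₁)) d (τ ((0 : K4) • v₁ + t)) := fun k => ⟨(mu k).1, fun e he e1 e2 => by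
    by_cases h : e = d
    exacts [h ▸ (mu k).2.2.symm, (cu k e ⟨he, h, e1⟩).2 e2]⟩
  have hc' : c ∈ nb D (τ v₁) := ⟨hc.1, fun e => hc.2 (e ▸ s1.2.2), c1.symm⟩
  obtain ⟨z, hz, cz⟩ := B.ooa d hd' _ (mu 0) c hc'
  obtain ⟨k, rfl⟩ : ∃ k : K4, τ (k • v₁ + t) = z := by
    have : z ∈ insert d (Set.range fun k : K4 => τ (k • v₁ + t)) := by
      rw [Set.eq_of_subset_of_ncard_le (Set.insert_subset (Ln.left hd') (Set.range_subset_iff.2 ln))]
      · exact hz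
      · rw [Set.ncard_insert_of_notMem (fun h => h.elim fun k e => (mu k).2.1 e), ← Set.image_univ,
          Set.ncard_image_of_injective _ inj, Set.ncard_univ, k4_card]
        exact B.five d hd' _ (mu 0)
    exact this.resolve_left fun e => hc.2 (e ▸ cz).symm
  let Y : K4 × K4 × K4 → W := fun x => x.1 • v₁ + x.2.1 • v₂ + x.2.2 • v₃ + t
  have st : ∀ {u x}, NV S u → Commute c (τ u) → NV S x ∧ Commute c (τ x) →
      NV S (x + S.h u x • u) ∧ Commute c (τ (x + S.h u x • u)) := fun hu cu h =>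
    ⟨hu.op h.1, by rw [← m.conj _ _ hu h.1, comm_conj_iff (m.sq hu) cu]; exact h.2⟩
  have s3 : ∀ x, NV S (Y x) ∧ Commute c (τ (Y x)) → NV S (Y (st3 (S.h v₁ v₂) (S.h v₁ v₃) (S.h v₂ v₃) x)) ∧
      Commute c (τ (Y (st3 (S.h v₁ v₂) (S.h v₁ v₃) (S.h v₂ v₃) x))) := fun x h => by
    refine (?_ : _ = Y _) ▸ st n1 c1 (st n2 c2 (st n3 c3 h))
    simp only [Y, st3, map_add, map_smul, z1, (nv_unit.1 n2).2, (nv_unit.1 n3).2, o1, o2, o3, u_symm S v₁ v₂,
      u_symm S v₁ v₃, u_symm S v₂ v₃, smul_eq_mul]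
    module
  have e0 : ∀ k, Y (k, 0, 0) = k • v₁ + t := fun k => by simp [Y]
  obtain ⟨l, hl, e⟩ := st3_chk _ _ _ k a1 a2 a3 (by simpa [u_symm S v₂ v₃, u_symm S v₁ v₃] using a4)
    (by rintro rfl; simp [n] at cz)
  have := (s3 _ (s3 (k, 0, 0) (e0 k ▸ ⟨nv k, cz⟩))).2
  rw [e, e0] at this
  exact hc.2 (B.all d hd' _ (mu 0) _ (ln l) _ (ln k) (inj.ne hl) c hc' this cz d (Ln.left hd')).symm

omit [Finite G] in
theorem line_meet [FiniteDimensional K4 W] (hD : T3 D) (hd : d ∈ D) (m : Md S τ (nb D d)) (h5 : finrank K4 W ≤ 5)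
    (hc : c ∈ An D d) {t y : W} (ht : NV S t) (hy : NV S y) (ne : τ t ≠ τ y) (o : S.h t y = 0) (n : ¬ Commute c (τ t)) :
    ∃ k : K4, Commute c (τ (k • t + y)) := by
  by_contra! h
  obtain ⟨nv, ne', inj⟩ := m.line ht hy ne o
  obtain ⟨t0, t1⟩ := nv_unit.1 ht
  let L : Option K4 → W := fun o => o.elim t fun k => k • t + y
  have l1 : ∀ o, NV S (L o) := by rintro (_ | k); exacts [ht, nv k]
  let e := (Fintype.equivFinOfCardEq (α := Option K4) (n := 5) rfl).symm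
  refine no_six hD (fun i => τ (L (e i))) hc.1 hd (fun i => m.mem _ (l1 _)) (fun i j => m.comm_of (l1 _) (l1 _) ?_)
    (Function.Injective.comp (g := fun o => τ (L o)) ?_ e.injective) (fun h => hc.2 h.symm) (fun i => ?_)
    fun i j ij r hr c1 c2 => ?_
  · rcases e i with _ | k <;> rcases e j with _ | l <;> simp [L, t1, o, (nv_unit.1 hy).2, S.h_swap_zero o]
  · rintro (_ | k) (_ | l) h
    exacts [rfl, absurd h.symm (ne' l), absurd h (ne' k), congrArg _ (inj h)]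
  · rcases e i with _ | k
    exacts [n, h k]
  obtain ⟨z, hz, rfl⟩ := m.surj r hr
  rw [m.comm2 K4.two (l1 _) hz] at c1 c2
  have : S.h t z = 0 ∧ S.h y z = 0 := by
    have := e.injective.ne ij
    revert c1 c2 this
    rcases e i with _ | k <;> rcases e j with _ | l <;>
      simp only [L, Option.elim, map_add, LinearMap.add_apply, h_smul_left, ne_eq, Option.some.injEq]
    · simp
    · exact fun c1 c2 _ => ⟨c1, by simpa [c1] using c2⟩
    · exact fun c1 c2 _ => ⟨c2, by simpa [c2] using c1⟩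
    · intro c1 c2 h
      have : S.h t z = 0 := (mul_eq_zero.1 (show fr (k - l) * S.h t z = 0 by rw [map_sub]; linear_combination c1 - c2)).resolve_left
        ((map_ne_zero fr).2 (sub_ne_zero.2 h))
      exact ⟨this, by simpa [this] using c1⟩
  have sp : z ∈ Submodule.span K4 {t, y} := by
    by_contra n
    have ts := (ts_span (S := S) (s := {z, t, y}) (by
      simp [unit_sing, t1, (nv_unit.1 hy).2, (nv_unit.1 hz).2]) (by
      simp [t1, (nv_unit.1 hy).2, (nv_unit.1 hz).2, this.1, this.2, o, S.h_swap_zero o, S.h_swap_zero this.1,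
        S.h_swap_zero this.2])).two_mul_finrank_le m.nd
    have h1 : Submodule.span K4 {y} < Submodule.span K4 {t, y} := SetLike.lt_iff_le_and_exists.2
      ⟨Submodule.span_mono (by simp), t, Submodule.subset_span (by simp), fun h => by
        obtain ⟨a, e⟩ := Submodule.mem_span_singleton.1 h
        exact ne ((m.inj _ _ hy ht).2 ⟨a, e.symm⟩).symm⟩
    have h2 : Submodule.span K4 {t, y} < Submodule.span K4 {z, t, y} := SetLike.lt_iff_le_and_exists.2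
      ⟨Submodule.span_mono (by simp), z, Submodule.subset_span (by simp), n⟩
    have := Submodule.finrank_lt_finrank_of_lt h1
    have := Submodule.finrank_lt_finrank_of_lt h2
    have := finrank_span_singleton (K := K4) hy.1
    omega
  obtain ⟨a, b, rfl⟩ := Submodule.mem_span_pair.1 sp
  by_cases b0 : b = 0
  · exact ⟨e.symm none, by simpa [L] using ((m.inj _ _ ht hz).2 ⟨a, by simp [b0]⟩).symm⟩
  · exact ⟨e.symm (some (b⁻¹ * a)), by
      simpa [L] using ((m.inj _ _ (nv (b⁻¹ * a)) hz).2 ⟨b, by simp [smul_smul, b0]⟩).symm⟩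
end

/-- vectors in dimension five -/
def w5 : Fin 4 → Fin 5 → K4 := ![![1, 1, 0, 0, 0], ![0, 0, 1, 1, 0], ![0, 0, 0, 1, 1], ![0, 0, 1, 0, .w]]

theorem not_loc5 (hD : PC D) (hl : ∀ x ∈ D, PC (ins (nb D x))) (hd : d ∈ D) (h : MU 5 (nb D d)) : False := by
  obtain ⟨τ, m⟩ := h
  set S := stdUnit fr_fr fr_ne (Fin 5)
  have g : ∀ i j, S.h (w5 i) (w5 j) =
      (![![0, 0, 0, 0], ![0, 0, 1, 1], ![0, 1, 0, .w], ![0, 1, .v, 0]] : Fin 4 → Fin 4 → K4) i j := by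
    simp only [S, stdUnit_h]; decide
  have nv : ∀ i, NV S (w5 i) := fun i => nv_unit.2 ⟨by revert i; decide, by rw [g]; revert i; decide⟩
  obtain ⟨c, hc, c1, c2⟩ := hD.ncCon.common hD.T3 (hD.par hD.two) hd (m.mem _ (nv 0)).1 (m.mem _ (nv 0)).2.2
  have ne : ∀ i, i ≠ 0 → τ (w5 0) ≠ τ (w5 i) := fun i h e => by
    obtain ⟨k, e'⟩ := (m.inj _ _ (nv 0) (nv i)).1 e
    clear e; revert i k; decide
  have o : ∀ i, S.h (w5 0) (w5 i) = 0 := fun i => by rw [g]; revert i; decide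
  have o' : ∀ i, S.h (w5 i) (w5 0) = 0 := fun i => S.h_swap_zero (o i)
  have k := fun i h => line_meet hD.T3 hd m (by simp) ⟨hc, c1⟩ (nv 0) (nv i) (ne i h) (o i) fun h => c2 h.symm
  obtain ⟨k1, e1⟩ := k 1 (by decide)
  obtain ⟨k2, e2⟩ := k 2 (by decide)
  obtain ⟨k3, e3⟩ := k 3 (by decide)
  have l := fun i h => (m.line (nv 0) (nv i) (ne i h) (o i)).1
  refine na hD.T3 hl hd m ⟨hc, c1⟩ (nv 0) (l 1 (by decide) k1) (l 2 (by decide) k2) (l 3 (by decide) k3) ?_ ?_ ?_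
    (fun h => c2 h.symm) e1 e2 e3 ?_ ?_ ?_ ?_ <;>
  simp only [map_add, LinearMap.add_apply, h_smul_left, h_smul_right, o, o', mul_zero, add_zero, zero_add] <;>
  simp only [g] <;> decide

/-- vectors in dimension seven -/
def w7 : Fin 7 → Fin 7 → K4 := ![![1, 1, 0, 0, 0, 0, 0], ![1, .w, 0, 0, 0, 0, 0], ![1, 1, 1, 1, 0, 0, 0],
  ![0, 0, 0, 0, 1, 1, 0], ![0, 0, 0, 0, 0, 1, 1], ![0, 0, 0, 0, 1, 0, .w], ![0, 0, 1, .w, 0, 0, 0]]

theorem not_loc7 {n : ℕ} (hD : T3 D) (hl : ∀ x ∈ D, PC (ins (nb D x))) (hp : p ∈ D) (h : ∀ x ∈ D, MU (7 + n) (nb D x)) :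
    False := by
  obtain ⟨τ', m'⟩ := h p hp
  set S := stdUnit fr_fr fr_ne (Fin (7 + n))
  let w : Fin 7 → Fin (7 + n) → K4 := fun i => Fin.append (w7 i) 0
  have g : ∀ i j, S.h (w i) (w j) = ∑ k, fr (w7 i k) * w7 j k := fun i j => by
    simp [S, w, stdUnit_h, Fin.sum_univ_add]
  have nv : ∀ i, NV S (w i) := fun i => nv_unit.2 ⟨fun e => by
    have : ∀ k, w7 i k = 0 := fun k => by simpa [w] using congrFun e (Fin.castAdd n k)
    clear e; revert i; decide, by rw [g]; revert i; decide⟩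
  have cm : ∀ i j, Commute (τ' (w i)) (τ' (w j)) ↔ ∑ k, fr (w7 i k) * w7 j k = 0 := fun i j => by
    rw [m'.comm2 K4.two (nv i) (nv j), g]
  have md := fun i => (m'.mem _ (nv i)).1
  obtain ⟨τ, m⟩ := h _ (md 0)
  have ex : ∀ i j, Commute (τ' (w 0)) (τ' (w i)) → Commute (τ' (w j)) (τ' (w i)) ≠ Commute (τ' (w j)) (τ' (w 0)) →
      ∃ v, NV S v ∧ τ v = τ' (w i) := fun i j c n => m.surj _ ⟨md i, fun e => n (by rw [e]), c⟩
  obtain ⟨t, ht, e⟩ := ex 2 6 (by rw [cm]; decide) (by rw [cm, cm]; decide)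
  obtain ⟨v₁, n1, e1⟩ := ex 3 1 (by rw [cm]; decide) (by rw [cm, cm]; decide)
  obtain ⟨v₂, n2, e2⟩ := ex 4 1 (by rw [cm]; decide) (by rw [cm, cm]; decide)
  obtain ⟨v₃, n3, e3⟩ := ex 5 1 (by rw [cm]; decide) (by rw [cm, cm]; decide)
  have k := fun {u v} hu hv => (m.comm2 K4.two (u := u) (v := v) hu hv).symm
  refine na hD hl (md 0) m (c := τ' (w 1)) ⟨md 1, ?_⟩ ht n1 n2 n3 ?_ ?_ ?_ ?_ ?_ ?_ ?_ ?_ ?_ ?_ ?_ <;>
    try (simp only [ne_eq, k n1 ht, k n2 ht, k n3 ht, k n1 n2, k n1 n3, k n2 n3, e, e1, e2, e3, cm]; decide)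
  rw [ne_eq, k n3 (n1.op n2), ← m.conj _ _ n1 n2, e1, e2, e3, m'.conj _ _ (nv 3) (nv 4),
    m'.comm2 K4.two (nv 5) ((nv 3).op (nv 4)), map_add, h_smul_right, g, g, g]
  decide

omit [Finite G] in
theorem MU.Sp {n : ℕ} (h : MU (n + 2) E) (hx : x ∈ E) (hy : y ∈ An E x) : MU n (Sp E x y) := by
  obtain ⟨τ, m⟩ := h
  obtain ⟨e, he, rfl⟩ := m.surj x hx
  obtain ⟨f, hf, rfl⟩ := m.surj y hy.1
  have n := mt (m.comm2 K4.two he hf).2 hy.2
  have hf' := hf.smul sfU (inv_ne_zero n)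
  have H : IsHyp _ e _ := ⟨(unit_sing _ _).2 (nv_unit.1 he).2, (unit_sing _ _).2 (nv_unit.1 hf').2,
    by rw [h_smul_right, inv_mul_cancel₀ n]⟩
  have := (m.sub (m.nd.restrict_perp H.nondeg) (E' := H28.Sp E (τ e) (τ f)) fun x => ⟨fun hx => by
    obtain ⟨v, hv, rfl⟩ := m.surj x hx.1
    exact ⟨v, (mem_perp_pair _).2 ⟨(m.comm2 K4.two he hv).1 hx.2.1, (m.comm2 K4.two hf' hv).1
      (m.smul hf (inv_ne_zero n) ▸ hx.2.2)⟩, hv, rfl⟩, by
    rintro ⟨v, h1, hv, rfl⟩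
    rw [mem_perp_pair] at h1
    exact ⟨m.mem v hv, m.comm_of he hv h1.1, m.smul hf (inv_ne_zero n) ▸ m.comm_of hf' hv h1.2⟩⟩).mu
  have d := H.finrank_perp
  rw [finrank_fintype_fun_eq_card, Fintype.card_fin, add_left_inj] at d
  rwa [d] at this

end H28
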