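import Cfsg.Agent.H28.CS

/-! Locally orthogonal spaces over the field with three elements, first part: the isotropic point attached to a point
at distance two. -/

namespace H28
open Cfsg Subgroup H11 H11.PForm Module Matrix

variable {G : Type*} [Group G] {D E : Set G}

/-- no point fails to commute with all the points of a closed clique of size six -/
theorem no_six (hD : T3 D) {a d : G} (g : Fin 5 → G) (ha : a ∈ D) (hd : d ∈ D) (hg : ∀ i, g i ∈ nb D d)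
    (hc : ∀ i j, Commute (g i) (g j)) (hi : Function.Injective g) (n0 : ¬ Commute a d) (n : ∀ i, ¬ Commute a (g i))
    (cl : ∀ i j, i ≠ j → ∀ r ∈ nb D d, Commute (g i) r → Commute (g j) r → ∃ k, r = g k) : False := by
  let P : Fin 5 → Fin 5 → Fin 5 → Prop := fun i j k => Commute a (d * (g i * (g j * g k)))
  have sq := fun i => t3_sq hD.t3 (hg i).1
  have s1 : ∀ {i j k}, P i j k → P j i k := fun {i j k} h => by simpa only [P, (hc i j).left_comm] using h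
  have s2 : ∀ {i j k}, P i j k → P i k j := fun {i j k} h => by simpa only [P, (hc j k).eq] using h
  have un : ∀ {i j k l}, P i j k → P i j l → k = l := fun {i j k l} h h' => by
    by_contra e
    have := h.inv_right.mul_right h'
    rw [show (d * (g i * (g j * g k)))⁻¹ * (d * (g i * (g j * g l))) = (g k)⁻¹ * g l by group, inv_of_sq (sq k)] at this
    exact n k (t3_two hD.t3 (hg k).1 (hg l).1 ha (hi.ne e) this).1
  have ex : ∀ i j, i ≠ j → ∃ k, k ≠ i ∧ k ≠ j ∧ P i j k := fun i j h => by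
    obtain ⟨c1, c2, c3⟩ := rt4_c hD ha hd (hg i).1 (hg j).1 n0 (n i) (n j) (hg i).2.2 (hg j).2.2 (hc i j)
    obtain ⟨-, e, d1, d2, d3⟩ := rt4_n hD ha hd (hg i).1 (hg j).1 n0 (n i) (n j) (hg i).2.2 (hg j).2.2 (hc i j)
      (hg i).2.1.symm (hg j).2.1.symm (hi.ne h)
    obtain ⟨k, hk⟩ := cl i j h _ ⟨rt4_mem hD ha hd (hg i).1 (hg j).1, d1, c1⟩ c2 c3
    rw [hk] at e d2 d3
    refine ⟨k, mt (congrArg g) d2, mt (congrArg g) d3, ?_⟩
    have e' : d * (g i * (g j * g k)) = g k * (d * g i * g j) := by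
      rw [(((hg k).2.2.symm.mul_right (hc k i)).mul_right (hc k j)).eq]; simp only [mul_assoc]
    refine (mul_inv_eq_iff_eq_mul.1 ?_ : d * (g i * (g j * g k)) * a = _).symm
    rw [e', show g k * (d * g i * g j) * a * (g k * (d * g i * g j))⁻¹ =
      g k * (d * g i * g j * a * (d * g i * g j)⁻¹) * (g k)⁻¹ by group, e, inv_of_sq (sq k)]
    simp only [mul_assoc, canc (sq k), sq k, mul_one]
  have key : ∀ i j k l m : Fin 5, (∀ x, x = i ∨ x = j ∨ x = k ∨ x = l ∨ x = m) → [i, j, k, l, m].Nodup → ¬ P i j k := by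
    intro i j k l m h1 h2 p
    simp only [List.nodup_cons, List.mem_cons, List.not_mem_nil, or_false, not_or] at h2
    obtain ⟨x, x1, x2, p1⟩ := ex i l h2.1.2.2.1
    obtain ⟨y, y1, y2, p2⟩ := ex j l h2.2.1.2.1
    rcases h1 x with rfl | rfl | rfl | rfl | rfl
    · exact x1 rfl
    · exact h2.2.2.1.1 (un p (s2 p1))
    · exact h2.2.1.2.1 (un (s2 p) (s2 p1))
    · exact x2 rfl
    rcases h1 y with rfl | rfl | rfl | rfl | rfl
    · exact h2.2.1.2.2 (un (s1 (s2 (s1 p2))) p1)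
    · exact y1 rfl
    · exact h2.1.2.2.1 (un (s2 (s1 p)) (s2 p2))
    · exact y2 rfl
    · exact h2.1.1 (un (s2 (s1 p1)) (s2 (s1 p2)))
  obtain ⟨k, k1, k2, p⟩ := ex 0 1 (by decide)
  fin_cases k
  exacts [k1 rfl, k2 rfl, key _ _ _ 3 4 (by decide) (by decide) p, key _ _ _ 2 4 (by decide) (by decide) p,
    key _ _ _ 2 3 (by decide) (by decide) p]

/-- the standard form -/
def std3 (n : ℕ) : PForm O3P (Fin n → ZMod 3) where
  h := dotProductBilin (ZMod 3) (ZMod 3)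
  q c := - (c ⬝ᵥ c)
  symm x y := by simp [dotProduct_comm]
  q_add x y := by
    simp only [orthP_Λ, AddSubgroup.mem_bot, dotProductBilin_apply_apply, add_dotProduct, dotProduct_add,
      dotProduct_comm y x]
    linear_combination (-(x ⬝ᵥ y)) * z3
  q_smul a x := by simp; ring
  h_self x := by simp; linear_combination (x ⬝ᵥ x) * z3

theorem std3_h {n : ℕ} (x y : Fin n → ZMod 3) : (std3 n).h x y = x ⬝ᵥ y := rfl

theorem std3_nd (n : ℕ) : (std3 n).Nondeg := fun x h => funext fun i => by simpa [std3_h] using h (Pi.single i 1)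

/-- an orthogonal model of dimension `n` -/
def MO3 (n : ℕ) (E : Set G) : Prop := ∃ (S : PForm O3P (Fin n → ZMod 3)) (τ : _ → G), Md S τ E
/-- an orthonormal model of dimension `n` -/
def MO (n : ℕ) (E : Set G) : Prop := ∃ τ, Md (std3 n) τ E

theorem MO.mo3 {n : ℕ} (h : MO n E) : MO3 n E := ⟨_, h⟩

variable {V W : Type*} [AddCommGroup V] [Module (ZMod 3) V] [AddCommGroup W] [Module (ZMod 3) W]
  {S : PForm O3P V} {T : PForm O3P W} {τ : V → G} {U : Submodule (ZMod 3) V} {n : ℕ}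

theorem o3_isom {f : V → W} (h : ∀ x y, T.h (f x) (f y) = S.h x y) : IsIsom S T f :=
  ⟨h, fun x => by rw [q3_eq, q3_eq, h, sub_self]; exact zero_mem _⟩

variable [FiniteDimensional (ZMod 3) V]

theorem Md.mo3 (h : Md S τ E) (hn : finrank (ZMod 3) V = n) : MO3 n E :=
  ⟨S.comap (LinearEquiv.ofFinrankEq (Fin n → ZMod 3) V (by simp [hn])).toLinearMap, _,
    h.congr _ (o3_isom fun _ _ => rfl)⟩

theorem onb_eqv (hn : finrank (ZMod 3) V = n) (g : Fin n → V) (h : ∀ i j, S.h (g i) (g j) = if i = j then 1 else 0) :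
    ∃ e : (Fin n → ZMod 3) ≃ₗ[ZMod 3] V, (∀ i, e (Pi.single i 1) = g i) ∧ IsIsom (std3 n) S e := by
  have k : IsIsom (std3 n) S (Fintype.linearCombination (ZMod 3) g) := o3_isom fun x y => by
    simp [Fintype.linearCombination_apply, map_sum, LinearMap.sum_apply, h, std3_h, dotProduct, mul_comm]
  have i := k.injective (std3_nd n)
  exact ⟨LinearEquiv.ofBijective _ ⟨i, (LinearMap.injective_iff_surjective_of_finrank_eq_finrank (by simp [hn])).1 i⟩,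
    fun i => (Fintype.linearCombination_apply_single _ _ _ _).trans (one_smul _ _), k⟩

theorem Md.o3_fib (h : Md S τ E) (h5 : 5 ≤ finrank (ZMod 3) V) : Fib E := fun x hx y hy z hz n1 n2 hs => by
  obtain ⟨u, hu, rfl⟩ := h.surj x hx
  obtain ⟨v, hv, rfl, v1, v2⟩ := h.exists_one hu hy n1
  obtain ⟨w, hw, rfl, w1, w2⟩ := h.exists_one hu hz n2
  have nd := (nd_top h.nd h5).nv (k := 4) trivial hu
  have a1 : ∀ v, NV S v → S.h u v = 1 → v - u ∈ pp S ⊤ u ∧ S.h (v - u) (v - u) = 0 := fun v hv e =>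
    ⟨⟨trivial, by simp [e, nv_o3.1 hu]⟩, by simp [e, S.orth_symm u v, nv_o3.1 hu, nv_o3.1 hv]⟩
  obtain ⟨p, p0, p1, p2⟩ := nd.exists_nv (a1 v hv v1).1 v2 (a1 v hv v1).2
  obtain ⟨c, hc⟩ := nd.iso (a1 v hv v1).1 (a1 w hw w1).1 p0 (a1 v hv v1).2 (a1 w hw w1).2 p1 p2 fun p p0 p1 p2 => by
    rw [map_sub, LinearMap.sub_apply, (mem_pp.1 p0).2, sub_zero] at p2 ⊢
    have c := h.comm_of hu p1 p0.2
    exact (h.comm' hw p1 fun e => n2 (e ▸ c)).1 (hs _ (h.mem p p1) c (h.comm_of hv p1 p2))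
  rcases z3_cases (c := c) (fun e => w2 (by rw [hc, e, zero_smul])) with rfl | rfl
  · exact Or.inl (by rw [one_smul, sub_left_inj] at hc; rw [hc])
  · refine Or.inr ?_
    rw [h.conj u v hu hv, ← h.neg (hu.op hv), v1, eq_add_of_sub_eq hc]
    congr 1
    linear_combination (norm := module) z3 • u

/-- the isotropic vector attached to `a` on the subspace `U` -/
structure Lc (S : PForm O3P V) (τ : V → G) (a : G) (U : Submodule (ZMod 3) V) (ρ : V) : Prop where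
  mem : ρ ∈ U
  ne : ρ ≠ 0
  iso : S.h ρ ρ = 0
  iff : ∀ x ∈ U, NV S x → (Commute a (τ x) ↔ S.h ρ x = 0)

/-- all local spaces are orthogonal of dimension `n ≥ 5` -/
structure LO (n : ℕ) (D : Set G) : Prop where
  t3 : T3 D
  five : 5 ≤ n
  loc : ∀ x ∈ D, MO3 n (nb D x)

variable {d a b : G} {ε ε' ρ ρ' : V}

omit [FiniteDimensional (ZMod 3) V] in
theorem Lc.smul (h : Lc S τ a U ρ) {c : ZMod 3} (hc : c ≠ 0) : Lc S τ a U (c • ρ) :=
  ⟨U.smul_mem _ h.mem, smul_ne_zero hc h.ne, by simp [h.iso], fun x hx h1 => by simp [h.iff x hx h1, hc]⟩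

theorem LO.lc (hD : LO n D) (hd : d ∈ D) (h : Md S τ (nb D d)) (hn : finrank (ZMod 3) V = n) (ha : a ∈ An D d)
    (hε : NV S ε) (c : Commute a (τ ε)) : ∃ ρ, Lc S τ a (pp S ⊤ ε) ρ := by
  have he := h.mem ε hε
  obtain ⟨T, σ, m⟩ := hD.loc _ he.1
  obtain ⟨δ, hδ, rfl⟩ := m.surj d (nb_symm hd he)
  obtain ⟨α, hα, rfl, α1, α2⟩ := m.exists_one hδ ⟨ha.1, fun e => ha.2 (e ▸ he.2.2), c.symm⟩ ha.2
  have f1 := finrank_pp3 h.nd hε
  have f2 := finrank_pp3 m.nd hδ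
  have := hD.five
  rw [finrank_fin_fun] at f2
  have m1 := h.o3_nb hε
  rw [nb_comm] at m1
  obtain ⟨e, e1, e2⟩ := o3_unique (m.o3_nb hδ) m1 (by omega) (by omega)
  let r : pp T ⊤ δ := ⟨α - δ, trivial, by simp [α1, nv_o3.1 hδ]⟩
  refine ⟨e r, (e r).2, fun e' => α2 (congrArg Subtype.val (e.map_eq_zero_iff.1 (Subtype.ext e'))), (e1 r r).trans (by
    simp [r, α1, T.orth_symm δ α, nv_o3.1 hδ, nv_o3.1 hα]), fun x hx x1 => ?_⟩
  obtain ⟨y, hy⟩ := e.surjective ⟨x, hx⟩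
  obtain rfl : (e y : V) = x := congrArg Subtype.val hy
  have y0 : T.h y y = 1 := (e1 y y).symm.trans (nv_o3.1 x1 :)
  have y1 : NV T y := nv_o3.2 y0
  rw [show τ (e y) = σ y from e2 y (nv_o3.2 y0), show S.h (e r) (e y) = T.h r y from e1 r y,
    m.comm' hα y1 fun e' => ha.2 (e' ▸ m.comm_of hδ y1 y.2.2)]
  simp [r, (mem_pp.1 y.2).2]

/-- frames of the standard space of dimension five -/
def Ms : Fin 3 → Fin 5 → Fin 5 → ZMod 3 :=
  ![![![0,0,1,0,0], ![1,1,0,1,1], ![1,1,0,-1,-1], ![1,-1,0,1,-1], ![1,-1,0,-1,1]],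
   ![![0,0,0,1,0], ![1,1,1,0,1], ![1,1,-1,0,-1], ![1,-1,-1,0,1], ![1,-1,1,0,-1]],
   ![![0,0,0,0,1], ![1,1,1,1,0], ![1,1,-1,-1,0], ![1,-1,-1,1,0], ![1,-1,1,-1,0]]]

/-- the vector `(0,0,1,1,1)` -/
def p5 : Fin 5 → ZMod 3 := ![0,0,1,1,1]

/-- a reflection in coordinates -/
def rf {n : ℕ} (u c : Fin n → ZMod 3) : Fin n → ZMod 3 := fun k => c k + (u ⬝ᵥ c) * u k

/-- four test vectors -/
def us (r : Fin 5 → ZMod 3) : Fin 4 → Fin 5 → ZMod 3 :=
  ![![0,1,0,0,0] + p5, ![0,1,0,0,0] - p5, ![1,0,0,0,0] + r, ![1,0,0,0,0] - r]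

/-- the check for one vector -/
def FrOK (r : Fin 5 → ZMod 3) : Prop :=
  r ⬝ᵥ r = 0 → r ≠ 0 → r = p5 ∨ r = -p5 ∨ ∃ m, ∀ i, (Ms m i 0 = 0 ∧ p5 ⬝ᵥ Ms m i ≠ 0) ∨ ∃ j, us r j ⬝ᵥ us r j = 1 ∧
    ((us r j 0 = 0 ∧ p5 ⬝ᵥ us r j = 0) ∨ (us r j 1 = 0 ∧ r ⬝ᵥ us r j = 0)) ∧
      ((rf (us r j) (Ms m i) 0 = 0 ∧ p5 ⬝ᵥ rf (us r j) (Ms m i) ≠ 0) ∨
        (rf (us r j) (Ms m i) 1 = 0 ∧ r ⬝ᵥ rf (us r j) (Ms m i) ≠ 0))

set_option synthInstance.maxSize 2048 in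
instance : DecidablePred FrOK := fun r => by unfold FrOK; infer_instance

theorem fr_chk : (∀ m i j, Ms m i ⬝ᵥ Ms m j = if i = j then 1 else 0) ∧ ∀ r : Fin 5 → ZMod 3, r 0 = 0 → r 1 = 0 →
    FrOK r := by
  refine ⟨by decide +kernel, fun r h0 h1 => ?_⟩
  have : ∀ x y z, FrOK ![0, 0, x, y, z] := by decide +kernel
  convert this (r 2) (r 3) (r 4)
  ext i; fin_cases i <;> simp [h0, h1]

theorem cl_chk : ∀ c : Fin 5 → ZMod 3, c ⬝ᵥ c = 1 → ∀ i j, i ≠ j → c i = 0 → c j = 0 →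
    ∃ k, c = Pi.single k 1 ∨ c = -Pi.single k 1 := by decide +kernel

theorem Md.frame (hD : H28.T3 D) (hd : d ∈ D) (h : Md S τ (nb D d)) (hn : finrank (ZMod 3) V = 5) (ha : a ∈ An D d)
    (g : Fin 5 → V) (hg : ∀ i j, S.h (g i) (g j) = if i = j then 1 else 0) : ∃ i, Commute a (τ (g i)) := by
  by_contra! n
  obtain ⟨e, e1, e2⟩ := onb_eqv hn g hg
  have nv : ∀ i, NV S (g i) := fun i => nv_o3.2 (by simp [hg])
  refine no_six hD (fun i => τ (g i)) ha.1 hd (fun i => h.mem _ (nv i)) (fun i j => ?_) (fun i j e => by_contra fun n =>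
    h.ne3 (nv i) (nv j) (by simp [hg, n]) e) (fun c => ha.2 c.symm) n fun i j ij r hr c1 c2 => ?_
  · by_cases e : i = j
    exacts [e ▸ Commute.refl _, h.comm_of (nv i) (nv j) (by simp [hg, e])]
  by_contra! n'
  obtain ⟨x, hx, rfl⟩ := h.surj r hr
  obtain ⟨c, rfl⟩ := e.surjective x
  have k : ∀ i, Commute (τ (g i)) (τ (e c)) → c i = 0 := fun i c' => by
    have := (h.comm' (nv i) hx (n' i).symm).1 c'
    rwa [← e1, e2.h_eq, std3_h, single_dotProduct, one_mul] at this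
  obtain ⟨l, rfl | rfl⟩ := cl_chk c ((e2.h_eq c c).symm.trans (nv_o3.1 hx)) i j ij (k i c1) (k j c2)
  exacts [n' l (by rw [e1]), n' l (by rw [map_neg, e1, h.neg (nv l)])]

omit [FiniteDimensional (ZMod 3) V] in
theorem Md.comm_op (h : Md S τ E) {u x : V} (hu : NV S u) (hx : NV S x) (c : Commute a (τ u)) :
    Commute a (τ (x + S.h u x • u)) ↔ Commute a (τ x) := by
  rw [← h.conj u x hu hx, comm_conj_iff (h.sq hu) c]

theorem Lc.two (hD : T3 D) (hd : d ∈ D) (h : Md S τ (nb D d)) (h5 : 5 ≤ finrank (ZMod 3) V) (ha : a ∈ An D d)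
    (hε : NV S ε) (hε' : NV S ε') (o : S.h ε ε' = 0) (c : Commute a (τ ε)) (c' : Commute a (τ ε'))
    (l : Lc S τ a (pp S ⊤ ε) ρ) (l' : Lc S τ a (pp S ⊤ ε') ρ') : ∃ c : ZMod 3, ρ' = c • ρ := by
  have o' := S.h_swap_zero o
  have r1 : ρ ∈ pp S (pp S ⊤ ε) ε' := ⟨l.mem, S.h_swap_zero ((l.iff ε' ⟨trivial, o⟩ hε').1 c')⟩
  have r2 : ρ' ∈ pp S (pp S ⊤ ε) ε' := ⟨⟨trivial, S.h_swap_zero ((l'.iff ε ⟨trivial, o'⟩ hε).1 c)⟩, l'.mem.2⟩
  have nd : ∀ k, k + 2 ≤ finrank (ZMod 3) V → ND S (pp S (pp S ⊤ ε) ε') k := fun k hk =>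
    ((nd_top h.nd hk).nv (k := k + 1) trivial hε).nv ⟨trivial, o⟩ hε'
  by_cases hu : ∃ u ∈ pp S (pp S ⊤ ε) ε', NV S u ∧ S.h ρ u = 0
  · obtain ⟨u, u0, u1, u2⟩ := hu
    exact (nd 3 h5).iso r1 r2 u0 l.iso l'.iso u1 u2 fun p p0 p1 p2 =>
      (l'.iff p ⟨trivial, p0.2⟩ p1).1 ((l.iff p p0.1 p1).2 p2)
  have hn : finrank (ZMod 3) V = 5 := by_contra fun e => hu ((nd 4 (by omega)).exists_nv r1 l.ne l.iso)
  obtain ⟨f, hf, H⟩ := (nd 3 h5).partner r1 l.ne (o3_sing.2 l.iso)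
  obtain ⟨w, hw, w1⟩ := ((nd 3 h5).hyp (k := 1) r1 hf H).one
  have w2 : S.h w w = -1 := (z3_cases w1).resolve_left fun e => hu ⟨w, hw.1.1, nv_o3.2 e, hw.1.2⟩
  simp only [mem_pp] at r1 r2 hf hw
  obtain ⟨e, e1, e2⟩ := onb_eqv (S := S) hn ![ε, ε', f - ρ, ρ + f + w, ρ + f - w] fun i j => by
    have := H.sing_f.h_self
    fin_cases i <;> fin_cases j <;> simp [nv_o3.1 hε, nv_o3.1 hε', o, o', r1.1.2, r1.2, hf.1.2, hf.2, hw.1.1.1.2,
      hw.1.1.2, hw.1.2, hw.2, S.orth_symm ε, S.orth_symm ε', S.orth_symm ρ, S.orth_symm f w, l.iso, H.h_ef, this, w2] <;>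
      decide
  have ep : e p5 = ρ := by
    rw [show p5 = Pi.single 2 1 + Pi.single 3 1 + Pi.single 4 1 by decide, map_add, map_add, e1, e1, e1]
    simp only [Matrix.cons_val]
    linear_combination (norm := module) z3 • f
  obtain ⟨r, rfl⟩ := e.surjective ρ'
  have e0 : ∀ x, S.h ε (e x) = x 0 := fun x => by simpa [e1, std3_h] using e2.h_eq (Pi.single 0 1) x
  have e0' : ∀ x, S.h ε' (e x) = x 1 := fun x => by simpa [e1, std3_h] using e2.h_eq (Pi.single 1 1) x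
  have k1 : ∀ x, x ⬝ᵥ x = 1 → x 0 = 0 → (Commute a (τ (e x)) ↔ p5 ⬝ᵥ x = 0) := fun x x1 x2 => by
    rw [l.iff _ ⟨trivial, (e0 x).trans x2⟩ (nv_o3.2 ((e2.h_eq x x).trans x1)), ← ep, e2.h_eq, std3_h]
  have k2 : ∀ x, x ⬝ᵥ x = 1 → x 1 = 0 → (Commute a (τ (e x)) ↔ r ⬝ᵥ x = 0) := fun x x1 x2 => by
    rw [l'.iff _ ⟨trivial, (e0' x).trans x2⟩ (nv_o3.2 ((e2.h_eq x x).trans x1)), e2.h_eq, std3_h]
  rcases fr_chk.2 r ((e0 r).symm.trans r2.1.2) ((e0' r).symm.trans r2.2) ((e2.h_eq r r).symm.trans l'.iso)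
    (fun e' => l'.ne (by rw [e', map_zero])) with rfl | rfl | ⟨m, hM⟩
  · exact ⟨1, by rw [ep, one_smul]⟩
  · exact ⟨-1, by rw [map_neg, ep, neg_one_smul]⟩
  obtain ⟨i, hi⟩ := h.frame hD hd hn ha (fun i => e (Ms m i)) fun i j => (e2.h_eq _ _).trans (fr_chk.1 m i j)
  have m1 : Ms m i ⬝ᵥ Ms m i = 1 := (fr_chk.1 m i i).trans (if_pos rfl)
  rcases hM i with h1 | ⟨j, u1, u2, u3⟩
  · exact absurd ((k1 _ m1 h1.1).1 hi) h1.2
  have nu : NV (std3 5) (us r j) := nv_o3.2 u1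
  have := ((h.congr e e2).comm_op nu (nv_o3.2 m1) (u2.elim (fun h => (k1 _ u1 h.1).2 h.2) fun h => (k2 _ u1 h.1).2 h.2)).2 hi
  have m2 := nv_o3.1 (nu.op (nv_o3.2 m1 : NV (std3 5) (Ms m i)))
  exact (u3.elim (fun h => h.2 ((k1 _ m2 h.1).1 this)) fun h => h.2 ((k2 _ m2 h.1).1 this)).elim

end H28
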