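import Cfsg.Agent.H28.C3a

/-! Locally orthogonal spaces over the field with three elements, second part: the model (`LO.md`). -/

namespace H28
open Cfsg Subgroup H11 H11.PForm Module

variable {G : Type*} [Group G] {D E : Set G} {V : Type*} [AddCommGroup V] [Module (ZMod 3) V]
  {S : PForm O3P V} {τ : V → G} {U : Submodule (ZMod 3) V} {n : ℕ} {d a b c : G} {ε ε' ρ ρ' ρ'' : V}

theorem Lc.cj (h : Md S τ E) (l : Lc S τ a ⊤ ρ) {v : V} (hv : NV S v) :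
    Lc S τ (τ v * a * τ v) ⊤ (ρ + S.h v ρ • v) := by
  refine ⟨trivial, fun e => l.ne ?_, by rw [hv.h_op, l.iso], fun x _ hx => ?_⟩
  · rw [← hv.op_op sf3 ρ, e]; simp
  · rw [← nc_conj_self (h.sq hv), h.conj v x hv hx, l.iff _ trivial (hv.op hx)]
    simp [S.orth_symm v ρ, mul_comm]

theorem Lc.cjd (hd : d * d = 1) (h : Md S τ (nb D d)) (l : Lc S τ a U ρ) : Lc S τ (d * a * d) U ρ :=
  ⟨l.mem, l.ne, l.iso, fun x h1 hx => by
    rw [← l.iff x h1 hx, Commute.symm_iff, comm_conj_iff hd (h.mem x hx).2.2.symm, Commute.symm_iff]⟩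

theorem iso_mv (h1 : S.h ρ ρ = 0) (h2 : S.h ρ' ρ' = 0) (h : S.h ρ ρ' ≠ 0) :
    ∃ v, NV S v ∧ S.h ρ v ≠ 0 ∧ ρ + S.h v ρ • v = S.h ρ ρ' • ρ' := by
  have e : S.h (ρ - S.h ρ ρ' • ρ') ρ = -1 := by simp [h1, S.orth_symm ρ ρ', z3_sq h]
  refine ⟨ρ - S.h ρ ρ' • ρ', nv_o3.2 ?_, by rw [S.orth_symm, e]; decide, by rw [e]; module⟩
  rw [map_sub, e]; simp [h2, z3_sq h]; decide

theorem an_cj (hD : T3 D) {s : G} (hs : s ∈ nb D d) (ha : a ∈ An D d) : s * a * s ∈ An D d :=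
  ⟨hD.cl s hs.1 a ha.1, mt (comm_conj_iff (t3_sq hD.t3 hs.1) hs.2.2).1 ha.2⟩

theorem an_d (hD : T3 D) (hd : d ∈ D) (ha : a ∈ An D d) : d * a * d ∈ An D d :=
  ⟨hD.cl d hd a ha.1, mt (comm_conj_iff (t3_sq hD.t3 hd) (Commute.refl d)).1 ha.2⟩

theorem nc_d (hD : T3 D) (hd : d ∈ D) (ha : a ∈ An D d) (hb : b ∈ An D d) (h : Commute a b) : ¬ Commute a (d * b * d) := by
  rw [t3_braid hD.t3 hd hb.1 hb.2, comm_conj_iff (t3_sq hD.t3 hb.1) h]
  exact fun e => ha.2 e.symm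

/-- the fourth transposition of a symmetric group of degree four -/
theorem exists_s4 (hD : T3 D) (hd : d ∈ D) (ha : a ∈ An D d) (hb : b ∈ An D d) (h : Commute a b) (hne : a ≠ b) :
    ∃ s ∈ nb D d, ¬ Commute a s ∧ s * a * s = d * b * d := by
  have a2 := t3_sq hD.t3 ha.1
  have b2 := t3_sq hD.t3 hb.1
  have e : a * b * d * (a * b)⁻¹ = a * (b * d * b) * a := by
    rw [mul_inv_rev, inv_of_sq a2, inv_of_sq b2]; simp only [mul_assoc]
  refine ⟨a * (b * d * b) * a, ⟨hD.cl a ha.1 _ (hD.cl b hb.1 d hd), fun e' => ha.2 (t3_two hD.t3 ha.1 hb.1 hd hne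
    (mul_inv_eq_iff_eq_mul.1 (e.trans e') : a * b * d = _).symm).1, e ▸ t3_S4 hD.t3 ha.1 hb.1 hd h ha.2 hb.2⟩, ?_, ?_⟩
  · rw [comm_conj_iff a2 (Commute.refl a), comm_conj_iff b2 h]; exact fun e => ha.2 e.symm
  · calc _ = a * b * (d * (b * a * b) * d) * b * a := by simp only [mul_assoc, canc a2]
      _ = a * b * a * d * (a * b * a) := by
        rw [(comm_iff_conj b2).1 h.symm, t3_braid hD.t3 hd ha.1 ha.2]; simp only [mul_assoc]
      _ = _ := by rw [(comm_iff_conj a2).1 h, t3_braid hD.t3 hd hb.1 hb.2]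

variable [FiniteDimensional (ZMod 3) V]

theorem Lc.uniq (hS : S.Nondeg) (h4 : 4 ≤ finrank (ZMod 3) V) (l : Lc S τ a ⊤ ρ) (l' : Lc S τ a ⊤ ρ') :
    ∃ c : ZMod 3, c ≠ 0 ∧ ρ' = c • ρ := by
  obtain ⟨u, -, u1, u2⟩ := (nd_top hS h4).exists_nv trivial l.ne l.iso
  obtain ⟨c, hc⟩ := (nd_top hS h4).iso trivial trivial trivial l.iso l'.iso u1 u2 fun p _ p1 p2 =>
    (l'.iff p trivial p1).1 ((l.iff p trivial p1).2 p2)
  exact ⟨c, fun e => l'.ne (by rw [hc, e, zero_smul]), hc⟩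

theorem fill3 (hS : S.Nondeg) (h5 : 5 ≤ finrank (ZMod 3) V) {a b c e : V} (a0 : S.h a a = 0) (b0 : S.h b b = 0)
    (c0 : S.h c c = 0) (h1 : S.h a b ≠ 0) (h2 : S.h b c ≠ 0) (h3 : S.h c e ≠ 0) (h4 : S.h a c = 0) (h6 : S.h b e = 0) :
    ∃ p, S.h p p = 0 ∧ S.h a p ≠ 0 ∧ S.h b p ≠ 0 ∧ S.h c p ≠ 0 ∧ S.h e p ≠ 0 := by
  have H : S.IsHyp b (S.h b c • c) := ⟨o3_sing.2 b0, (o3_sing.2 c0).smul _, by simp [z3_sq h2]⟩
  have nd := (nd_top hS h5).hyp (k := 3) trivial trivial H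
  have m : a - (S.h a b * S.h b c) • c ∈ pp S (pp S ⊤ b) (S.h b c • c) :=
    ⟨⟨trivial, by simp [S.orth_symm a b, mul_assoc, z3_sq h2]⟩, by simp [S.orth_symm a c, h4, c0]⟩
  obtain ⟨w, hw, w1, w2⟩ : ∃ w ∈ pp S (pp S ⊤ b) (S.h b c • c), S.h w w ≠ 0 ∧ S.h (a - (S.h a b * S.h b c) • c) w = 0 := by
    by_cases e : a - (S.h a b * S.h b c) • c = 0
    · obtain ⟨w, hw, w1⟩ := (nd.mono (l := 1) (by omega)).one
      exact ⟨w, hw, w1, by simp [e]⟩
    obtain ⟨f, hf, H'⟩ := nd.partner m e (o3_sing.2 (by simp [a0, c0, h4, S.orth_symm a c]))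
    obtain ⟨w, hw, w1⟩ := (nd.hyp (k := 1) m hf H').one
    exact ⟨w, hw.1.1, w1, hw.1.2⟩
  have w3 : S.h b w = 0 := hw.1.2
  have w4 : S.h c w = 0 := by simpa [h2] using (mem_pp.1 hw).2
  rw [map_sub, LinearMap.sub_apply, h_smul_left, w4, mul_zero, sub_zero] at w2
  obtain ⟨l, l1, l2⟩ : ∃ l : ZMod 3, l * l = 1 ∧ S.h w w * S.h b c * S.h c e + l * S.h e w ≠ 0 := by
    have := mul_ne_zero (mul_ne_zero w1 h2) h3
    revert this; generalize S.h w w * S.h b c * S.h c e = x; generalize S.h e w = y; revert x y; decide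
  refine ⟨b + (S.h w w * S.h b c) • c + l • w, ?_, ?_, ?_, ?_, ?_⟩ <;>
    simp only [map_add, map_smul, LinearMap.add_apply, LinearMap.smul_apply, smul_eq_mul, RingHom.id_apply, b0, c0, w2, w3,
      w4, h4, S.orth_symm b c, S.orth_symm b w, S.orth_symm c w, S.orth_symm b e, S.orth_symm c e, h6, mul_zero, add_zero,
      zero_add]
  · linear_combination 2 * S.h w w * z3_sq h2 + S.h w w * l1 + S.h w w * z3
  exacts [h1, mul_ne_zero (mul_ne_zero w1 h2) h2, h2, l2]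

namespace LO
variable (hD : LO n D) (hd : d ∈ D) (h : Md S τ (nb D d)) (hn : finrank (ZMod 3) V = n)
include hD hd h hn

theorem move (ha : a ∈ An D d) (hε : NV S ε) (hε' : NV S ε') (o : S.h ε ε' = 0) (c : Commute a (τ ε))
    (c' : Commute a (τ ε')) (l : Lc S τ a (pp S ⊤ ε) ρ) : Lc S τ a (pp S ⊤ ε') ρ := by
  obtain ⟨ρ', l'⟩ := hD.lc hd h hn ha hε' c'
  obtain ⟨k, rfl⟩ := l.two hD.t3 hd h (hn ▸ hD.five) ha hε hε' o c c' l'
  have k0 : k ≠ 0 := fun e => l'.ne (by rw [e, zero_smul])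
  simpa [smul_smul, z3_sq k0] using l'.smul k0

theorem rho (ha : a ∈ An D d) (hε : NV S ε) (c : Commute a (τ ε)) : ∃ ρ, Lc S τ a ⊤ ρ := by
  obtain ⟨ρ, l⟩ := hD.lc hd h hn ha hε c
  have o : S.h ε ρ = 0 := l.mem.2
  have o' := S.h_swap_zero o
  obtain ⟨u, u0, u1, u2⟩ := ((nd_top h.nd (hn ▸ hD.five)).nv (k := 4) trivial hε).exists_nv l.mem l.ne l.iso
  have c1 := (l.iff u u0 u1).2 u2
  have l1 := hD.move hd h hn ha hε u1 u0.2 c c1 l
  have nv : ∀ y, NV S y → S.h ρ y = 0 → ∀ k : ZMod 3, NV S (y + k • ρ) := fun y hy e k =>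
    nv_o3.2 (by simp [nv_o3.1 hy, e, S.h_swap_zero e, l.iso])
  have uk : ∀ k : ZMod 3, S.h u (ε + k • ρ) = 0 := fun k => by simp [S.h_swap_zero u0.2, S.h_swap_zero u2]
  have ck : ∀ k : ZMod 3, Commute a (τ (ε + k • ρ)) := fun k =>
    (l1.iff _ ⟨trivial, uk k⟩ (nv ε hε o' k)).2 (by simp [o', l.iso])
  have L3 : ∀ x, NV S x → Commute a (τ x) → S.h ρ x = 0 := fun x hx cx => by_contra fun e => e
    (((hD.move hd h hn ha u1 (nv ε hε o' (-(S.h ε x * S.h ρ x))) (uk _) c1 (ck _) l1).iff x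
      ⟨trivial, by simp [mul_assoc, z3_sq e]⟩ hx).1 cx)
  refine ⟨ρ, trivial, l.ne, l.iso, fun x _ hx => ⟨L3 x hx, fun e => ?_⟩⟩
  have hx' : NV S (x + ρ) := by simpa using nv x hx e 1
  have s1 := h.mem x hx
  have s2 := h.mem _ hx'
  have q1 := h.sq hx
  have q2 := h.sq hx'
  have n : ¬ Commute (τ x) (τ (x + ρ)) := by
    rw [h.comm hx hx', h.eq3 hx hx']
    rintro (h | h | h)
    · simp [nv_o3.1 hx, S.h_swap_zero e] at h
    · exact l.ne (by simpa using h)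
    · have := congrArg (S.h x) h
      simp [nv_o3.1 hx, S.h_swap_zero e] at this
      exact absurd this (by decide)
  have k : ∀ y, NV S y → S.h ρ y = 0 → (Commute (τ x * (τ (x + ρ) * a * τ (x + ρ)) * τ x) (τ y) ↔
      Commute a (τ (y + (-S.h x y) • ρ))) := fun y hy e' => by
    rw [← nc_conj_self q1, ← nc_conj_self q2, h.conj x y hx hy, h.conj _ _ hx' (hx.op hy)]
    have : S.h (x + ρ) (y + S.h x y • x) = -S.h x y := by
      simp [nv_o3.1 hx, e, e']; linear_combination S.h x y * z3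
    rw [this, show y + S.h x y • x + -S.h x y • (x + ρ) = y + -S.h x y • ρ by module]
  have hb := an_cj hD.t3 s1 (an_cj hD.t3 s2 ha)
  have he := h.mem ε hε
  obtain ⟨T, σ, m⟩ := hD.loc _ he.1
  have g : τ x * τ (x + ρ) * a * (τ x * τ (x + ρ))⁻¹ = τ x * (τ (x + ρ) * a * τ (x + ρ)) * τ x := by
    rw [mul_inv_rev, inv_of_sq q1, inv_of_sq q2]; simp only [mul_assoc]
  have cg : τ x * τ (x + ρ) * a * (τ x * τ (x + ρ))⁻¹ = a := by
    refine (m.o3_fib (by simpa using hD.five) d (nb_symm hd he) a ⟨ha.1, fun e => ha.2 (e ▸ he.2.2), c.symm⟩ _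
      ⟨hb.1, fun e => hb.2 (e ▸ he.2.2), ((k ε hε o').2 (ck _)).symm⟩ ha.2 hb.2 fun s hs c1 c2 => ?_).elim (g.trans ·)
      fun e => ?_
    · obtain ⟨y, hy, rfl⟩ := h.surj s ⟨hs.1, fun e => ha.2 (e ▸ c2.symm), c1⟩
      have y1 := L3 y hy c2
      exact (k y hy y1).2 ((l.iff _ ⟨trivial, by simp [(h.comm' hε hy hs.2.1.symm).1 hs.2.2, o]⟩ (nv y hy y1 _)).2
        (by simp [y1, l.iso]))
    · rw [← g] at e
      have c3 := cube_of_braid q1 q2 (t3_braid h.t3 s1 s2 n)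
      have cd : Commute (τ x * τ (x + ρ)) d := s1.2.2.symm.mul_left s2.2.2.symm
      generalize τ x * τ (x + ρ) = g at e c3 cd
      have d2 := t3_sq hD.t3.t3 hd
      have e2 : g * g * a * (g * g)⁻¹ = a := by
        calc _ = g * (g * a * g⁻¹) * g⁻¹ := by group
          _ = g * d * g⁻¹ * (g * a * g⁻¹) * (g * d * g⁻¹) := by nth_rw 1 [e]; group
          _ = a := by rw [e, mul_inv_eq_iff_eq_mul.2 cd.eq]; simp only [mul_assoc, canc d2, d2, mul_one]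
      calc _ = g * (g * (g * g)) * a * (g * (g * (g * g)))⁻¹ := by rw [← pow_three, c3, mul_one]
        _ = g * g * (g * g * a * (g * g)⁻¹) * (g * g)⁻¹ := by group
        _ = a := by rw [e2, e2]
  by_contra n1
  have e3 : τ (x + ρ) * a * τ (x + ρ) = τ x * a * τ x := by
    conv_rhs => rw [← cg, g]
    simp only [mul_assoc, canc q1, q1, mul_one]
  by_cases n2 : Commute a (τ (x + ρ))
  · rw [(comm_iff_conj q2).1 n2.symm] at e3
    exact n1 ((comm_iff_conj q1).2 e3.symm).symm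
  · rw [← t3_braid hD.t3.t3 ha.1 s2.1 n2, ← t3_braid hD.t3.t3 ha.1 s1.1 n1] at e3
    exact n (by rw [mul_left_cancel (mul_right_cancel e3)])

end LO

theorem LO.dia (hD : LO n D) (ha : a ∈ D) (h : Cn D a b) : ∃ s ∈ D, Commute a s ∧ Commute b s := by
  induction h with
  | refl => exact ⟨a, ha, Commute.refl _, Commute.refl _⟩
  | @tail p x _ hp ih =>
    obtain ⟨s, hs, h1, h2⟩ := ih
    by_cases h : Commute p a
    · exact ⟨p, hp.1, h.symm, hp.2.2.symm⟩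
    by_cases e : x = p
    · exact ⟨s, hs, h1, e ▸ h2⟩
    obtain ⟨S, τ, m⟩ := hD.loc p hp.1
    obtain ⟨ε, hε, rfl⟩ := m.surj s ⟨hs, fun e => h (e ▸ h1.symm), h2⟩
    obtain ⟨ξ, hξ, rfl⟩ := m.surj x ⟨hp.2.1, e, hp.2.2⟩
    obtain ⟨ρ, l⟩ := hD.rho hp.1 m (by simp) ⟨ha, h⟩ hε h1
    by_cases e' : S.h ρ ξ = 0
    · exact ⟨_, hp.2.1, (l.iff ξ trivial hξ).2 e', Commute.refl _⟩
    have o := (l.iff ε trivial hε).1 h1
    have nv : NV S (ε + (-(S.h ξ ε * S.h ρ ξ)) • ρ) := nv_o3.2 (by simp [nv_o3.1 hε, o, S.h_swap_zero o, l.iso])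
    exact ⟨_, (m.mem _ nv).1, (l.iff _ trivial nv).2 (by simp [o, l.iso]),
      m.comm_of hξ nv (by simp [S.orth_symm ρ ξ, mul_assoc, z3_sq e'])⟩

theorem LO.fib (hD : LO n D) (hc : ∀ a ∈ D, ∀ b ∈ D, Cn D a b) : Fib D := fun x hx y hy z hz n1 n2 h => by
  obtain ⟨e, he, c1, c2⟩ := hD.dia hx (hc x hx y hy)
  obtain ⟨S, τ, m⟩ := hD.loc e he
  exact m.o3_fib (by simpa using hD.five) x ⟨hx, fun e => n1 (e ▸ c2.symm), c1.symm⟩ y ⟨hy, fun e => n1 (e ▸ c1), c2.symm⟩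
    z ⟨hz, fun e => n2 (e ▸ c1), (h e he c1 c2).symm⟩ n1 n2 fun s hs => h s hs.1

open Classical in
/-- the sign of a pair -/
noncomputable def sg (a b : G) : ZMod 3 := if Commute a b then -1 else 1
theorem sg_c (h : Commute a b) : sg a b = -1 := if_pos h
theorem sg_n (h : ¬ Commute a b) : sg a b = 1 := if_neg h
theorem sg_symm (a b : G) : sg a b = sg b a := by unfold sg; rw [Commute.symm_iff]
theorem sg_ne (a b : G) : sg a b ≠ 0 := by unfold sg; split_ifs <;> decide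

section
variable (hD : T3 D) (hF : Fib D) (hd : d ∈ D) (h : Md S τ (nb D d)) (h5 : 5 ≤ finrank (ZMod 3) V)
include hD hF hd h

omit hD [FiniteDimensional (ZMod 3) V] in
theorem Lc.fib (ha : a ∈ An D d) (hb : b ∈ An D d) (l : Lc S τ a ⊤ ρ) (l' : Lc S τ b ⊤ ρ) : b = a ∨ b = d * a * d :=
  hF d hd a ha.1 b hb.1 ha.2 hb.2 fun s hs c1 c2 => by
    obtain ⟨y, hy, rfl⟩ := h.surj s ⟨hs, fun e => ha.2 (e ▸ c2.symm), c1⟩
    exact (l'.iff y trivial hy).2 ((l.iff y trivial hy).1 c2)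

omit [FiniteDimensional (ZMod 3) V] in
theorem Lc.or (ha : a ∈ An D d) (hb : b ∈ An D d) (l : Lc S τ a ⊤ ρ) (l' : Lc S τ b ⊤ ρ') (e : S.h ρ ρ' ≠ 0) :
    Commute a b ∨ Commute a (d * b * d) := by
  obtain ⟨v, hv, v1, v2⟩ := iso_mv l.iso l'.iso e
  have m := h.mem v hv
  have d2 := t3_sq hD.t3 hd
  have := t3_S4 hD.t3 hd m.1 ha.1 m.2.2 (fun c => ha.2 c.symm) (mt (l.iff v trivial hv).1 v1)
  rw [mul_inv_rev, inv_of_sq d2, inv_of_sq (h.sq hv), show d * τ v * a * (τ v * d) = d * (τ v * a * τ v) * d by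
    simp only [mul_assoc]] at this
  rcases (l'.smul e).fib hF hd h hb (an_cj hD m ha) (v2 ▸ l.cj h hv) with e | e <;> rw [e] at this
  · exact Or.inr this
  · exact Or.inl (by simpa only [mul_assoc, canc d2, d2, mul_one] using this)

omit [FiniteDimensional (ZMod 3) V] in
theorem Lc.flip (ha : a ∈ An D d) (hb : b ∈ An D d) (l : Lc S τ a ⊤ ρ) (l' : Lc S τ b ⊤ ρ') (e : S.h ρ ρ' ≠ 0) :
    sg a (d * b * d) = -sg a b := by
  by_cases c : Commute a b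
  · rw [sg_c c, sg_n (nc_d hD hd ha hb c), neg_neg]
  · rw [sg_n c, sg_c ((l.or hD hF hd h ha hb l' e).resolve_left c)]

include h5

omit hF in
theorem Lc.of_comm (ha : a ∈ An D d) (hb : b ∈ An D d) (l : Lc S τ a ⊤ ρ) (l' : Lc S τ b ⊤ ρ') (c : Commute a b)
    (hne : a ≠ b) : ∃ x, NV S x ∧ S.h ρ x = 1 ∧ τ x * a * τ x = d * b * d ∧ ∃ k : ZMod 3, k ≠ 0 ∧ ρ' = k • (ρ + x) := by
  obtain ⟨s, hs, n, e⟩ := exists_s4 hD hd ha hb c hne
  obtain ⟨y, hy, rfl⟩ := h.surj s hs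
  have y0 : S.h ρ y ≠ 0 := mt (l.iff y trivial hy).2 n
  refine ⟨S.h ρ y • y, hy.smul sf3 y0, by simp [z3_sq y0], by rw [h.smul hy y0, e], ?_⟩
  have := l.cj h hy
  rw [e, S.orth_symm ρ y] at this
  exact this.uniq h.nd (by omega) (l'.cjd (t3_sq hD.t3 hd) h)

theorem Lc.tri (ha : a ∈ An D d) (hb : b ∈ An D d) (hc : c ∈ An D d) (l : Lc S τ a ⊤ ρ) (l' : Lc S τ b ⊤ ρ')
    (l'' : Lc S τ c ⊤ ρ'') (e1 : S.h ρ ρ' ≠ 0) (e2 : S.h ρ' ρ'' ≠ 0) (e3 : S.h ρ ρ'' ≠ 0) :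
    sg a b * S.h ρ ρ' * (sg b c * S.h ρ' ρ'') * (sg a c * S.h ρ ρ'') = 1 := by
  have d2 := t3_sq hD.t3 hd
  wlog c1 : Commute a b generalizing b
  · have := this (an_d hD hd hb) (l'.cjd d2 h) ((l.or hD hF hd h ha hb l' e1).resolve_left c1)
    rw [l.flip hD hF hd h ha hb l' e1, sg_symm (d * b * d), l''.flip hD hF hd h hc hb l' (S.orth_symm _ _ ▸ e2),
      sg_symm c] at this
    linear_combination this
  wlog c2 : Commute a c generalizing c
  · have := this (an_d hD hd hc) (l''.cjd d2 h) ((l.or hD hF hd h ha hc l'' e3).resolve_left c2)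
    rw [l.flip hD hF hd h ha hc l'' e3, l'.flip hD hF hd h hb hc l'' e2] at this
    linear_combination this
  have ne : ∀ b ρ', Lc S τ b ⊤ ρ' → S.h ρ ρ' ≠ 0 → a ≠ b := by
    rintro _ ρ' l' e rfl
    obtain ⟨k, -, rfl⟩ := l.uniq h.nd (by omega) l'
    simp [l.iso] at e
  obtain ⟨x, hx, x1, x2, k, k0, rfl⟩ := l.of_comm hD hd h h5 ha hb l' c1 (ne b _ l' e1)
  obtain ⟨y, hy, y1, y2, j, j0, rfl⟩ := l.of_comm hD hd h h5 ha hc l'' c2 (ne c _ l'' e3)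
  have nx : ¬ Commute a (τ x) := mt (l.iff x trivial hx).1 (by rw [x1]; decide)
  have ny : ¬ Commute a (τ y) := mt (l.iff y trivial hy).1 (by rw [y1]; decide)
  have i : Commute b c ↔ Commute a (τ x * τ y * a * (τ x * τ y)⁻¹) := by
    rw [← commute_conj d, inv_of_sq d2, ← x2, ← y2, ← nc_conj_self (h.sq hx), mul_inv_rev, inv_of_sq (h.sq hx),
      inv_of_sq (h.sq hy)]
    simp only [mul_assoc]
  rw [sg_c c1, sg_c c2]
  simp only [map_smul, map_add, LinearMap.smul_apply, LinearMap.add_apply, smul_eq_mul, RingHom.id_apply, l.iso, x1, y1,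
    S.orth_symm ρ x, zero_add] at e2 ⊢
  by_cases t : S.h x y = 0
  · rw [sg_c (i.2 (t3_S4 hD.t3 (h.mem x hx).1 (h.mem y hy).1 ha.1 (h.comm_of hx hy t) nx ny)), t]
    clear * - k0 j0; revert k j; decide
  rcases z3_cases t with t | t
  · rw [t] at e2; exact absurd (by clear * -; revert k j; decide) e2
  rw [sg_n, t]
  · clear * - k0 j0; revert k j; decide
  have q := h.sq (hx.op hy)
  have cu : Commute a (τ (y + S.h x y • x)) := (l.iff _ trivial (hx.op hy)).2 (by simp [x1, y1, t])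
  rw [i, show τ x * τ y = τ (y + S.h x y • x) * τ x by rw [← h.conj x y hx hy, mul_assoc, h.sq hx, mul_one], mul_inv_rev,
    inv_of_sq q, inv_of_sq (h.sq hx), show ∀ u v : G, u * v * a * (v * u) = u * (v * a * v) * u by
      intros; simp only [mul_assoc], comm_conj_iff q cu]
  exact not_comm_conj hD.t3 (h.mem x hx).1 ha.1 nx

omit hF hd in
theorem Lc.sur (ha : a ∈ An D d) (l : Lc S τ a ⊤ ρ) (h0 : ρ' ≠ 0) (h1 : S.h ρ' ρ' = 0) :
    ∃ b ∈ An D d, Lc S τ b ⊤ ρ' := by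
  have st : ∀ a ∈ An D d, ∀ ρ ρ', Lc S τ a ⊤ ρ → S.h ρ' ρ' = 0 → S.h ρ ρ' ≠ 0 → ∃ b ∈ An D d, Lc S τ b ⊤ ρ' :=
    fun a ha ρ ρ' l h1 e => by
      obtain ⟨v, hv, -, v2⟩ := iso_mv l.iso h1 e
      have := (v2 ▸ l.cj h hv).smul e
      rw [smul_smul, z3_sq e, one_smul] at this
      exact ⟨_, an_cj hD (h.mem v hv) ha, this⟩
  obtain ⟨z, z0, z1, z2⟩ := h.nd.exists_common (Or.inr (by omega)) (o3_sing.2 l.iso) l.ne (o3_sing.2 h1) h0
  obtain ⟨b, hb, l'⟩ := st a ha ρ z l z0.h_self (S.orth_symm _ _ ▸ z1)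
  exact st b hb z ρ' l' h1 z2

end

/-- adding a vector of norm one -/
def oExt (S : PForm O3P V) : PForm O3P (V × ZMod 3) where
  h := LinearMap.mk₂ (ZMod 3) (fun x y => S.h x.1 y.1 + x.2 * y.2) (fun x x' y => by simp; ring)
    (fun c x y => by simp; ring) (fun x y y' => by simp; ring) (fun c x y => by simp; ring)
  q x := -(S.h x.1 x.1 + x.2 * x.2)
  symm x y := by simp [S.orth_symm x.1 y.1, mul_comm]
  q_add x y := by
    simp [S.orth_symm x.1 y.1]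
    linear_combination (-(S.h x.1 y.1 + x.2 * y.2)) * z3
  q_smul a x := by simp; ring
  h_self x := by simp; linear_combination (S.h x.1 x.1 + x.2 * x.2) * z3

omit [FiniteDimensional (ZMod 3) V] in
theorem oExt_h (x y : V × ZMod 3) : (oExt S).h x y = S.h x.1 y.1 + x.2 * y.2 := rfl

omit [FiniteDimensional (ZMod 3) V] in
theorem oExt_nd (hS : S.Nondeg) : (oExt S).Nondeg := fun x h =>
  Prod.ext (hS _ fun y => by simpa [oExt_h] using h (y, 0)) (by simpa [oExt_h] using h (0, 1))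

theorem LO.md (hD : LO n D) (hc : ∀ a ∈ D, ∀ b ∈ D, Cn D a b) (hd : d ∈ D) (h : Md S τ (nb D d))
    (hn : finrank (ZMod 3) V = n) : ∃ τ', Md (oExt S) τ' D := by
  classical
  have hF := hD.fib hc
  have h5 : 5 ≤ finrank (ZMod 3) V := hn ▸ hD.five
  have d2 := t3_sq hD.t3.t3 hd
  have : ∀ a ∈ An D d, ∃ ρ, Lc S τ a ⊤ ρ := fun a ha => by
    obtain ⟨s, hs, c1, c2⟩ := hD.dia hd (hc d hd a ha.1)
    obtain ⟨ε, hε, rfl⟩ := h.surj s ⟨hs, fun e => ha.2 (e ▸ c2.symm), c1⟩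
    exact hD.rho hd h hn ha hε c2
  choose! r hr using this
  obtain ⟨o, ho⟩ : ∃ o, o ∈ An D d := by
    obtain ⟨u, -, hu, -⟩ := o3_two h.nd (by omega)
    obtain ⟨T, σ, m⟩ := hD.loc _ (h.mem u hu).1
    obtain ⟨o, ho, n⟩ := m.o3_par (by have := hD.five; simp; omega) d (nb_symm hd (h.mem u hu))
    exact ⟨o, ho.1, n⟩
  have sur : ∀ p, S.h p p = 0 → p ≠ 0 → ∃ a ∈ An D d, ∃ k : ZMod 3, k ≠ 0 ∧ r a = k • p := fun p p1 p0 => by
    obtain ⟨b, hb, l⟩ := (hr o ho).sur hD.t3 h h5 ho p0 p1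
    exact ⟨b, hb, l.uniq h.nd (by omega) (hr b hb)⟩
  have com : ∀ a ∈ An D d, ∀ b ∈ An D d, ∃ p ∈ An D d, S.h (r a) (r p) ≠ 0 ∧ S.h (r p) (r b) ≠ 0 := fun a ha b hb => by
    obtain ⟨z, z0, z1, z2⟩ := h.nd.exists_common (Or.inr (by omega)) (o3_sing.2 (hr a ha).iso) (hr a ha).ne
      (o3_sing.2 (hr b hb).iso) (hr b hb).ne
    obtain ⟨p, hp, k, k0, e⟩ := sur z z0.h_self (by rintro rfl; simp at z1)
    exact ⟨p, hp, by simp [e, k0, S.orth_symm z, z1], by simp [e, k0, z2]⟩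
  obtain ⟨ε, hε⟩ := exists_pot (· ∈ An D d) (fun a b => S.h (r a) (r b) ≠ 0) (fun a b => un (sg a b * S.h (r a) (r b)))
    (fun a b e => S.orth_symm _ _ ▸ e) (fun a b _ _ e => Units.ext (by
      have := mul_ne_zero (sg_ne a b) e
      rw [sg_symm b, S.orth_symm (r a), Units.val_mul, un_val this, z3_sq this, Units.val_one]))
    (fun a b c ha hb hc e1 e2 e3 => Units.ext (by
      have := (hr a ha).tri hD.t3 hF hd h h5 ha hb hc (hr b hb) (hr c hc) e1 e2 e3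
      have k := mul_ne_zero (sg_ne a c) e3
      rw [Units.val_mul, un_val (mul_ne_zero (sg_ne a b) e1), un_val (mul_ne_zero (sg_ne b c) e2), un_val k]
      linear_combination (sg a c * S.h (r a) (r c)) * this -
        sg a b * S.h (r a) (r b) * (sg b c * S.h (r b) (r c)) * z3_sq k))
    (fun a b c e ha hb hc he r1 r2 r3 _ _ n1 n2 => by
      obtain ⟨p, p0, p1⟩ := fill3 h.nd h5 (hr a ha).iso (hr b hb).iso (hr c hc).iso r1 r2 r3 (not_not.1 n1) (not_not.1 n2)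
      obtain ⟨x, hx, k, k0, e⟩ := sur p p0 (by rintro rfl; simp at p1)
      exact ⟨x, hx, by simpa [e, k0] using p1⟩) ho ((com o ho o ho).imp fun _ h => ⟨h.1, h.2.1⟩)
    fun P h0 h1 b hb => (com o ho b hb).elim fun p hp => h1 p b hp.1 hb (h1 o p ho hp.1 h0 hp.2.1) hp.2.2
  obtain ⟨w, hw⟩ : ∃ w : G → V, ∀ a, w a = (ε a : ZMod 3) • r a := ⟨_, fun _ => rfl⟩
  have lw : ∀ a ∈ An D d, Lc S τ a ⊤ (w a) := fun a ha => hw a ▸ (hr a ha).smul (ε a).ne_zero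
  have ww : ∀ a ∈ An D d, ∀ b ∈ An D d, a ≠ b → (Commute a b ↔ S.h (w a) (w b) + 1 = 0) := fun a ha b hb ne => by
    by_cases e : S.h (r a) (r b) = 0
    · refine iff_of_false (fun c => ?_) (by simp [hw, e])
      obtain ⟨x, -, x1, -, k, k0, e'⟩ := (hr a ha).of_comm hD.t3 hd h h5 ha hb (hr b hb) c ne
      simp [e', (hr a ha).iso, x1, k0] at e
    have := congrArg Units.val (hε a b ha hb e)
    rw [un_val (mul_ne_zero (sg_ne a b) e), Units.val_mul, Units.val_inv_eq_inv_val,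
      inv_eq_of_mul_eq_one_right (z3_sq (ε a).ne_zero)] at this
    have e' : S.h (w a) (w b) = sg a b := by
      simp only [hw, h_smul_left, h_smul_right, RingHom.id_apply]
      linear_combination (-S.h (r a) (r b)) * this + sg a b * z3_sq e
    rw [e']
    by_cases c : Commute a b
    exacts [by simp [sg_c c, c], by simp [sg_n c, c]; decide]
  choose! v v1 v2 using h.surj
  let f : G → V × ZMod 3 := fun x => if x = d then (0, 1) else if Commute d x then (v x, 0) else (w x, 1)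
  have f1 : f d = (0, 1) := if_pos rfl
  have f2 : ∀ x ∈ nb D d, f x = (v x, 0) := fun x hx => by simp only [f, if_neg hx.2.1, if_pos hx.2.2]
  have f3 : ∀ x ∈ An D d, f x = (w x, 1) := fun x hx => by
    have : x ≠ d := by rintro rfl; exact hx.2 (Commute.refl _)
    simp only [f, if_neg this, if_neg hx.2]
  have cs : ∀ x ∈ D, x = d ∨ x ∈ nb D d ∨ x ∈ An D d := fun x hx => by
    by_cases e : x = d <;> by_cases c : Commute d x <;> simp [nb, An, *]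
  have sy : ∀ x y, (Commute x y ↔ (oExt S).h (f x) (f y) = 0) → (Commute y x ↔ (oExt S).h (f y) (f x) = 0) :=
    fun x y h => by rw [h_eq_zero_comm, ← h]; exact Commute.symm_iff
  have e1 : ∀ x ∈ nb D d, Commute d x ↔ (oExt S).h (f d) (f x) = 0 := fun x hx => by simp [f1, f2 x hx, oExt_h, hx.2.2]
  have e2 : ∀ x ∈ An D d, Commute d x ↔ (oExt S).h (f d) (f x) = 0 := fun x hx => by simp [f1, f3 x hx, oExt_h, hx.2]
  have e3 : ∀ a ∈ An D d, ∀ x ∈ nb D d, Commute a x ↔ (oExt S).h (f a) (f x) = 0 := fun a ha x hx => by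
    rw [f2 x hx, f3 a ha, oExt_h, mul_zero, add_zero, ← (lw a ha).iff _ trivial (v1 x hx), v2 x hx]
  have h4 : ∀ x ∈ D, ∀ y ∈ D, x ≠ y → (Commute x y ↔ (oExt S).h (f x) (f y) = 0) := fun x hx y hy ne => by
    rcases cs x hx with rfl | hx | hx <;> rcases cs y hy with rfl | hy | hy
    · exact absurd rfl ne
    · exact e1 y hy
    · exact e2 y hy
    · exact sy _ _ (e1 x hx)
    · rw [f2 x hx, f2 y hy, oExt_h, mul_zero, add_zero, ← h.comm' (v1 x hx) (v1 y hy) (by rwa [v2 x hx, v2 y hy]),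
        v2 x hx, v2 y hy]
    · exact sy _ _ (e3 y hy x hx)
    · exact sy _ _ (e2 x hx)
    · exact e3 x hx y hy
    · rw [f3 x hx, f3 y hy, oExt_h, mul_one]; exact ww x hx y hy ne
  have h0 : ∀ x ∈ D, NV (oExt S) (f x) := fun x hx => nv_o3.2 (by
    rcases cs x hx with rfl | hx | hx
    · simp [f1, oExt_h]
    · simp [f2 x hx, oExt_h, nv_o3.1 (v1 x hx)]
    · simp [f3 x hx, oExt_h, (lw x hx).iso])
  have h2 : ∀ x ∈ D, ∀ y ∈ D, ∀ c : ZMod 3, f y = c • f x → x = y := fun x hx y hy c e => by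
    by_contra ne
    have c0 : c ≠ 0 := fun h => (h0 y hy).1 (by rw [e, h, zero_smul])
    have n : ¬ Commute x y := by rw [h4 x hx y hy ne, e, h_smul_right, nv_o3.1 (h0 x hx), mul_one]; exact c0
    obtain ⟨s, hs, c1, c2⟩ := hD.dia hx (hc x hx y hy)
    obtain ⟨T, σ, m⟩ := hD.loc s hs
    refine ne (m.o3_wt x ⟨hx, fun e => n (e ▸ c2.symm), c1.symm⟩ y ⟨hy, fun e => n (e ▸ c1), c2.symm⟩ ?_).symm
    ext z
    refine and_congr_right fun hz => ?_
    by_cases z1 : z = x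
    · exact iff_of_false (fun h => h.1 z1) fun h => n (z1 ▸ h.2.symm)
    by_cases z2 : z = y
    · exact iff_of_false (fun h => n (z2 ▸ h.2)) fun h => h.1 z2
    rw [h4 x hx z hz.1 (Ne.symm z1), h4 y hy z hz.1 (Ne.symm z2), e, h_smul_left]
    simp [c0, z1, z2]
  refine (md_of_graph hD.t3 hF sf3 (oExt_nd h.nd) f h0 h2 ?_ h4).imp fun _ h => h.1
  rintro ⟨u, t⟩ hu
  have u1 : S.h u u + t * t = 1 := nv_o3.1 hu
  by_cases t0 : t = 0
  · subst t0
    have u2 : NV S u := nv_o3.2 (by simpa using u1)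
    obtain ⟨c, hc⟩ := (h.inj _ _ (v1 _ (h.mem u u2)) u2).1 (v2 _ (h.mem u u2))
    exact ⟨_, (h.mem u u2).1, c, by rw [f2 _ (h.mem u u2), Prod.smul_mk, ← hc, smul_zero]⟩
  rw [z3_sq t0, add_eq_right] at u1
  by_cases u0 : u = 0
  · exact ⟨d, hd, t, by simp [f1, u0]⟩
  obtain ⟨a, ha, l⟩ := (hr o ho).sur hD.t3 h h5 ho u0 u1
  have ha' := an_d hD.t3 hd ha
  obtain ⟨k, k0, e⟩ := l.uniq h.nd (by omega) (lw a ha)
  obtain ⟨j, j0, e'⟩ := (l.cjd d2 h).uniq h.nd (by omega) (lw _ ha')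
  have : k ≠ j := fun h => ha.2 ((comm_iff_conj d2).2 (h2 a ha.1 _ ha'.1 1 (by rw [f3 a ha, f3 _ ha', e, e', h, one_smul])).symm)
  have : t * k = 1 ∨ t * j = 1 := by clear * - this t0 k0 j0; revert t k j; decide
  rcases this with i | i
  exacts [⟨a, ha.1, t, by simp [f3 a ha, e, smul_smul, i]⟩, ⟨_, ha'.1, t, by simp [f3 _ ha', e', smul_smul, i]⟩]

theorem LO.mo3 (hD : LO n D) (hc : ∀ a ∈ D, ∀ b ∈ D, Cn D a b) (hd : d ∈ D) : MO3 (n + 1) D := by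
  obtain ⟨S, τ, h⟩ := hD.loc d hd
  obtain ⟨τ', h'⟩ := hD.md hc hd h (by simp)
  exact h'.mo3 (by simp)

theorem LO.mo (hD : LO n D) (hc : ∀ a ∈ D, ∀ b ∈ D, Cn D a b) (hd : d ∈ D) (h : MO n (nb D d)) : MO (n + 1) D := by
  obtain ⟨τ, h⟩ := h
  obtain ⟨τ', h'⟩ := hD.md hc hd h (by simp)
  obtain ⟨e, -, he⟩ := onb_eqv (S := oExt (std3 n)) (n := n + 1) (by simp)
    (Fin.cons (0, 1) fun i => (Pi.single i 1, 0)) fun i j => by
      refine Fin.cases ?_ (fun i => ?_) i <;> refine Fin.cases ?_ (fun j => ?_) j <;>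
        simp [oExt_h, std3_h, Pi.single_apply, (Fin.succ_ne_zero _).symm, eq_comm]
  exact ⟨_, h'.congr e he⟩

end H28
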