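import Cfsg.Agent.H28.CA

/-! The case of a non-trivial local `V`-class: the lines `Ln`, the fourth root `rt4`, the one-or-all axiom, lines
have three or five points, the symplectic case. -/

namespace H28
open Cfsg Subgroup H11

variable {G X : Type*} [Group G] [Group X] {D E : Set G}

theorem even_of_inv {α : Type*} {s : Set α} (hs : s.Finite) (g : α → α) (h1 : ∀ a ∈ s, g a ∈ s)
    (h2 : ∀ a ∈ s, g (g a) = a) (h3 : ∀ a ∈ s, g a ≠ a) : Even s.ncard := by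
  have := Finset.sum_involution (s := hs.toFinset) (f := fun _ => (1 : ZMod 2)) (fun a _ => g a) (fun _ _ => rfl)
    (fun a ha _ => h3 a (by simpa using ha)) (fun a ha => by simpa using h1 a (by simpa using ha))
    fun a ha => h2 a (by simpa using ha)
  rw [Finset.sum_const, nsmul_one, ZMod.natCast_eq_zero_iff_even] at this
  rwa [Set.ncard_eq_toFinset_card s hs]

/-- the fourth root -/
def rt4 (a u v w : G) : G := a * (u * v * w * a * (u * v * w)⁻¹) * a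

section rt
variable {a u v w e : G} (hD : T3 D) (ha : a ∈ D) (hu : u ∈ D) (hv : v ∈ D) (hw : w ∈ D)
include hD ha hu hv hw

theorem rt4_mem : rt4 a u v w ∈ D :=
  hD.cl a ha _ (hD.conj_mem (mul_mem (mul_mem (subset_closure hu) (subset_closure hv)) (subset_closure hw)) a ha)

omit hu hv hw in
theorem rt4_iff (he : e ∈ D) (n : ¬ Commute a e) :
    Commute e (rt4 a u v w) ↔ Commute a (e * (u * v * w) * a * (e * (u * v * w))⁻¹) := by
  rw [rt4, nc_conj_self (t3_sq hD.t3 ha), t3_braid hD.t3 ha he n, ← nc_conj_self (t3_sq hD.t3 he), mul_inv_rev e,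
    t3_inv hD.t3 he]
  simp only [mul_assoc]

theorem rt4_c (n1 : ¬ Commute a u) (n2 : ¬ Commute a v) (n3 : ¬ Commute a w) (c1 : Commute u v) (c2 : Commute u w)
    (c3 : Commute v w) : Commute u (rt4 a u v w) ∧ Commute v (rt4 a u v w) ∧ Commute w (rt4 a u v w) := by
  rw [rt4_iff hD ha hu n1, rt4_iff hD ha hv n2, rt4_iff hD ha hw n3, mul_assoc u v w, canc (t3_sq hD.t3 hu),
    c1.left_comm, canc (t3_sq hD.t3 hv), ← c1.left_comm, ← mul_assoc u v w, (c2.mul_left c3).eq,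
    canc (t3_sq hD.t3 hw)]
  exact ⟨t3_S4 hD.t3 hv hw ha c3 n2 n3, t3_S4 hD.t3 hu hw ha c2 n1 n3, t3_S4 hD.t3 hu hv ha c1 n1 n2⟩

theorem rt4_n (n1 : ¬ Commute a u) (n2 : ¬ Commute a v) (n3 : ¬ Commute a w) (c1 : Commute u v) (c2 : Commute u w)
    (c3 : Commute v w) (d1 : u ≠ v) (d2 : u ≠ w) (d3 : v ≠ w) : ¬ Commute a (rt4 a u v w) ∧
      u * v * w * a * (u * v * w)⁻¹ = rt4 a u v w * a * rt4 a u v w ∧ rt4 a u v w ≠ u ∧ rt4 a u v w ≠ v ∧
      rt4 a u v w ≠ w := by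
  have h1 : ¬ Commute a (rt4 a u v w) := by
    rw [rt4, comm_conj_iff (t3_sq hD.t3 ha) (Commute.refl a)]
    exact t3_D4 hD.t3 hD.cl hu hv hw ha d1 c1 c2 c3 d2 d3 n1 n2 n3
  have h2 : u * v * w * a * (u * v * w)⁻¹ = rt4 a u v w * a * rt4 a u v w := by
    rw [← t3_braid hD.t3 ha (rt4_mem hD ha hu hv hw) h1, rt4]
    simp only [mul_assoc, canc (t3_sq hD.t3 ha), t3_sq hD.t3 ha, mul_one]
  have key : ∀ x ∈ D, ∀ y ∈ D, ∀ z ∈ D, y ≠ z → ¬ Commute a y → u * v * w = x * (y * z) → rt4 a u v w ≠ x := by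
    intro x hx y hy z hz hne n e e'
    rw [e', e, mul_inv_rev x, t3_inv hD.t3 hx, mul_assoc x, ← mul_assoc, mul_left_inj, mul_assoc, mul_right_inj,
      mul_inv_eq_iff_eq_mul] at h2
    exact n (t3_two hD.t3 hy hz ha hne h2.symm).1
  exact ⟨h1, h2, key u hu v hv w hw d3 n2 (mul_assoc _ _ _), key v hv u hu w hw d2 n1 (by rw [c1.eq, mul_assoc]),
    key w hw u hu v hv d1 n1 (c2.mul_left c3).eq⟩
end rt

/-- the line through two commuting points -/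
def Ln (D : Set G) (p q : G) : Set G := {z | z ∈ D ∧ ∀ e ∈ D, Commute p e → Commute q e → Commute z e}

section ln
variable {p q u v w a z : G}

theorem Ln_symm (p q : G) : Ln D p q = Ln D q p := Set.ext fun _ => and_congr_right fun _ =>
  ⟨fun h e he a b => h e he b a, fun h e he a b => h e he b a⟩
theorem Ln.left (hp : p ∈ D) : p ∈ Ln D p q := ⟨hp, fun _ _ h _ => h⟩
theorem Ln.right (hq : q ∈ D) : q ∈ Ln D p q := ⟨hq, fun _ _ _ h => h⟩
theorem Ln.comm (hp : p ∈ D) (hq : q ∈ nb D p) (hu : u ∈ Ln D p q) (hv : v ∈ Ln D p q) : Commute u v :=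
  hu.2 v hv.1 (hv.2 p hp (Commute.refl p) hq.2.2.symm).symm (hv.2 q hq.1 hq.2.2 (Commute.refl q)).symm
theorem Ln.mnb (hp : p ∈ D) (hq : q ∈ nb D p) (hu : u ∈ Ln D p q) (hv : v ∈ Ln D p q) (h : u ≠ v) : v ∈ nb D u :=
  ⟨hv.1, h.symm, Ln.comm hp hq hu hv⟩

theorem TC.cj_Ln (hD : TC D) (g p q : G) : cjs g (Ln D p q) = Ln D (g * p * g⁻¹) (g * q * g⁻¹) := by
  ext z
  have : z ∈ D ↔ g⁻¹ * z * g ∈ D := by simpa using (hD.mem_cj (g := g⁻¹) (x := z)).symm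
  simp only [mem_cjs, Ln, Set.mem_ofPred_eq, commute_conj', this]
  refine and_congr_right fun _ => ⟨fun h e he a b => ?_, fun h e he a b => ?_⟩
  · have := h _ (by simpa using hD.cj g⁻¹ e he) a b
    rwa [← commute_conj g, show g * (g⁻¹ * z * g) * g⁻¹ = z by group, show g * (g⁻¹ * e * g) * g⁻¹ = e by group] at this
  · have := h _ (hD.cj g e he) (by simpa [mul_assoc]) (by simpa [mul_assoc])
    rwa [← commute_conj g, show g * (g⁻¹ * z * g) * g⁻¹ = z by group]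

theorem rt4_Ln (hD : T3 D) (ha : a ∈ D) (hu : u ∈ D) (hv : v ∈ D) (hw : w ∈ Ln D u v) (n1 : ¬ Commute a u)
    (n2 : ¬ Commute a v) (n3 : ¬ Commute a w) (c1 : Commute u v) : rt4 a u v w ∈ Ln D u v := by
  refine ⟨rt4_mem hD ha hu hv hw.1, fun e he e1 e2 => ?_⟩
  have e3 := hw.2 e he e1 e2
  by_cases n : Commute a e
  · have := (e1.mul_left e2).mul_left e3
    exact (n.mul_left ((this.mul_left n).mul_left this.inv_left)).mul_left n
  obtain ⟨r1, r2, -⟩ := rt4_c hD ha hu hv he n1 n2 n c1 e1 e2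
  have := (rt4_iff hD ha hw.1 n3).1 (hw.2 _ (rt4_mem hD ha hu hv he) r1 r2)
  refine ((rt4_iff hD ha he n).2 ?_).symm
  have c2 := (hw.2 u hu (Commute.refl u) c1.symm).symm
  have c3 := (hw.2 v hv c1 (Commute.refl v)).symm
  rwa [← ((e1.mul_left e2).mul_left e3).eq, mul_assoc _ w, e3.eq, ← mul_assoc,
    ((c2.mul_left c3).mul_left e3.symm).eq]

/-- products of two points of a line through `p` fix the lines through `p` -/
theorem Ln.transl (hD : T3 D) (hu : u ∈ nb D p) (hv : v ∈ Ln D p u) (hu' : u ∈ Ln D p v) {y : G} (hy : y ∈ nb D p) :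
    u * v * y * (u * v)⁻¹ ∈ Ln D p y := by
  refine ⟨hD.conj_mem (mul_mem (subset_closure hu.1) (subset_closure hv.1)) y hy.1, fun e he e1 e2 => ?_⟩
  by_cases c : Commute u e
  · have := c.mul_left (hv.2 e he e1 c)
    exact (this.mul_left e2).mul_left this.inv_left
  by_cases c' : Commute u y
  · rwa [conj_fix c' (hv.2 y hy.1 hy.2.2 c')]
  have c2 : ¬ Commute v y := fun h => c' (hu'.2 y hy.1 hy.2.2 h)
  have s := t3_S4 hD.t3 hy.1 he hu.1 e2 c' c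
  have p1 := hy.2.2.mul_right e1
  have := hv.2 _ (hD.conj_mem (mul_mem (subset_closure hy.1) (subset_closure he)) u hu.1)
    ((p1.mul_right hu.2.2).mul_right p1.inv_right) s
  rw [mul_inv_rev, t3_inv hD.t3 hy.1, t3_inv hD.t3 he, show y * e * u * (e * y) = y * (e * u * e) * y by group,
    nc_conj_self (t3_sq hD.t3 hy.1), ← t3_braid hD.t3 hv.1 hy.1 c2, ← t3_braid hD.t3 hu.1 he c,
    nc_conj_self (t3_sq hD.t3 hu.1)] at this
  rw [mul_inv_rev, t3_inv hD.t3 hu.1, t3_inv hD.t3 hv.1]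
  convert this using 1; group

variable [Finite G]

theorem PC.Ln_eq' (hD : PC D) (hp : p ∈ D) (hq : q ∈ nb D p) (hz : z ∈ Ln D p q) (hne : z ≠ p) :
    Ln D p z = Ln D p q := by
  have hz' := Ln.mnb hp hq (Ln.left hp) hz hne.symm
  have := (hD.lc hp).vr_of_sub hq hz' fun x hx c => hz.2 x hx.1 hx.2.2 c
  have k : ∀ e ∈ D, Commute p e → (Commute z e ↔ Commute q e) := fun e he c => by
    by_cases h : e = p
    exacts [h ▸ iff_of_true hz'.2.2.symm hq.2.2.symm, this e ⟨he, h, c⟩]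
  exact Set.ext fun x => and_congr_right fun _ => ⟨fun h e he a b => h e he a ((k e he a).2 b),
    fun h e he a b => h e he a ((k e he a).1 b)⟩

theorem PC.Ln_eq (hD : PC D) (hp : p ∈ D) (hq : q ∈ nb D p) (hu : u ∈ Ln D p q) (hv : v ∈ Ln D p q) (hne : u ≠ v) :
    Ln D u v = Ln D p q := by
  by_cases h : u = p
  · subst h; exact hD.Ln_eq' hp hq hv hne.symm
  rw [← hD.Ln_eq' hp hq hu h, Ln_symm p u] at hv ⊢
  exact hD.Ln_eq' hu.1 (nb_symm hp (Ln.mnb hp hq (Ln.left hp) hu (Ne.symm h))) hv hne.symm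

theorem PC.all (hD : PC D) (hp : p ∈ D) (hq : q ∈ nb D p) (hu : u ∈ Ln D p q) (hv : v ∈ Ln D p q) (hne : u ≠ v)
    (ha : a ∈ D) (c1 : Commute a u) (c2 : Commute a v) (hz : z ∈ Ln D p q) : Commute a z :=
  ((hD.Ln_eq hp hq hu hv hne ▸ hz : z ∈ Ln D u v).2 a ha c1.symm c2.symm).symm

theorem PC.transl (hD : PC D) (hp : p ∈ D) (hq : q ∈ nb D p) (hu : u ∈ Ln D p q) (hv : v ∈ Ln D p q) (h1 : u ≠ p)
    (h2 : v ≠ p) {y : G} (hy : y ∈ nb D p) : u * v * y * (u * v)⁻¹ ∈ Ln D p y :=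
  Ln.transl hD.T3 (Ln.mnb hp hq (Ln.left hp) hu h1.symm) (hD.Ln_eq' hp hq hu h1 ▸ hv) (hD.Ln_eq' hp hq hv h2 ▸ hu) hy

theorem PC.rt4_Ln (hD : PC D) (hp : p ∈ D) (hq : q ∈ nb D p) (ha : a ∈ D) (hu : u ∈ Ln D p q) (hv : v ∈ Ln D p q)
    (hw : w ∈ Ln D p q) (hne : u ≠ v) (n1 : ¬ Commute a u) (n2 : ¬ Commute a v) (n3 : ¬ Commute a w) :
    rt4 a u v w ∈ Ln D p q := by
  rw [← hD.Ln_eq hp hq hu hv hne] at hw ⊢
  exact H28.rt4_Ln hD.T3 ha hu.1 hv.1 hw n1 n2 n3 (Ln.comm hp hq hu hv)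

theorem PC.even_nc (hD : PC D) (hp : p ∈ D) (hq : q ∈ nb D p) (ha : a ∈ D) (hu : u ∈ Ln D p q) (hv : v ∈ Ln D p q)
    (hne : u ≠ v) (n1 : ¬ Commute a u) (n2 : ¬ Commute a v) : Even {z | z ∈ Ln D p q ∧ ¬ Commute a z}.ncard := by
  have c := fun {x y} => Ln.comm (u := x) (v := y) hp hq
  have h := even_of_inv (s := {z | z ∈ Ln D p q ∧ ¬ Commute a z} \ {u, v}) (Set.toFinite _) (rt4 a u v)
    (fun w hw => ?_) (fun w hw => ?_) fun w hw => ?_
  · rw [← Set.ncard_sdiff_add_ncard_of_subset (s := {u, v}) (by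
      rintro _ (rfl | rfl); exacts [⟨hu, n1⟩, ⟨hv, n2⟩]), Set.ncard_pair hne]
    exact h.add even_two
  all_goals
    simp only [Set.mem_sdiff, Set.mem_insert_iff, Set.mem_singleton_iff, not_or, Set.mem_ofPred_eq] at hw ⊢
    obtain ⟨r1, r2, r3, r4, r5⟩ := rt4_n hD.T3 ha hu.1 hv.1 hw.1.1.1 n1 n2 hw.1.2 (c hu hv) (c hu hw.1.1) (c hv hw.1.1)
      hne (Ne.symm hw.2.1) (Ne.symm hw.2.2)
    have m := hD.rt4_Ln hp hq ha hu hv hw.1.1 hne n1 n2 hw.1.2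
  · exact ⟨⟨m, r1⟩, r3, r4⟩
  · generalize rt4 a u v w = r at *
    have w2 := t3_sq hD.t3 hw.1.1.1
    have : u * v * r * a * (u * v * r)⁻¹ = w * a * w := by
      have cw := ((c hu hw.1.1).mul_left (c hv hw.1.1)).eq
      have cr := ((c hu m).mul_left (c hv m)).eq
      calc _ = w * r * (u * v * w * a * (u * v * w)⁻¹) * (r * w) := by
            rw [cr, cw, (c hw.1.1 m).eq, mul_inv_rev, mul_inv_rev w, t3_inv hD.t3 hw.1.1.1, t3_inv hD.t3 m.1,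
              (c m hw.1.1).eq]
            simp only [mul_assoc, canc w2]
            rw [(c m hw.1.1).left_comm, canc w2]
        _ = _ := by rw [r2]; simp only [mul_assoc, canc (t3_sq hD.t3 m.1)]
    rw [rt4, this, ← t3_braid hD.t3 ha hw.1.1.1 hw.1.2]
    simp only [mul_assoc, canc (t3_sq hD.t3 ha), t3_sq hD.t3 ha, mul_one]
  · exact r5

theorem PC.ncard_Ln (hD : PC D) (hp : p ∈ D) (hq : q ∈ nb D p) (hu : u ∈ D) (hv : v ∈ nb D u) :
    (Ln D p q).ncard = (Ln D u v).ncard := by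
  obtain ⟨g, rfl, rfl⟩ := hD.pair_tr hp hq hu hv
  rw [← hD.cj_Ln, ncard_cjs]

/-- lines have at least three points -/
structure CB (D : Set G) : Prop extends PC D where
  big : ∀ p ∈ D, ∀ q ∈ nb D p, ∃ z ∈ Ln D p q, z ≠ p ∧ z ≠ q

theorem exists_notMem_list {α : Type*} {s : Set α} (l : List α) (h : l.length < s.ncard) : ∃ x ∈ s, x ∉ l := by
  classical
  by_contra! h'
  have := Set.ncard_le_ncard (show s ⊆ l.toFinset from fun x hx => by simpa using h' x hx)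
  rw [Set.ncard_coe_finset] at this
  have := l.toFinset_card_le
  omega

theorem PC.cb (hD : PC D) {d : G} (hd : d ∈ D) (h : ¬ VT (nb D d)) : CB D := by
  simp only [VT, not_forall] at h
  obtain ⟨x, hx, y, hy, h, hne⟩ := h
  refine ⟨hD, fun p hp q hq => ?_⟩
  obtain ⟨z, hz, h⟩ := exists_notMem_list (s := Ln D p q) [p, q] (by
    rw [hD.ncard_Ln hp hq hd hx]
    refine (Set.two_lt_ncard (Set.toFinite _)).2 ⟨d, Ln.left hd, x, Ln.right hx.1, y, ⟨hy.1, fun e he a b => ?_⟩,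
      hx.2.1.symm, hy.2.1.symm, Ne.symm hne⟩
    by_cases e' : e = d
    exacts [e' ▸ hy.2.2.symm, (h e ⟨he, e', a⟩).2 b])
  exact ⟨z, hz, by simpa using h⟩

theorem CB.not_vt (hD : CB D) {d : G} (hd : d ∈ D) : ¬ VT (nb D d) := fun h => by
  obtain ⟨x, hx⟩ := hD.nb_ne hD.w hd
  obtain ⟨z, hz, h1, h2⟩ := hD.big d hd x hx
  have hz' := Ln.mnb hd hx (Ln.left hd) hz h1.symm
  exact h2 (h x hx z hz' ((hD.lc hd).vr_of_sub hx hz' fun e he c => hz.2 e he.1 he.2.2 c))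

theorem CB.odd (hD : CB D) (hp : p ∈ D) (hq : q ∈ nb D p) : Odd (Ln D p q).ncard := by
  obtain ⟨z, hz, h1, h2⟩ := hD.big p hp q hq
  obtain ⟨b, hb, c, n⟩ := hD.sep hp hq.1 hq.2.1.symm
  have k : ∀ x ∈ Ln D p q, x ≠ p → ¬ Commute b x := fun x hx h c' =>
    n (hD.all hp hq (Ln.left hp) hx h.symm hb c.symm c' (Ln.right hq.1)).symm
  have := hD.even_nc hp hq hb (Ln.right hq.1) hz h2.symm (fun h => n h.symm) (k z hz h1)
  rw [show {z | z ∈ Ln D p q ∧ ¬ Commute b z} = Ln D p q \ {p} from Set.ext fun x => and_congr_right fun hx =>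
    ⟨fun h e => h (e ▸ c.symm), k x hx⟩] at this
  rw [← Set.ncard_sdiff_singleton_add_one (Ln.left hp)]
  exact this.add_one

/-- one or all -/
theorem CB.ooa (hD : CB D) (hp : p ∈ D) (hq : q ∈ nb D p) (ha : a ∈ D) : ∃ z ∈ Ln D p q, Commute a z := by
  by_contra! h
  have := hD.even_nc hp hq ha (Ln.left hp) (Ln.right hq.1) hq.2.1.symm (h _ (Ln.left hp)) (h _ (Ln.right hq.1))
  rw [show {z | z ∈ Ln D p q ∧ ¬ Commute a z} = Ln D p q from Set.ext fun x => and_iff_left_of_imp (h x)] at this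
  exact Nat.not_even_iff_odd.2 (hD.odd hp hq) this

theorem CB.par_Sp (hD : CB D) (hp : p ∈ D) (ha : a ∈ D) (n : ¬ Commute p a) : Par (Sp D p a) := fun u hu => by
  have hu' : u ∈ nb D p := ⟨hu.1, by rintro rfl; exact n hu.2.2.symm, hu.2.1⟩
  obtain ⟨e, he, h⟩ := hD.lpar hp u hu'
  obtain ⟨s, hs, c⟩ := hD.ooa hp he ha
  have hne : p ≠ s := by rintro rfl; exact n c.symm
  exact ⟨s, ⟨hs.1, Ln.comm hp he (Ln.left hp) hs, c⟩, fun c' =>
    h (hD.all hp he (Ln.left hp) hs hne hu.1 hu.2.1.symm c' (Ln.right he.1))⟩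

theorem CB.fib (hD : CB D) : Fib D := by
  have key : ∀ x ∈ D, ∀ y ∈ D, ∀ z ∈ D, ¬ Commute x y → Commute y z →
      (∀ s ∈ D, Commute x s → Commute y s → Commute z s) → z = y := fun x hx y hy z hz n c h => by
    by_contra hne
    obtain ⟨u, hu, c'⟩ := hD.ooa hy ⟨hz, hne, c⟩ hx
    obtain ⟨s, hs, n'⟩ := hD.par_Sp hx hy n u ⟨hu.1, c', Ln.comm hy ⟨hz, hne, c⟩ (Ln.left hy) hu⟩
    exact n' (hu.2 s hs.1 hs.2.2 (h s hs.1 hs.2.1 hs.2.2))
  intro x hx y hy z hz n1 n2 h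
  by_cases c1 : Commute y z
  · exact Or.inl (key x hx y hy z hz n1 c1 h)
  have x2 := t3_sq hD.t3 hx
  by_cases c2 : Commute (x * y * x) z
  · exact Or.inr (key x hx _ (hD.cl hx hy) z hz (mt (comm_conj_iff x2 (Commute.refl x)).1 n1) c2 fun s hs a b =>
      h s hs a ((comm_conj_iff x2 a.symm).1 b.symm).symm)
  refine (hD.aff_false hx hy hz n1 c1 (fun c => c2 ?_) (fun p hp q hq n => (hD.ncard_Sp hp hq hx hy n n1).le)
    (Set.eq_of_subset_of_ncard_le (fun s hs => ⟨hs.1, hs.2.1, h s hs.1 hs.2.1 hs.2.2⟩)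
      (hD.ncard_Sp hx hz hx hy n2 n1).le)).elim
  rwa [t3_braid hD.t3 hx hy n1, ← nc_conj_self (t3_sq hD.t3 hy)]

theorem CB.le_five (hD : CB D) (hp : p ∈ D) (hq : q ∈ nb D p) : (Ln D p q).ncard ≤ 5 := by
  by_contra! h5
  obtain ⟨b, hb, n⟩ := hD.exists_nc hD.two hp
  obtain ⟨x, hx⟩ := hD.sp_ne hp hb n
  obtain ⟨x', hx', nx⟩ := hD.par_Sp hp hb n x hx
  have m : ∀ x ∈ Sp D p b, x ∈ nb D p := fun x hx => ⟨hx.1, by rintro rfl; exact n hx.2.2.symm, hx.2.1⟩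
  have k : ∀ x ∈ Sp D p b, ∀ u ∈ Ln D p x, u ≠ x → ¬ Commute b u := fun x hx u hu h c =>
    n (hD.all hp (m x hx) hu (Ln.right hx.1) h hb c hx.2.2 (Ln.left hp)).symm
  have l := Ln.right (p := p) hx.1
  have l' := Ln.right (p := p) hx'.1
  have c := fun {u v} => Ln.comm (u := u) (v := v) hp (m x hx)
  have c' := fun {u v} => Ln.comm (u := u) (v := v) hp (m x' hx')
  -- points of the two lines do not commute
  have nn : ∀ u ∈ Ln D p x, ∀ v ∈ Ln D p x', u ≠ p → v ≠ p → ¬ Commute u v := fun u hu v hv h1 h2 e => nx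
    (hD.all hp (m x' hx') (Ln.left hp) hv h2.symm hx.1 (c l (Ln.left hp))
      (hD.all hp (m x hx) (Ln.left hp) hu h1.symm hv.1 (c' hv (Ln.left hp)) e.symm l).symm l')
  -- translations
  have tr : ∀ {x x' : G}, x ∈ nb D p → x' ∈ nb D p → (∀ u ∈ Ln D p x, ∀ v ∈ Ln D p x', u ≠ p → v ≠ p → ¬ Commute u v) →
      ∀ u ∈ Ln D p x, ∀ v ∈ Ln D p x, u ≠ p → v ≠ p → u ≠ v → ∀ y ∈ Ln D p x', y ≠ p →
      u * v * y * (u * v)⁻¹ ∈ Ln D p x' ∧ u * v * y * (u * v)⁻¹ ≠ p ∧ u * v * y * (u * v)⁻¹ ≠ y := by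
    intro x x' hx hx' nn u hu v hv h1 h2 h3 y hy h4
    refine ⟨hD.Ln_eq' hp hx' hy h4 ▸ hD.transl hp hx hu hv h1 h2 (Ln.mnb hp hx' (Ln.left hp) hy h4.symm), fun e => h4 ?_,
      fun e => nn u hu y hy h1 h4 (t3_two hD.t3 hu.1 hv.1 hy.1 h3 (mul_inv_eq_iff_eq_mul.1 e).symm).1.symm⟩
    rwa [← conj_fix (Ln.comm hp hx hu (Ln.left hp)) (Ln.comm hp hx hv (Ln.left hp)), mul_left_inj, mul_right_inj] at e
  have sq : ∀ u ∈ D, ∀ v ∈ D, Commute u v → u * v * (u * v) = 1 := fun u hu v hv e => by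
    rw [← _root_.sq, sq_of_comm (t3_sq hD.t3 hu) (t3_sq hD.t3 hv) e]
  have flip : ∀ T : G, T * T = 1 → ∀ s t : G, T * s * T⁻¹ = t → T * t * T⁻¹ = s := fun T hT s t e => by
    rw [← e, inv_of_sq hT]; simp only [mul_assoc, canc hT, hT, mul_one]
  obtain ⟨y, hy, y1, y2⟩ := hD.big p hp x (m x hx)
  have t := tr (m x hx) (m x' hx') nn x l y hy (m x hx).2.1 y1 y2.symm
  have T2 := sq x hx.1 y hy.1 (c l hy)
  generalize hT : x * y = T at t T2
  rw [hD.ncard_Ln hp hq hp (m x' hx')] at h5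
  obtain ⟨u, hu, u0⟩ := exists_notMem_list [p, x', T * x' * T⁻¹] (lt_trans (by simp) h5)
  obtain ⟨v, hv, v0⟩ := exists_notMem_list [p, x', T * x' * T⁻¹, u, T * u * T⁻¹] h5
  simp only [List.mem_cons, List.not_mem_nil, or_false, not_or] at u0 v0
  obtain ⟨u1, u2, u3⟩ := t u hu u0.1
  obtain ⟨v1, v2, v3⟩ := t v hv v0.1
  have u4 : T * u * T⁻¹ ≠ x' := fun e => u0.2.2 (flip T T2 _ _ e).symm
  have v4 : T * v * T⁻¹ ≠ x' := fun e => v0.2.2.1 (flip T T2 _ _ e).symm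
  have v5 : T * v * T⁻¹ ≠ u := fun e => v0.2.2.2.2 (flip T T2 _ _ e).symm
  have r := tr (m x' hx') (m x hx) (fun a ha b hb h1 h2 e => nn b hb a ha h2 h1 e.symm) u hu v hv u0.1 v0.1
    (Ne.symm v0.2.2.2.1)
  have R2 := sq u hu.1 v hv.1 (c' hu hv)
  obtain ⟨a1, a2, a3⟩ := r x l (m x hx).2.1
  obtain ⟨b1, b2, b3⟩ := r y hy y1
  have e : T * u * T⁻¹ * (T * v * T⁻¹ * u * v) = y * (u * v * x * (u * v)⁻¹) * (u * v * y * (u * v)⁻¹) * x := by
    rw [← (((c l hy).mul_right (c l a1)).mul_right (c l b1)).eq]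
    calc _ = T * (u * v) * T⁻¹ * (u * v) := by group
      _ = x * y * (u * v) * (x * y) * (u * v)⁻¹ := by rw [inv_of_sq R2, inv_of_sq T2, hT]
      _ = _ := by group
  obtain ⟨r1, r2, -⟩ := rt4_n hD.T3 hb v1.1 hu.1 hv.1 (k x' hx' _ v1 v4) (k x' hx' _ hu u0.2.1) (k x' hx' _ hv v0.2.1)
    (c' v1 hu) (c' v1 hv) (c' hu hv) v5 v3 (Ne.symm v0.2.2.2.1)
  have r3 := hD.rt4_Ln hp (m x' hx') hb v1 hu hv v5 (k x' hx' _ v1 v4) (k x' hx' _ hu u0.2.1) (k x' hx' _ hv v0.2.1)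
  have s := t3_S4 hD.t3 u1.1 r3.1 hb (c' u1 r3) (k x' hx' _ u1 u4) r1
  have e2 : ∀ A B r : G, B * b * B⁻¹ = r * b * r → r⁻¹ = r → A * r * b * (A * r)⁻¹ = A * B * b * (A * B)⁻¹ :=
    fun A B r h1 h2 => by
      calc _ = A * (r * b * r⁻¹) * A⁻¹ := by group
        _ = _ := by rw [h2, ← h1]; group
  have e3 : ∀ A : G, A * x * b * (A * x)⁻¹ = A * b * A⁻¹ := fun A => by
    rw [mul_assoc A x b, ← hx.2.2.eq]; group
  rw [e2 _ _ _ r2 (t3_inv hD.t3 r3.1), e, e3] at s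
  by_cases e' : u * v * x * (u * v)⁻¹ = y
  · rw [e', flip _ R2 _ _ e', t3_sq hD.t3 hy.1, one_mul, t3_sq hD.t3 hx.1, mul_eq_one_iff_inv_eq,
      t3_inv hD.t3 u1.1] at e
    obtain ⟨z, hz, z1, z2⟩ := hD.sep u1.1 hu.1 u3
    exact z2 (t3_three hD.t3 v1.1 hu.1 hv.1 hz v5 v3 (Ne.symm v0.2.2.2.1) (c' v1 hu) (c' v1 hv) (c' hu hv)
      (e ▸ z1.symm)).2.1.symm
  · exact t3_D4 hD.t3 hD.T3.cl hy.1 a1.1 b1.1 hb (Ne.symm e') (c hy a1) (c hy b1) (c a1 b1) b3.symm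
      (by simpa using y2.symm) (k x hx _ hy y2) (k x hx _ a1 a3) (k x hx _ b1 fun h => e' (flip _ R2 _ _ h)) s

theorem CB.three_or_five (hD : CB D) : (∀ p ∈ D, ∀ q ∈ nb D p, (Ln D p q).ncard = 3) ∨
    ∀ p ∈ D, ∀ q ∈ nb D p, (Ln D p q).ncard = 5 := by
  obtain ⟨p, hp, q, hq, h1, h2⟩ := hD.w
  have hq' : q ∈ nb D p := ⟨hq, h1.symm, h2⟩
  have a := hD.le_five hp hq'
  have b := Nat.odd_iff.1 (hD.odd hp hq')
  have c : 1 < (Ln D p q).ncard := (Set.one_lt_ncard (Set.toFinite _)).2 ⟨p, Ln.left hp, q, Ln.right hq, h1⟩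
  exact (show _ = 3 ∨ _ = 5 by omega).imp (fun e u hu v hv => (hD.ncard_Ln hu hv hp hq').trans e)
    fun e u hu v hv => (hD.ncard_Ln hu hv hp hq').trans e

theorem eq_of_three {α : Type*} {s : Set α} (h : s.ncard = 3) {a b c x : α} (ha : a ∈ s) (hb : b ∈ s) (hc : c ∈ s)
    (h1 : a ≠ b) (h2 : a ≠ c) (h3 : b ≠ c) (hx : x ∈ s) : x = a ∨ x = b ∨ x = c := by
  have : ({a, b, c} : Set α) = s := Set.eq_of_subset_of_ncard_le (by rintro _ (rfl | rfl | rfl) <;> assumption)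
    (by rw [h, Set.ncard_eq_three.2 ⟨_, _, _, h1, h2, h3, rfl⟩]) (Set.finite_of_ncard_ne_zero (by omega))
  rwa [← this] at hx

theorem CB.sy (hD : CB D) (h3 : ∀ p ∈ D, ∀ q ∈ nb D p, (Ln D p q).ncard = 3) : SY D := by
  intro x hx y hy z hz n1 n2 n3
  by_contra n4
  have n5 : ¬ Commute x (y * z * y) := by
    rw [nc_conj_self (t3_sq hD.t3 hy), ← t3_braid hD.t3 hx hy n1]; exact fun h => n4 h.symm
  refine hD.aff_false hx hy hz n1 n3 n5 (fun p hp q hq n => (hD.ncard_Sp hp hq hx hy n n1).le)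
    (Set.eq_of_subset_of_ncard_le (fun s hs => ⟨hs.1, hs.2.1, ?_⟩) (hD.ncard_Sp hx hz hx hy n2 n1).le)
  by_contra n6
  have hs' : s ∈ nb D x := ⟨hs.1, by rintro rfl; exact n1 hs.2.2.symm, hs.2.1⟩
  obtain ⟨t, ht, t1, t2⟩ := hD.big x hx s hs'
  have k := fun {w} => eq_of_three (x := w) (h3 x hx s hs') (Ln.left hx) (Ln.right hs.1) ht hs'.2.1.symm t1.symm t2.symm
  obtain ⟨w, hw, c⟩ := hD.ooa hx hs' hz
  obtain ⟨w', hw', c'⟩ := hD.ooa hx hs' (hD.cl hy hz)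
  rcases k hw with rfl | rfl | rfl
  exacts [n2 c.symm, n6 c, by
    rcases k hw' with rfl | rfl | rfl
    · exact n5 c'.symm
    · exact n6 ((comm_conj_iff (t3_sq hD.t3 hy) hs.2.2.symm).1 c'.symm).symm
    · rw [t3_braid hD.t3 hy hz n3] at c'
      exact n1 (hD.all hx hs' (Ln.right hs.1) ht t2.symm hy hs.2.2
        ((comm_conj_iff (t3_sq hD.t3 hz) c.symm).1 c'.symm).symm (Ln.left hx)).symm]

theorem CB.three (hD : CB D) (hS : SY D) : ∀ p ∈ D, ∀ q ∈ nb D p, (Ln D p q).ncard = 3 := by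
  refine hD.three_or_five.resolve_right fun h5 => ?_
  obtain ⟨p, hp, q, hq, h1, h2⟩ := hD.w
  have hq' : q ∈ nb D p := ⟨hq, h1.symm, h2⟩
  obtain ⟨u, hu, u0⟩ := exists_notMem_list (s := Ln D p q) [p, q] (by simp [h5 p hp q hq'])
  obtain ⟨v, hv, v0⟩ := exists_notMem_list (s := Ln D p q) [p, q, u] (by simp [h5 p hp q hq'])
  simp only [List.mem_cons, List.not_mem_nil, or_false, not_or] at u0 v0
  obtain ⟨a, ha, a1, a2⟩ := hD.sep hp hq h1
  have ka : ∀ x ∈ Ln D p q, x ≠ p → ¬ Commute x a := fun x hx h c =>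
    a2 (hD.all hp hq' (Ln.left hp) hx h.symm ha a1.symm c.symm (Ln.right hq)).symm
  have key : ∀ b ∈ D, Commute q b → ¬ Commute p b → Commute a b := fun b hb b1 b2 => by
    by_contra n
    have kb : ∀ x ∈ Ln D p q, x ≠ q → ¬ Commute x b := fun x hx h c =>
      b2 (hD.all hp hq' (Ln.right hq) hx h.symm hb b1.symm c.symm (Ln.left hp)).symm
    have k : ∀ x ∈ Ln D p q, x ≠ p → x ≠ q → Commute (a * b * a) x := fun x hx e1 e2 => (bz_eq.1 (by
      rw [hS.bz_conj hD.T3 ha hb hx.1 n, bz_n (ka x hx e1), bz_n (kb x hx e2), z2_add])).symm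
    exact b2 ((comm_conj_iff (t3_sq hD.t3 ha) a1).1 (hD.all hp hq' hu hv (Ne.symm v0.2.2) (hD.cl ha hb)
      (k u hu u0.1 u0.2) (k v hv v0.1 v0.2.1) (Ln.left hp)).symm)
  obtain ⟨b, hb, b1, b2⟩ := hD.sep hq hp h1.symm
  have u2 := t3_sq hD.t3 hu.1
  have nb' : ¬ Commute u b := fun c => b2 (hD.all hp hq' (Ln.right hq) hu (Ne.symm u0.2) hb b1.symm c.symm (Ln.left hp)).symm
  have := key _ (hD.cl hu.1 hb) ((comm_conj_iff u2 (Ln.comm hp hq' (Ln.right hq) hu)).2 b1)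
    (mt (comm_conj_iff u2 (Ln.comm hp hq' (Ln.left hp) hu)).1 b2)
  rw [t3_braid hD.t3 hu.1 hb nb', comm_conj_iff (t3_sq hD.t3 hb) (key b hb b1 b2)] at this
  exact ka u hu u0.1 this.symm

theorem CB.bz3 (hD : CB D) (hS : SY D) (hp : p ∈ D) (hq : q ∈ nb D p) (hz : z ∈ Ln D p q) (h1 : z ≠ p) (h2 : z ≠ q)
    (ha : a ∈ D) : bz z a = bz p a + bz q a := by
  have k := fun {u v} hu hv h c1 c2 {w} hw => (hD.all (u := u) (v := v) (z := w) hp hq hu hv h ha c1 c2 hw).symm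
  by_cases c1 : Commute p a <;> by_cases c2 : Commute q a
  · rw [bz_c c1, bz_c c2, bz_c (hz.2 a ha c1 c2), add_zero]
  · rw [bz_c c1, bz_n c2, bz_n fun c => c2 (k (Ln.left hp) hz h1.symm c1.symm c.symm (Ln.right hq.1)), zero_add]
  · rw [bz_n c1, bz_c c2, bz_n fun c => c1 (k (Ln.right hq.1) hz h2.symm c2.symm c.symm (Ln.left hp)), add_zero]
  · obtain ⟨w, hw, c⟩ := hD.ooa hp hq ha
    rcases eq_of_three (hD.three hS p hp q hq) (Ln.left hp) (Ln.right hq.1) hz hq.2.1.symm h1.symm h2.symm hw with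
      rfl | rfl | rfl
    exacts [absurd c.symm c1, absurd c.symm c2, by rw [bz_n c1, bz_n c2, bz_c c.symm, z2_add]]

theorem CB.md_sp (hD : CB D) (hS : SY D) : ∃ (n : ℕ) (S : PForm SP (Fin n → ZMod 2)) (τ : _ → G), Md S τ D := by
  obtain ⟨n, S, v, g⟩ := hS.gr hD.T3 hD.vt (hD.toTC.par hD.two)
  refine ⟨n, S, g.md_sp fun x hx y hy h c => ?_⟩
  obtain ⟨z, hz, h1, h2⟩ := hD.big x hx y ⟨hy, h.symm, c⟩
  refine ⟨z, hz.1, sub_eq_zero.1 (g.ext fun e he => ?_)⟩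
  rw [map_sub, map_add, LinearMap.sub_apply, LinearMap.add_apply, g.h _ hz.1 _ he, g.h _ hx _ he, g.h _ hy _ he,
    hD.bz3 hS hx ⟨hy, h.symm, c⟩ hz h1 h2 he, sub_self]

end ln
end H28
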