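import Cfsg.Agent.H28.CU2

/-! Chains of type `A₄`, counting points of symmetric groups, dimension bounds, and the cases A and B together. -/

namespace H28
open Cfsg Subgroup H11 H11.PForm Module Equiv

variable {G : Type*} [Group G] {D E : Set G}

/-- a chain of type `A₄` -/
def Ch4 (E : Set G) : Prop := ∃ a ∈ E, ∃ b ∈ E, ∃ c ∈ E, ∃ d ∈ E, ¬ Commute a b ∧ ¬ Commute b c ∧ ¬ Commute c d ∧
  Commute a c ∧ Commute a d ∧ Commute b d

theorem Ch4.not_solv (h : Ch4 E) (hE : T3 E) : ¬ Group.IsSolvable (closure E) := fun s => by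
  obtain ⟨a, ha, b, hb, c, hc, d, hd, h1, h2, h3, h4, h5, h6⟩ := h
  obtain ⟨φ, -, -, -, -, i, r, -⟩ := s5_frame hE ha hb hc hd h1 h2 h3 h4 h5 h6
  exact Perm.not_isSolvable (Fin 5) (by simp) (Group.isSolvable_of_isSolvable_injective
    (f := φ.codRestrict _ fun x => r ⟨x, rfl⟩) fun x y e => i (congrArg Subtype.val e))

theorem Ch4.cj (h : Ch4 E) (g : G) : Ch4 (cjs g E) := by
  obtain ⟨a, ha, b, hb, c, hc, d, hd, h⟩ := h
  exact ⟨_, conj_mem_cjs ha, _, conj_mem_cjs hb, _, conj_mem_cjs hc, _, conj_mem_cjs hd, by simpa only [commute_conj]⟩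

theorem TC.ch4 (hD : TC D) {x y : G} (hx : x ∈ D) (hy : y ∈ D) (h : Ch4 (nb D x)) : Ch4 (nb D y) := by
  obtain ⟨g, rfl⟩ := hD.tr x hx y hy
  exact hD.cj_nb g x ▸ h.cj g

section
variable {F : Type*} [Field F] {σ : F →+* F} {P : FParam σ} {V : Type*} [AddCommGroup V] [Module F V]
  [FiniteDimensional F V] {S : PForm P V} {τ : V → G}

theorem Md.chain (h : Md S τ E) (h2 : (2 : F) = 0) (hN : ∀ v, NV S v ↔ v ≠ 0 ∧ S.Sing v)
    (hI : ∀ U, ND S U 2 → ∃ x ∈ U, x ≠ 0 ∧ S.Sing x) (h6 : 6 ≤ finrank F V) : ∃ x ∈ E, Ch4 (nb E x) := by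
  have n1 := nd_top h.nd h6
  obtain ⟨x, hx, x0, x1⟩ := hI _ (n1.mono (by omega))
  obtain ⟨y, hy, H⟩ := n1.partner hx x0 x1
  have n2 := n1.hyp (k := 4) hx hy H
  obtain ⟨e, he, e0, e1⟩ := hI _ (n2.mono (by omega))
  obtain ⟨f, hf, H1⟩ := n2.partner he e0 e1
  have n3 := n2.hyp (k := 2) he hf H1
  obtain ⟨u, hu, u0, u1⟩ := hI _ n3
  obtain ⟨w, hw, H2⟩ := n3.partner hu u0 u1
  simp only [mem_pp] at he hf hu hw
  have s1 : e + u ≠ 0 := fun e' => by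
    have := congrArg (fun z => S.h z w) e'
    simp [H2.h_ef, hw.1.2] at this
  have s2 : S.Sing (e + u) := e1.add u1 hu.1.2
  have nx := (hN _).2 ⟨x0, x1⟩
  have m : ∀ v, v ≠ 0 → S.Sing v → S.h x v = 0 → S.h y v = 0 → τ v ∈ nb E (τ x) := fun v v0 v1 v2 v3 =>
    ⟨h.mem _ ((hN _).2 ⟨v0, v1⟩), fun e' => by
      obtain ⟨c, rfl⟩ := (h.inj _ _ nx ((hN _).2 ⟨v0, v1⟩)).1 e'.symm
      have := S.h_swap_zero v3
      rw [h_smul_left, H.h_ef, mul_one, map_eq_zero] at this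
      simp [this] at v0, h.comm_of nx ((hN _).2 ⟨v0, v1⟩) v2⟩
  have c := fun a b a0 a1 b0 b1 => h.comm2 h2 ((hN a).2 ⟨a0, a1⟩) ((hN b).2 ⟨b0, b1⟩)
  refine ⟨_, h.mem _ nx, _, m e e0 e1 he.1.2 he.2, _, m f H1.f_ne H1.sing_f hf.1.2 hf.2, _, m _ s1 s2
    (by simp [he.1.2, hu.1.1.1.2]) (by simp [he.2, hu.1.1.2]), _, m w H2.f_ne H2.sing_f hw.1.1.1.2 hw.1.1.2, ?_⟩
  rw [c _ _ e0 e1 H1.f_ne H1.sing_f, c _ _ H1.f_ne H1.sing_f s1 s2, c _ _ s1 s2 H2.f_ne H2.sing_f, c _ _ e0 e1 s1 s2,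
    c _ _ e0 e1 H2.f_ne H2.sing_f, c _ _ H1.f_ne H1.sing_f H2.f_ne H2.sing_f]
  have := h.sf.symm S e f
  simp [H1.h_ef, H2.h_ef, hw.1.2, hw.2, hu.1.2, hu.2, e1.h_self, this]
end

section
variable {V : Type*} [AddCommGroup V]

theorem ND.isoU [Module K4 V] [FiniteDimensional K4 V] {S : PForm UP V} {U : Submodule K4 V} (h : ND S U 2) :
    ∃ x ∈ U, x ≠ 0 ∧ S.Sing x := by
  obtain ⟨x, hx, x1⟩ := unit_exists_norm_mem fr_ne h.1 (h.2.trans' (by omega)) (map_one fr)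
  obtain ⟨y, hy, y1⟩ := unit_exists_norm_mem fr_ne (h.vec (k := 1) hx (by rw [x1]; decide)).1
    (h.vec (k := 1) hx (by rw [x1]; decide)).2 (map_one fr)
  refine ⟨x + y, add_mem hx hy.1, fun e => ?_, (unit_sing _ _).2 ?_⟩
  · have := congrArg (S.h x) e
    simp [x1, (mem_pp.1 hy).2] at this
  · rw [u_add, x1, y1, (mem_pp.1 hy).2]; decide

theorem ND.isoS [Module (ZMod 2) V] [FiniteDimensional (ZMod 2) V] {S : PForm SP V} {U : Submodule (ZMod 2) V}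
    (h : ND S U 2) : ∃ x ∈ U, x ≠ 0 ∧ S.Sing x := by
  obtain ⟨x, hx⟩ := (finrank_pos_iff_exists_ne_zero (R := ZMod 2) (M := U)).1 (h.2.trans_lt' (by omega))
  exact ⟨x, x.2, fun e => hx (Subtype.ext e), trivial⟩

/-- three orthogonal vectors span a space of dimension three -/
theorem finrank_three [Module (ZMod 2) V] {a b c : V} (h1 : a ≠ 0) (h2 : b ≠ 0) (h3 : c ≠ 0) (h4 : a ≠ b) (h5 : a ≠ c)
    (h6 : b ≠ c) (h7 : a + b + c ≠ 0) : finrank (ZMod 2) (Submodule.span (ZMod 2) {a, b, c}) = 3 := by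
  have ad : ∀ x y : V, x + y = 0 → x = y := fun x y e => by
    rw [← neg_eq_of_add_eq_zero_right e, neg_eq_of_add_eq_zero_right (v2_add x)]
  have : LinearIndependent (ZMod 2) ![a, b, c] := by
    rw [Fintype.linearIndependent_iff]
    intro g hg
    simp only [Fin.sum_univ_three, Matrix.cons_val_zero, Matrix.cons_val_one, Matrix.cons_val] at hg
    have : g 0 = 0 ∧ g 1 = 0 ∧ g 2 = 0 := by
      rcases z2_cases (g 0) with e0 | e0 <;> rcases z2_cases (g 1) with e1 | e1 <;> rcases z2_cases (g 2) with e2 | e2 <;>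
        simp only [e0, e1, e2, zero_smul, one_smul, add_zero, zero_add] at hg ⊢ <;> first | tauto | (have := ad _ _ hg; tauto)
    intro i; fin_cases i <;> simp [this]
  have e := finrank_span_eq_card this
  rwa [show Set.range ![a, b, c] = {a, b, c} by ext; simp; tauto, Fintype.card_fin] at e

theorem six_le [Module (ZMod 2) V] [FiniteDimensional (ZMod 2) V] {S : PForm SP V} (hS : S.Nondeg) {a b c : V}
    (h1 : a ≠ 0) (h2 : b ≠ 0) (h3 : c ≠ 0) (h4 : a ≠ b) (h5 : a ≠ c) (h6 : b ≠ c) (h7 : a + b + c ≠ 0)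
    (c1 : S.h a b = 0) (c2 : S.h a c = 0) (c3 : S.h b c = 0) : 6 ≤ finrank (ZMod 2) V := by
  have := TS.two_mul_finrank_le hS (ts_span (s := {a, b, c}) (fun _ _ => trivial) (by
    simp [symp_h_self, c1, c2, c3, sp_symm S b a, sp_symm S c a, sp_symm S c b]))
  rwa [finrank_three h1 h2 h3 h4 h5 h6 h7] at this

theorem Md.six_of_D4 [Module (ZMod 2) V] [FiniteDimensional (ZMod 2) V] {S : PForm SP V} {τ : V → G} (h : Md S τ E)
    (h4 : D4 E) : 6 ≤ finrank (ZMod 2) V := by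
  obtain ⟨e, he, a, ha, b, hb, c, hc, d1, d2, d3, c1, c2, c3, n1, n2, n3⟩ := h4
  obtain ⟨e, e0, rfl⟩ := h.surj e he
  obtain ⟨a, a0, rfl⟩ := h.surj a ha
  obtain ⟨b, b0, rfl⟩ := h.surj b hb
  obtain ⟨c, c0, rfl⟩ := h.surj c hc
  rw [h.comm2 rfl (by assumption) (by assumption)] at c1 c2 c3 n1 n2 n3
  refine six_le h.nd a0.1 b0.1 c0.1 (mt (congrArg τ) d1) (mt (congrArg τ) d2) (mt (congrArg τ) d3) (fun e' => ?_) c1 c2 c3
  have := congrArg (S.h e) e'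
  simp only [map_add, (z2_cases _).resolve_left n1, (z2_cases _).resolve_left n2, (z2_cases _).resolve_left n3,
    map_zero] at this
  exact absurd this (by decide)
end

section
variable {α : Type} [DecidableEq α]

theorem swap_disj {i j k l : α} (h1 : i ≠ j) (h2 : k ≠ l) (c : Commute (swap i j) (swap k l))
    (n : swap i j ≠ swap k l) : i ≠ k ∧ i ≠ l ∧ j ≠ k ∧ j ≠ l := by
  have F : SnF {s : Perm α | s.IsSwap} (MonoidHom.id _) := ⟨fun i j h => ⟨i, j, h, rfl⟩, fun _ _ _ _ e => e⟩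
  have key : ∀ i j l : α, i ≠ j → j ≠ l → Commute (swap i j) (swap j l) → swap i j = swap j l := fun i j l a b c => by
    by_cases e : i = l
    exacts [by rw [e, swap_comm], absurd c (F.nc a b e)]
  refine ⟨?_, ?_, ?_, ?_⟩ <;> rintro rfl
  · exact n ((swap_comm _ _).trans (key _ _ _ h1.symm h2 (swap_comm i j ▸ c)))
  · exact n ((swap_comm _ _).trans ((key _ _ _ h1.symm h2.symm (swap_comm i j ▸ swap_comm k i ▸ c)).trans (swap_comm _ _)))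
  · exact n (key _ _ _ h1 h2 c)
  · exact n ((key _ _ _ h1 h2.symm (swap_comm k j ▸ c)).trans (swap_comm _ _))

theorem swap_new {p q k l : α} (h : p ≠ q) (n : swap p q ≠ swap k l) : (p ≠ k ∧ p ≠ l) ∨ (q ≠ k ∧ q ≠ l) := by
  by_contra! e
  by_cases a : p = k
  · subst a; exact n (by rw [e.2 h.symm])
  · obtain rfl := e.1 a
    exact n (by rw [by_contra fun b => h (e.2 b).symm, swap_comm])
end

theorem mem_of_equiv {X : Type*} [Group X] {E' : Set X} (e : G ≃* X) (h : e '' D = E') {x : G} : e x ∈ E' ↔ x ∈ D :=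
  h ▸ e.injective.mem_set_image

theorem comm_of_equiv {X : Type*} [Group X] (e : G ≃* X) {x y : G} : Commute (e x) (e y) ↔ Commute x y :=
  ⟨fun h => h.of_map e.injective, fun h => h.map e⟩

theorem sn_five {n : ℕ} (e : G ≃* Perm (Fin n)) (h : e '' D = {s | s.IsSwap}) {a b x : G} (ha : a ∈ D) (hb : b ∈ nb D a)
    (hx : x ∈ nb D a) (hn : x ≠ b) : 5 ≤ n := by
  obtain ⟨i, j, a1, a2⟩ := (mem_of_equiv e h).2 ha
  obtain ⟨k, l, b1, b2⟩ := (mem_of_equiv e h).2 hb.1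
  obtain ⟨p, q, x1, x2⟩ := (mem_of_equiv e h).2 hx.1
  have d1 := swap_disj a1 b1 (a2 ▸ b2 ▸ hb.2.2.map e) (a2 ▸ b2 ▸ e.injective.ne hb.2.1.symm)
  have d2 := swap_disj a1 x1 (a2 ▸ x2 ▸ hx.2.2.map e) (a2 ▸ x2 ▸ e.injective.ne hx.2.1.symm)
  rcases swap_new x1 (x2 ▸ b2 ▸ e.injective.ne hn) with d | d
  · simpa using (show [p, i, j, k, l].Nodup by simp [*, d2.1.symm, d2.2.2.1.symm]).length_le_card
  · simpa using (show [q, i, j, k, l].Nodup by simp [*, d2.2.1.symm, d2.2.2.2.symm]).length_le_card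

theorem sn_seven {n : ℕ} (e : G ≃* Perm (Fin n)) (h : e '' D = {s | s.IsSwap}) {a b c x : G} (ha : a ∈ D)
    (hc : c ∈ nb D a) (hb : b ∈ nb (nb D a) c) (hx : x ∈ nb (nb D a) c) (hn : x ≠ b) : 7 ≤ n := by
  obtain ⟨i, j, a1, a2⟩ := (mem_of_equiv e h).2 ha
  obtain ⟨k, l, b1, b2⟩ := (mem_of_equiv e h).2 hb.1.1
  obtain ⟨p, q, x1, x2⟩ := (mem_of_equiv e h).2 hx.1.1
  obtain ⟨r, s, c1, c2⟩ := (mem_of_equiv e h).2 hc.1
  have d1 := swap_disj a1 b1 (a2 ▸ b2 ▸ hb.1.2.2.map e) (a2 ▸ b2 ▸ e.injective.ne hb.1.2.1.symm)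
  have d2 := swap_disj a1 x1 (a2 ▸ x2 ▸ hx.1.2.2.map e) (a2 ▸ x2 ▸ e.injective.ne hx.1.2.1.symm)
  have d3 := swap_disj c1 b1 (c2 ▸ b2 ▸ hb.2.2.map e) (c2 ▸ b2 ▸ e.injective.ne hb.2.1.symm)
  have d4 := swap_disj c1 x1 (c2 ▸ x2 ▸ hx.2.2.map e) (c2 ▸ x2 ▸ e.injective.ne hx.2.1.symm)
  have d5 := swap_disj a1 c1 (a2 ▸ c2 ▸ hc.2.2.map e) (a2 ▸ c2 ▸ e.injective.ne hc.2.1.symm)
  rcases swap_new x1 (x2 ▸ b2 ▸ e.injective.ne hn) with d | d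
  · simpa using (show [p, i, j, r, s, k, l].Nodup by
      simp [*, d2.1.symm, d2.2.2.1.symm, d4.1.symm, d4.2.2.1.symm]).length_le_card
  · simpa using (show [q, i, j, r, s, k, l].Nodup by
      simp [*, d2.2.1.symm, d2.2.2.2.symm, d4.2.1.symm, d4.2.2.2.symm]).length_le_card

theorem sn_ch4 {n : ℕ} (e : G ≃* Perm (Fin n)) (h : e '' D = {s | s.IsSwap}) (h7 : 7 ≤ n) : ∃ x ∈ D, Ch4 (nb D x) := by
  let f : Fin 7 → Fin n := Fin.castLE h7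
  have fi : ∀ i j, f i = f j ↔ i = j := fun i j => (Fin.castLE_injective h7).eq_iff
  have F : SnF {s : Perm (Fin n) | s.IsSwap} (MonoidHom.id _) := ⟨fun i j h => ⟨i, j, h, rfl⟩, fun _ _ _ _ e => e⟩
  have m : ∀ i j, i ≠ j → e.symm (swap (f i) (f j)) ∈ D := fun i j h' =>
    (mem_of_equiv e h).1 ⟨_, _, (fi i j).not.2 h', e.apply_symm_apply _⟩
  have c : ∀ i j k l, i ≠ k → i ≠ l → j ≠ k → j ≠ l → Commute (e.symm (swap (f i) (f j))) (e.symm (swap (f k) (f l))) :=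
    fun i j k l a b c d => (swap_comm_of ((fi _ _).not.2 a) ((fi _ _).not.2 b) ((fi _ _).not.2 c) ((fi _ _).not.2 d)).map _
  have n : ∀ i j k, i ≠ j → j ≠ k → i ≠ k → ¬ Commute (e.symm (swap (f i) (f j))) (e.symm (swap (f j) (f k))) :=
    fun i j k a b c => (comm_of_equiv e.symm).not.2 (F.nc ((fi _ _).not.2 a) ((fi _ _).not.2 b) ((fi _ _).not.2 c))
  have mm : ∀ i j, i ≠ j → 5 ≠ i → 5 ≠ j → 6 ≠ i → 6 ≠ j → e.symm (swap (f i) (f j)) ∈ nb D (e.symm (swap (f 5) (f 6))) :=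
    fun i j a b c' d d' => ⟨m i j a, fun e' => by
      rcases swap_eq_iff ((fi _ _).not.2 a) (e.symm.injective e') with h | h
      exacts [b ((fi _ _).1 h.1).symm, d ((fi _ _).1 h.1).symm], c _ _ _ _ b c' d d'⟩
  refine ⟨_, m 5 6 (by decide), _, mm 0 1 ?_ ?_ ?_ ?_ ?_, _, mm 1 2 ?_ ?_ ?_ ?_ ?_, _, mm 2 3 ?_ ?_ ?_ ?_ ?_, _,
    mm 3 4 ?_ ?_ ?_ ?_ ?_, n _ _ _ ?_ ?_ ?_, n _ _ _ ?_ ?_ ?_, n _ _ _ ?_ ?_ ?_, c _ _ _ _ ?_ ?_ ?_ ?_, c _ _ _ _ ?_ ?_ ?_ ?_,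
    c _ _ _ _ ?_ ?_ ?_ ?_⟩ <;> decide

variable [Finite G]

theorem PC.sn_five (hD : PC D) {n : ℕ} (e : G ≃* Perm (Fin n)) (h : e '' D = {s | s.IsSwap}) : 5 ≤ n := by
  obtain ⟨a, ha, -⟩ := hD.w
  obtain ⟨b, hb, x, hx, hn⟩ := hD.ltwo ha
  exact H28.sn_five e h ha hx hb hn

theorem two_ins (h : ∃ a ∈ E, ∃ b ∈ E, a ≠ b) : ∃ a ∈ ins E, ∃ b ∈ ins E, a ≠ b := by
  obtain ⟨a, ha, b, hb, n⟩ := h
  exact ⟨inE ha, ha, inE hb, hb, fun e => n (congrArg Subtype.val e)⟩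

theorem PC.vt_iff (hD : PC D) {d : G} (hd : d ∈ D) :
    VT (nb D d) ↔ pCore 2 (closure (nb D d)) ≤ center (closure (nb D d)) :=
  vt_ins.symm.trans ((hD.lc hd).tc.vt_iff (two_ins (hD.ltwo hd)))

theorem PC.wt_iff (hD : PC D) {d : G} (hd : d ∈ D) :
    WT (nb D d) ↔ pCore 3 (closure (nb D d)) ≤ center (closure (nb D d)) :=
  wt_ins.symm.trans (hD.lc hd).tc.wt_iff

theorem PC.not_solv (hD : PC D) : ¬ Group.IsSolvable G := fun _ => H17.qs_not_solvable hD.qs inferInstance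

theorem MU.fin {n : ℕ} (h : MU n D) (hD : PC D) (hZ : center G = ⊥) (h4 : 4 ≤ n) :
    ∃ e : G ≃* PSU n K4 2, e '' D = QuotientGroup.mk '' UT n K4 := by
  obtain ⟨τ, m⟩ := h
  exact m.fin_u (hD.par hD.two) hD.gen hZ (by simp) (by omega) (by omega)

/-- case B -/
theorem PC.caseB (hD : PC D) (hZ : center G = ⊥) {d : G} (hd : d ∈ D) (h : ¬ VT (nb D d)) :
    (SY D ∧ ∃ (n : ℕ) (S : PForm SP (Fin n → ZMod 2)) (τ : _ → G), Md S τ D) ∨ ∃ n, 4 ≤ n ∧ MU n D := by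
  have hB := hD.cb hd h
  rcases hB.three_or_five with h3 | h5
  exacts [Or.inl ⟨hB.sy h3, hB.md_sp (hB.sy h3)⟩, Or.inr (C5.mu ⟨hB, h5, hZ⟩)]

end H28
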