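import Cfsg.Agent.H28.CB

/-! The unitary case, first part: lines with five points, coordinates on the lines through a point (`Co`) and
their orientation (`C5.exists_co`). -/

namespace H28
open Cfsg Subgroup H11

variable {G : Type*} [Group G] {D : Set G} {p q u v w a z d x y : G}

theorem heis_comm {s t : G} (hs : s ^ 3 = 1) (h1 : (s * t) ^ 3 = 1) (h2 : (s⁻¹ * t) ^ 3 = 1) :
    Commute t (s⁻¹ * t * s) := by
  have e1 : s⁻¹ * t * s = s * t⁻¹ * s⁻¹ * t⁻¹ := by
    calc _ = (s ^ 3)⁻¹ * s * (s * t) ^ 3 * (t⁻¹ * s⁻¹ * t⁻¹) := by simp only [pow_succ]; group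
      _ = _ := by rw [hs, h1]; group
  have e2 : s⁻¹ * t * s = t⁻¹ * (s * t⁻¹ * s⁻¹) := by
    calc _ = t⁻¹ * s * (s⁻¹ * t) ^ 3 * (t⁻¹ * s⁻¹) * s ^ 3 := by simp only [pow_succ]; group
      _ = _ := by rw [hs, h2]; group
  have : Commute t⁻¹ (s * t⁻¹ * s⁻¹) := e2.symm.trans e1
  rw [e2]
  exact (Commute.refl t).inv_right.mul_right (by simpa using this.inv_left)

theorem aff_cube (hD : T3 D) {a b c : G} (ha : a ∈ D) (hb : b ∈ D) (hc : c ∈ D) (n1 : ¬ Commute a b)
    (n2 : ¬ Commute a c) (n3 : ¬ Commute b c) (n4 : ¬ Commute c (a * b * a)) : ((c * a * b) ^ 2) ^ 3 = 1 := by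
  have k := fun {x y} (hx : x ∈ D) (hy : y ∈ D) n => cube_of_braid (t3_sq hD.t3 hx) (t3_sq hD.t3 hy) (t3_braid hD.t3 hx hy n)
  have a2 := t3_sq hD.t3 ha
  have i := fun {x} (hx : x ∈ D) => t3_inv hD.t3 hx
  have h := heis_comm (s := a * b) (t := a * c) (k ha hb n1)
    (by rw [← mul_assoc]; exact k (hD.cl a ha b hb) hc fun e => n4 e.symm)
    (by rw [mul_inv_rev, i ha, i hb, mul_assoc, canc a2]; exact k hb hc n3)
  have : (c * a * b) ^ 2 = (a * c)⁻¹ * ((a * b)⁻¹ * (a * c) * (a * b)) := by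
    simp only [mul_inv_rev, i ha, i hb, i hc, sq, mul_assoc, canc a2]
  rw [this, h.inv_left.mul_pow, inv_pow, k ha hc n2, inv_one, one_mul, ← inv_inv (a * b), inv_inv (a * b)⁻¹, conj_pow,
    k ha hc n2]
  simp

theorem eq_of_len {α : Type*} {s : Set α} {x : α} (l : List α) (h : s.ncard = l.length) (h0 : l ≠ []) (hl : l.Nodup)
    (h1 : ∀ a ∈ l, a ∈ s) (hx : x ∈ s) : x ∈ l := by
  classical
  have : (l.toFinset : Set α) = s := Set.eq_of_subset_of_ncard_le (fun a ha => h1 a (by simpa using ha))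
    (by rw [h, Set.ncard_coe_finset, List.toFinset_card_of_nodup hl])
    (Set.finite_of_ncard_ne_zero (by rw [h]; simpa using h0))
  simpa [← this] using hx

variable [Finite G]

theorem PC.nc_lines (hD : PC D) (hp : p ∈ D) (hu : u ∈ nb D p) (hv : v ∈ nb D p) (hx : x ∈ Ln D p u)
    (hy : y ∈ Ln D p v) (h1 : x ≠ p) (h2 : y ≠ p) : Commute x y ↔ Commute u v := by
  have c1 := Ln.comm hp hu hx (Ln.left hp)
  have c2 := Ln.comm hp hv hy (Ln.left hp)
  exact ⟨fun e => hD.all hp hv (Ln.left hp) hy h2.symm hu.1 hu.2.2.symm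
    (hD.all hp hu (Ln.left hp) hx h1.symm hy.1 c2 e.symm (Ln.right hu.1)).symm (Ln.right hv.1),
    fun e => hx.2 y hy.1 c2.symm (hy.2 u hu.1 hu.2.2 e.symm).symm⟩

/-- lines have five points -/
structure C5 (D : Set G) : Prop extends CB D where
  five : ∀ p ∈ D, ∀ q ∈ nb D p, (Ln D p q).ncard = 5
  z : center G = ⊥

theorem C5.prod (hD : C5 D) (hp : p ∈ D) (hq : q ∈ nb D p) {a b c e f : G} (ha : a ∈ Ln D p q) (hb : b ∈ Ln D p q)
    (hc : c ∈ Ln D p q) (he : e ∈ Ln D p q) (hf : f ∈ Ln D p q) (h : [a, b, c, e, f].Nodup) :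
    a * b * c * e * f = 1 := by
  have cm := fun {u v} => Ln.comm (u := u) (v := v) hp hq
  have key : ∀ s ∈ D, ∀ a b c e f : G, a ∈ Ln D p q → b ∈ Ln D p q → c ∈ Ln D p q → e ∈ Ln D p q → f ∈ Ln D p q →
      [a, b, c, e, f].Nodup → Commute s f → Commute s (a * b * c * e * f) := by
    intro s hs a b c e f ha hb hc he hf h cf
    have h' := h
    simp only [List.nodup_cons, List.mem_cons, List.not_mem_nil, or_false, not_or] at h'
    by_cases n : Commute s a
    · have := fun {x} => hD.all (z := x) hp hq ha hf h'.1.2.2.2 hs n cf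
      exact (((n.mul_right (this hb)).mul_right (this hc)).mul_right (this he)).mul_right cf
    have k : ∀ x ∈ Ln D p q, x ≠ f → ¬ Commute s x := fun x hx h c => n (hD.all hp hq hx hf h hs c cf ha)
    obtain ⟨r1, r2, r3, r4, r5⟩ := rt4_n hD.T3 hs ha.1 hb.1 hc.1 n (k b hb h'.2.1.2.2) (k c hc h'.2.2.1.2) (cm ha hb)
      (cm ha hc) (cm hb hc) h'.1.1 h'.1.2.1 h'.2.1.1
    have := eq_of_len _ (hD.five p hp q hq) (by simp) h (by simp [*])
      (hD.rt4_Ln hp hq hs ha hb hc h'.1.1 n (k b hb h'.2.1.2.2) (k c hc h'.2.2.1.2))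
    simp only [List.mem_cons, List.not_mem_nil, or_false, r3, r4, r5, false_or] at this
    rcases this with e' | e'
    swap; · exact absurd (e' ▸ cf) r1
    rw [e', mul_inv_eq_iff_eq_mul] at r2
    refine Commute.mul_right ?_ cf
    rw [(((cm ha he).mul_left (cm hb he)).mul_left (cm hc he)).eq, Commute, SemiconjBy, mul_assoc e, r2]
    simp only [mul_assoc, canc (t3_sq hD.t3 he.1)]
  refine eq_one_of_comm hD.z hD.gen fun s hs => ?_
  obtain ⟨x, hx, cx⟩ := hD.ooa hp hq hs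
  have rot : ∀ a b c e f : G, a ∈ Ln D p q → b ∈ Ln D p q → c ∈ Ln D p q → e ∈ Ln D p q → f ∈ Ln D p q →
      a * b * c * e * f = b * c * e * f * a := fun a b c e f ha hb hc he hf => by
    rw [← ((((cm ha hb).mul_right (cm ha hc)).mul_right (cm ha he)).mul_right (cm ha hf)).eq]; simp only [mul_assoc]
  have := eq_of_len _ (hD.five p hp q hq) (by simp) h (by simp [*]) hx
  simp only [List.mem_cons, List.not_mem_nil, or_false] at this
  have r := fun n => (List.nodup_rotate (n := n)).2 h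
  rcases this with rfl | rfl | rfl | rfl | rfl
  · rw [rot _ _ _ _ _ ha hb hc he hf]; exact (key s hs _ _ _ _ _ hb hc he hf ha (r 1) cx).symm
  · rw [rot _ _ _ _ _ ha hb hc he hf, rot _ _ _ _ _ hb hc he hf ha]; exact (key s hs _ _ _ _ _ hc he hf ha hb (r 2) cx).symm
  · rw [← rot _ _ _ _ _ hf ha hb hc he, ← rot _ _ _ _ _ he hf ha hb hc]
    exact (key s hs _ _ _ _ _ he hf ha hb hc (r 3) cx).symm
  · rw [← rot _ _ _ _ _ hf ha hb hc he]; exact (key s hs _ _ _ _ _ hf ha hb hc he (r 4) cx).symm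
  · exact (key s hs _ _ _ _ _ ha hb hc he hf h cx).symm

/-- coordinates on the lines through `d` -/
structure Co (D : Set G) (d : G) (pt : G → K4 → G) : Prop where
  mem : ∀ u ∈ nb D d, ∀ c, pt u c ∈ Ln D d u
  ne : ∀ u ∈ nb D d, ∀ c, pt u c ≠ d
  inj : ∀ u ∈ nb D d, Function.Injective (pt u)
  sur : ∀ u ∈ nb D d, ∀ z ∈ Ln D d u, z ≠ d → ∃ c, pt u c = z
  zero : ∀ u ∈ nb D d, pt u 0 = u

theorem C5.exists_co' (hD : C5 D) (hd : d ∈ D) : ∃ pt, Co D d pt := by
  have : ∀ u ∈ nb D d, ∃ f : K4 → G, (∀ c, f c ∈ Ln D d u) ∧ (∀ c, f c ≠ d) ∧ Function.Injective f ∧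
      (∀ z ∈ Ln D d u, z ≠ d → ∃ c, f c = z) ∧ f 0 = u := fun u hu => by
    have h : Nat.card K4 = Nat.card (Ln D d u \ {d} : Set G) := by
      rw [Nat.card_coe_set_eq, Set.ncard_sdiff_singleton_of_mem (Ln.left hd), hD.five d hd u hu,
        Nat.card_eq_fintype_card, K4.card]
    obtain ⟨e⟩ := Finite.card_eq.1 h
    let e' := (Equiv.swap 0 (e.symm ⟨u, Ln.right hu.1, hu.2.1⟩)).trans e
    exact ⟨fun c => e' c, fun c => (e' c).2.1, fun c => (e' c).2.2, Subtype.val_injective.comp e'.injective,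
      fun z hz h => ⟨e'.symm ⟨z, hz, h⟩, by simp⟩, by simp [e']⟩
  choose! pt h1 h2 h3 h4 h5 using this
  exact ⟨pt, h1, h2, h3, h4, h5⟩

/-- the twist by a sign -/
def tw (s : ℤˣ) (c : K4) : K4 := if s = 1 then c else fr c

theorem tw_mul : ∀ (s t : ℤˣ) (a c : K4), tw s (a * tw t c) = tw s a * tw (s * t) c := by decide
theorem tw_tw : ∀ (s : ℤˣ) (c : K4), tw s (tw s c) = c := by decide
theorem tw_ne : ∀ (s : ℤˣ) (c : K4), c ≠ 0 → tw s c ≠ 0 := by decide
theorem tw_zero : ∀ s : ℤˣ, tw s 0 = 0 := by decide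
theorem tw_cube : ∀ (s : ℤˣ) (a : K4), (∀ c, a * tw s (a * tw s (a * tw s c)) = c) → s = 1 := by decide
theorem k4_dich (f : K4 → K4) (h0 : f 0 = 0) (h : Function.Injective f) :
    ∃ (s : ℤˣ) (a : K4), a ≠ 0 ∧ ∀ c, f c = a * tw s c := by
  revert f; decide +kernel
theorem k4_transl (f : K4 → K4) (h1 : ∀ c, f (f c) = c) (h2 : ∀ c, f c ≠ c) : ∀ c, f c = c + f 0 := by
  revert f; decide +kernel

/-- `g` maps the line through `u` to the line through `y` with sign `s` -/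
def Sg (pt : G → K4 → G) (g u y : G) (s : ℤˣ) : Prop :=
  ∃ a : K4, a ≠ 0 ∧ ∀ c, g * pt u c * g⁻¹ = pt y (a * tw s c)

variable {pt : G → K4 → G}

omit [Finite G] in
theorem Co.mnb (h : Co D d pt) (hd : d ∈ D) (hu : u ∈ nb D d) (c : K4) : pt u c ∈ nb D d :=
  Ln.mnb hd hu (Ln.left hd) (h.mem u hu c) (h.ne u hu c).symm

omit [Finite G] in
theorem Co.map (h : Co D d pt) (hu : u ∈ nb D d) (hy : y ∈ nb D d) {g : G} (h1 : Commute g d)
    (h2 : ∀ c, g * pt u c * g⁻¹ ∈ Ln D d y) : ∃ f : K4 → K4, ∀ c, g * pt u c * g⁻¹ = pt y (f c) := by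
  have := fun c => h.sur y hy _ (h2 c) fun e => h.ne u hu c (by
    rwa [← mul_inv_eq_iff_eq_mul.2 h1.eq, mul_left_inj, mul_right_inj] at e)
  choose f hf using this
  exact ⟨f, fun c => (hf c).symm⟩

omit [Finite G] in
theorem Co.sg (h : Co D d pt) (hD : TC D) (hu : u ∈ nb D d) (hy : y ∈ nb D d) {g : G} (h1 : Commute g d)
    (h2 : g * u * g⁻¹ = y) : ∃ s, Sg pt g u y s := by
  obtain ⟨f, hf⟩ := h.map hu hy h1 fun c => by
    have := conj_mem_cjs (g := g) (h.mem u hu c)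
    rwa [hD.cj_Ln, h2, mul_inv_eq_iff_eq_mul.2 h1.eq] at this
  obtain ⟨s, a, h3, h4⟩ := k4_dich f (h.inj y hy (by rw [← hf, h.zero u hu, h.zero y hy, h2]))
    fun c c' e => h.inj u hu (by simpa [← hf] using congrArg (pt y) e)
  exact ⟨s, a, h3, fun c => by rw [hf, h4]⟩

omit [Finite G] in
theorem Sg.comp {g g' : G} {s s' : ℤˣ} (h : Sg pt g u y s) (h' : Sg pt g' y x s') : Sg pt (g' * g) u x (s' * s) := by
  obtain ⟨a, a0, h⟩ := h
  obtain ⟨b, b0, h'⟩ := h'
  refine ⟨b * tw s' a, mul_ne_zero b0 (tw_ne _ _ a0), fun c => ?_⟩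
  rw [mul_assoc b, ← tw_mul, ← h', ← h]; group

omit [Finite G] in
theorem Sg.one (h0 : Co D d pt) (hu : u ∈ nb D d) {g k : G} {s : ℤˣ} (h : Sg pt g u u s)
    (hk : ∀ c, Commute k (pt u c)) (e : (k * g) ^ 3 = 1) : s = 1 := by
  obtain ⟨a, -, h⟩ := h
  have : ∀ c, k * g * pt u c * (k * g)⁻¹ = pt u (a * tw s c) := fun c => by
    rw [← mul_inv_eq_iff_eq_mul.2 (hk (a * tw s c)).eq, ← h]; group
  refine tw_cube s a fun c => h0.inj u hu ?_
  rw [← this, ← this, ← this]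
  calc _ = (k * g) ^ 3 * pt u c * ((k * g) ^ 3)⁻¹ := by simp only [pow_succ]; group
    _ = _ := by rw [e]; simp

/-- oriented coordinates -/
structure Co2 (D : Set G) (d : G) (pt : G → K4 → G) (g : G → G → K4) : Prop extends Co D d pt where
  g0 : ∀ u ∈ nb D d, ∀ y ∈ nb D d, g u y = 0 ↔ Commute u y
  cj : ∀ u ∈ nb D d, ∀ y ∈ nb D d, ¬ Commute u y → ∀ c, u * y * u * pt u c * (u * y * u)⁻¹ = pt y (g u y * c)

theorem C5.exists_co (hD : C5 D) (hd : d ∈ D) : ∃ pt g, Co2 D d pt g := by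
  classical
  obtain ⟨pt, h⟩ := hD.exists_co' hd
  have T := hD.T3.nb d
  have sq := fun {x} (hx : x ∈ nb D d) => t3_sq hD.t3 hx.1
  have : ∀ u ∈ nb D d, ∀ y ∈ nb D d, ¬ Commute u y → ∃ s, Sg pt (u * y * u) u y s := fun u hu y hy n =>
    h.sg hD.toTC hu hy (T.cl u hu y hy).2.2.symm (by
      rw [t3_inv T.t3 (T.cl u hu y hy)]
      calc _ = u * (y * (u * u)) * (u * y * u) := by group
        _ = _ := by rw [sq hu, mul_one, ← mul_assoc, ← mul_assoc, t3_braid T.t3 hu hy n]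
                    simp only [mul_assoc, canc (sq hy), sq hu, mul_one])
  choose! θ hθ using this
  have inv : ∀ a ∈ nb D d, ∀ b ∈ nb D d, ¬ Commute a b → θ a b * θ b a = 1 := fun a ha b hb n =>
    ((hθ b hb a ha fun e => n e.symm).comp (hθ a ha b hb n)).one h hb (k := 1) (fun _ => Commute.one_left _)
      (by rw [← t3_braid T.t3 ha hb n, sq (T.cl a ha b hb), one_mul, one_pow])
  obtain ⟨ε, hε⟩ := T.exists_pot (hD.lc hd).con (hD.lpar hd) θ inv fun u hu y hy x hx n1 n2 n3 => by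
    have m := ((hθ u hu y hy n1).comp (hθ y hy x hx n2)).comp (hθ x hx u hu fun e => n3 e.symm)
    have : θ x u * (θ y x * θ u y) = 1 := by
      by_cases c : Commute x (u * y * u)
      · have c' : Commute (y * x * y) u := by
          rw [t3_braid T.t3 hu hy n1, nc_conj_self (sq hy)] at c; exact c
        refine m.one h hu (k := y * x * y) (fun c => ((h.mem u hu c).2 _ (T.cl y hy x hx).1 (T.cl y hy x hx).2.2
          c'.symm).symm) ?_
        have : y * x * y * (x * u * x) * (y * x * y) = u * y * u := by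
          rw [← t3_braid T.t3 hu hx n3]
          calc _ = (y * x * y * u) * x * (u * (y * x * y)) := by group
            _ = u * (y * x * y) * x * (y * x * y * u) := by rw [c'.eq]
            _ = u * (x * (y * (x * x)) * (x * y * x)) * u := by rw [t3_braid T.t3 hy hx n2]; group
            _ = _ := by
              rw [sq hx, mul_one, ← t3_braid T.t3 hy hx n2]
              simp only [mul_assoc, canc (sq hy), canc (sq hx)]
        rw [← mul_assoc, ← mul_assoc, this, sq (T.cl u hu y hy), one_pow]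
      · refine m.one h hu (k := u) (fun c => Ln.comm hd hu (Ln.right hu.1) (h.mem u hu c)) ?_
        rw [← aff_cube T hu hy hx n1 n3 n2 c, ← t3_braid T.t3 hu hx n3]
        congr 1
        calc _ = u * u * (x * u * y * x) * (y * u * y) * u := by group
          _ = _ := by rw [sq hu, ← t3_braid T.t3 hu hy n1, _root_.sq]; simp only [mul_assoc, sq hu, mul_one, one_mul]
    have e := inv u hu x hx n3
    revert this e
    generalize θ u y = a; generalize θ y x = b; generalize θ u x = c; generalize θ x u = e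
    revert a b c e; decide
  have : ∀ u ∈ nb D d, ∀ y ∈ nb D d, ¬ Commute u y → ∃ a : K4, a ≠ 0 ∧
      ∀ c, u * y * u * pt u (tw (ε u) c) * (u * y * u)⁻¹ = pt y (tw (ε y) (a * c)) := fun u hu y hy n => by
    obtain ⟨a, a0, h1⟩ := hθ u hu y hy n
    refine ⟨tw (ε y) a, tw_ne _ _ a0, fun c => ?_⟩
    rw [h1, hε u hu y hy n]
    congr 1
    generalize ε u = s; generalize ε y = t
    clear h1 a0
    revert s t a c; decide
  choose! g h1 h2 using this
  refine ⟨fun u c => pt u (tw (ε u) c), fun u y => if Commute u y then 0 else g u y, ⟨fun u hu c => h.mem u hu _,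
    fun u hu c => h.ne u hu _, fun u hu c c' e => by rw [← tw_tw (ε u) c, h.inj u hu e, tw_tw], fun u hu z hz e => ?_,
    fun u hu => by rw [tw_zero, h.zero u hu]⟩, fun u hu y hy => ?_, fun u hu y hy n c => by rw [if_neg n, h2 u hu y hy n]⟩
  · obtain ⟨c, rfl⟩ := h.sur u hu z hz e
    exact ⟨tw (ε u) c, by rw [tw_tw]⟩
  · split_ifs with c
    exacts [iff_of_true rfl c, iff_of_false (h1 u hu y hy c) c]

variable {g : G → G → K4}

omit [Finite G] in
theorem Co2.herm (h : Co2 D d pt g) (hD : T3 D) (hu : u ∈ nb D d) (hy : y ∈ nb D d) : g y u = fr (g u y) := by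
  by_cases n : Commute u y
  · rw [(h.g0 u hu y hy).2 n, (h.g0 y hy u hu).2 n.symm, map_zero]
  have := h.cj y hy u hu (fun e => n e.symm) (g u y * 1)
  rw [← h.cj u hu y hy n, ← t3_braid hD.t3 hu.1 hy.1 n, t3_inv hD.t3 (hD.cl u hu.1 y hy.1), mul_assoc _ (pt u 1),
    canc (t3_sq hD.t3 (hD.cl u hu.1 y hy.1)), mul_assoc (pt u 1), t3_sq hD.t3 (hD.cl u hu.1 y hy.1), mul_one] at this
  have := h.inj u hu this
  revert this
  generalize g y u = a; generalize g u y = b
  revert a b; decide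

theorem Co2.comm (h : Co2 D d pt g) (hD : PC D) (hd : d ∈ D) (hu : u ∈ nb D d) (hy : y ∈ nb D d) (b c : K4) :
    Commute (pt u b) (pt y c) ↔ g u y = 0 := by
  rw [hD.nc_lines hd hu hy (h.mem u hu b) (h.mem y hy c) (h.ne u hu b) (h.ne y hy c), h.g0 u hu y hy]

theorem Co2.transl' (h : Co2 D d pt g) (hD : PC D) (hd : d ∈ D) (hu : u ∈ nb D d) (hy : y ∈ nb D d) (b c : K4) :
    u * pt u b * pt y c * (u * pt u b)⁻¹ = pt y (c + g u y * b) := by
  have cm := fun b c => h.comm hD hd hu hy b c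
  have m := fun b => h.mnb hd hu b
  have cu : Commute u (pt u b) := Ln.comm hd hu (Ln.right hu.1) (h.mem u hu b)
  by_cases n : g u y = 0
  · rw [n, zero_mul, add_zero, conj_fix (h.zero u hu ▸ (cm 0 c).2 n) ((cm b c).2 n)]
  by_cases b0 : b = 0
  · simp [b0, h.zero u hu, t3_sq hD.t3 hu.1]
  obtain ⟨f, hf⟩ := h.map hy hy (g := u * pt u b) (hu.2.2.symm.mul_left (m b).2.2.symm) fun c =>
    hD.Ln_eq' hd hy (h.mem y hy c) (h.ne y hy c) ▸ hD.transl hd hu (Ln.right hu.1) (h.mem u hu b) hu.2.1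
      (h.ne u hu b) (h.mnb hd hy c)
  have T2 : u * pt u b * (u * pt u b) = 1 := by rw [← sq, sq_of_comm (t3_sq hD.t3 hu.1) (t3_sq hD.t3 (m b).1) cu]
  rw [hf, k4_transl f (fun c => h.inj y hy ?_) (fun c e => ?_) c]
  · congr 2
    have n' : ¬ Commute u y := fun e => n ((h.g0 u hu y hy).2 e)
    have z := (hD.T3.nb d).cl u hu y hy
    have n2 : ¬ Commute (pt u b) (u * y * u) := by
      rw [comm_conj_iff (t3_sq hD.t3 hu.1) cu.symm, ← h.zero y hy, cm]; exact n
    refine h.inj y hy ?_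
    rw [← hf, ← h.cj u hu y hy n', t3_inv hD.t3 z.1, ← t3_braid hD.t3 (m b).1 z.1 n2, h.zero y hy, cu.eq, mul_inv_rev,
      t3_inv hD.t3 hu.1, t3_inv hD.t3 (m b).1]
    group
  · rw [← hf, ← hf, inv_of_sq T2, mul_assoc _ (pt y c), canc T2, mul_assoc (pt y c), T2, mul_one]
  · have := hf c
    rw [e, mul_inv_eq_iff_eq_mul] at this
    exact n ((cm b c).1 (t3_two hD.t3 hu.1 (m b).1 (h.mnb hd hy c).1
      (fun e => b0 (h.inj u hu (e.symm.trans (h.zero u hu).symm))) this.symm).2.symm)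

theorem Co2.transl (h : Co2 D d pt g) (hD : PC D) (hd : d ∈ D) (hu : u ∈ nb D d) (hy : y ∈ nb D d) (b b' c : K4) :
    pt u b * pt u b' * pt y c * (pt u b * pt u b')⁻¹ = pt y (c + g u y * (b + b')) := by
  have : pt u b * pt u b' = u * pt u b * (u * pt u b') := by
    rw [(Ln.comm hd hu (Ln.right hu.1) (h.mem u hu b)).eq, mul_assoc, canc (t3_sq hD.t3 hu.1)]
  rw [this, mul_add, add_comm (g u y * b), ← add_assoc, ← h.transl' hD hd hu hy, ← h.transl' hD hd hu hy]
  group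

theorem Co.prod (h : Co D d pt) (hD : C5 D) (hd : d ∈ D) (hu : u ∈ nb D d) {a b c e : K4} (hn : [a, b, c, e].Nodup) :
    pt u a * pt u b * pt u c * pt u e = d := by
  have := hD.prod hd hu (h.mem u hu a) (h.mem u hu b) (h.mem u hu c) (h.mem u hu e) (Ln.left hd) (by
    simpa [h.ne u hu, (h.inj u hu).eq_iff] using hn)
  rwa [mul_eq_one_iff_eq_inv, t3_inv hD.t3 hd] at this

end H28
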