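import Cfsg.Agent.H28.CU1

/-! The unitary case, second part: the Gram space of the lines through a point, translations and the unitary model
(`C5.md`). -/

namespace H28
open Cfsg Subgroup H11 H11.PForm Module

variable {G : Type*} [Group G] {D : Set G} {W : Type*} [AddCommGroup W] [Module K4 W] {S : PForm UP W}

theorem u_symm (S : PForm UP W) (x y : W) : S.h y x = fr (S.h x y) := sfU.symm S x y
theorem k4_fix : ∀ a : K4, fr a = a → a = 0 ∨ a = 1 := by decide
theorem u_self (S : PForm UP W) (x : W) : S.h x x = 0 ∨ S.h x x = 1 := k4_fix _ (u_symm S x x).symm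
theorem u_add (S : PForm UP W) (x y : W) : S.h (x + y) (x + y) = S.h x x + S.h y y + (S.h x y + fr (S.h x y)) := by
  simp only [map_add, LinearMap.add_apply, u_symm S x y]; ring
theorem v4_add (x : W) : x + x = 0 := by rw [← two_smul K4 x, K4.two, zero_smul]

theorem u_exists_m [FiniteDimensional K4 W] (hS : S.Nondeg) (h2 : 2 ≤ finrank K4 W) {x n : W} (hx : S.h x x = 1)
    (hn : S.h n n = 0) (h : S.h x n + fr (S.h x n) = 0) :
    ∃ m, S.h m m = 0 ∧ S.h m x + fr (S.h m x) = 1 ∧ S.h m n + fr (S.h m n) = 0 := by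
  rcases k4_fix (S.h x n) (by revert h; generalize S.h x n = a; revert a; decide) with e | e
  · have nd := (nd_top hS h2).vec (k := 1) (e := x) trivial (by rw [hx]; decide)
    obtain ⟨y, hy, y1⟩ := unit_exists_norm_mem fr_ne nd.1 nd.2 (map_one fr)
    obtain ⟨c, c1, c2⟩ : ∃ c : K4, fr c * c = 1 ∧ fr c * S.h y n + fr (fr c * S.h y n) = 0 := by
      generalize S.h y n = a; revert a; decide
    have y2 := (mem_pp.1 hy).2
    refine ⟨K4.w • x + c • y, ?_, ?_, ?_⟩ <;>
      simp only [map_add, LinearMap.add_apply, h_smul_left, h_smul_right, hx, y1, y2, S.h_swap_zero y2, e, mul_zero,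
        add_zero, zero_add, mul_one]
    · rw [mul_comm c, c1]; decide
    · decide
    · exact c2
  · refine ⟨K4.w • n, ?_, ?_, ?_⟩ <;> simp only [h_smul_left, h_smul_right, hn, u_symm S x n, e, mul_zero, map_zero, add_zero]
    decide

open Classical in
/-- indicator of non-commutation -/
noncomputable def kk (a b : G) : K4 := if Commute a b then 0 else 1
theorem kk_c {a b : G} (h : Commute a b) : kk a b = 0 := if_pos h
theorem kk_n {a b : G} (h : ¬ Commute a b) : kk a b = 1 := if_neg h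
theorem kk_eq {a b : G} : kk a b = 0 ↔ Commute a b := ⟨fun h => by_contra fun n => one_ne_zero ((kk_n n).symm.trans h), kk_c⟩
theorem kk_symm (a b : G) : kk a b = kk b a := by
  by_cases h : Commute a b
  exacts [by rw [kk_c h, kk_c h.symm], by rw [kk_n h, kk_n fun e => h e.symm]]
theorem kk_fr (a b : G) : fr (kk a b) = kk a b := by unfold kk; split_ifs <;> simp
theorem kk_conj (q a b : G) : kk (q * a * q⁻¹) (q * b * q⁻¹) = kk a b := by unfold kk; rw [commute_conj]

/-- a power of `d` -/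
def dd (d : G) (c : K4) : G := if c = 0 then 1 else d

theorem dd_add {d : G} (h : d * d = 1) {a b : K4} (ha : fr a = a) (hb : fr b = b) : dd d a * dd d b = dd d (a + b) := by
  rcases k4_fix a ha with rfl | rfl <;> rcases k4_fix b hb with rfl | rfl <;> simp [dd, h, K4.add_self]

/-- the unitary set-up -/
structure US (D : Set G) (d o : G) (pt : G → K4 → G) (g : G → G → K4) (S : PForm UP W) (v : G → W) : Prop where
  c5 : C5 D
  hd : d ∈ D
  ho : o ∈ An D d
  co : Co2 D d pt g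
  nd : S.Nondeg
  gram : ∀ u ∈ Sp D d o, ∀ y ∈ Sp D d o, S.h (v u) (v y) = g u y
  span : Submodule.span K4 (v '' Sp D d o) = ⊤

/-- `q` is a translation by `w` -/
def Tl (E : Set G) (pt : G → K4 → G) (S : PForm UP W) (v : G → W) (q : G) (w : W) : Prop :=
  ∀ y ∈ E, ∀ c, q * pt y c * q⁻¹ = pt y (c + S.h w (v y))

/-- `a` has the vector `w` -/
def Wa (E : Set G) (pt : G → K4 → G) (S : PForm UP W) (v : G → W) (a : G) (w : W) : Prop :=
  ∀ y ∈ E, ∀ c, Commute a (pt y c) ↔ c = S.h w (v y)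

/-- the group of translations -/
def Qg (E : Set G) (d : G) (pt : G → K4 → G) : Subgroup G :=
  closure (insert d {x | ∃ u ∈ E, ∃ b c, x = pt u b * pt u c})

variable {d o a b c q q' u y : G} {pt : G → K4 → G} {g : G → G → K4} {v : G → W} {w w' w'' : W} {E : Set G}

theorem Tl.mul (h : Tl E pt S v q w) (h' : Tl E pt S v q' w') : Tl E pt S v (q * q') (w + w') := fun y hy c => by
  rw [map_add, LinearMap.add_apply, add_comm (S.h w _), ← add_assoc, ← h y hy, ← h' y hy]; group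

theorem Wa.tl (h : Wa E pt S v a w) (h' : Tl E pt S v q w') : Wa E pt S v (q * a * q⁻¹) (w + w') := fun y hy c => by
  have := h' y hy (c + S.h w' (v y))
  rw [add_assoc, K4.add_self, add_zero] at this
  rw [← this, commute_conj, h y hy, map_add, LinearMap.add_apply]
  generalize S.h w (v y) = s; generalize S.h w' (v y) = t
  clear * -
  revert c s t; decide

namespace US
variable [Finite G] (U : US D d o pt g S v)
include U

theorem pc : PC D := U.c5.toPC
theorem mnb (hu : u ∈ Sp D d o) : u ∈ nb D d := ⟨hu.1, by rintro rfl; exact U.ho.2 hu.2.2.symm, hu.2.1⟩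
theorem pm (hu : u ∈ Sp D d o) (c : K4) : pt u c ∈ nb D d := U.co.mnb U.hd (U.mnb hu) c
theorem d2 : d * d = 1 := t3_sq U.pc.t3 U.hd

omit [Finite G] in
theorem ext (h : ∀ y ∈ Sp D d o, S.h w (v y) = S.h w' (v y)) : w = w' := sub_eq_zero.1 (U.nd _ fun x => by
  have : x ∈ Submodule.span K4 (v '' Sp D d o) := U.span ▸ trivial
  refine Submodule.span_le.2 (?_ : _ ⊆ (LinearMap.ker (S.h (w - w')) : Set W)) this
  rintro _ ⟨y, hy, rfl⟩
  simp [h y hy])

theorem vv (hu : u ∈ Sp D d o) : S.h (v u) (v u) = 0 := by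
  rw [U.gram u hu u hu, U.co.g0 _ (U.mnb hu) _ (U.mnb hu)]

theorem vne (hu : u ∈ Sp D d o) : v u ≠ 0 := fun e => by
  obtain ⟨y, hy, n⟩ := U.c5.par_Sp U.hd U.ho.1 U.ho.2 u hu
  exact n ((U.co.g0 _ (U.mnb hu) _ (U.mnb hy)).1 (by rw [← U.gram u hu y hy, e]; simp))

theorem two [FiniteDimensional K4 W] : 2 ≤ finrank K4 W := by
  obtain ⟨u, hu⟩ := U.pc.sp_ne U.hd U.ho.1 U.ho.2
  obtain ⟨f, H⟩ := U.nd.exists_isHyp ((unit_sing _ _).2 (U.vv hu)) (U.vne hu)
  have := H.finrank_perp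
  omega

theorem coord {e : G} (he : e ∈ nb D d) : ∃ u ∈ Sp D d o, ∃ c, pt u c = e := by
  obtain ⟨u, hu, c⟩ := U.c5.ooa U.hd he U.ho.1
  have hu' : u ∈ Sp D d o := ⟨hu.1, Ln.comm U.hd he (Ln.left U.hd) hu, c⟩
  exact ⟨u, hu', U.co.sur u (U.mnb hu') e (U.pc.Ln_eq' U.hd he hu (U.mnb hu').2.1 ▸ Ln.right he.1) he.2.1⟩

theorem wa0 : Wa (Sp D d o) pt S v o 0 := fun y hy c => by
  have m := U.mnb hy
  rw [map_zero, LinearMap.zero_apply]
  refine ⟨fun e => by_contra fun h => U.ho.2 (U.pc.all U.hd m (U.co.mem y m c) (Ln.right hy.1)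
    (fun e' => h (U.co.inj y m (e'.trans (U.co.zero y m).symm))) U.ho.1 e hy.2.2 (Ln.left U.hd)).symm, ?_⟩
  rintro rfl
  exact (U.co.zero y m).symm ▸ hy.2.2

theorem tl_d : Tl (Sp D d o) pt S v d 0 := fun y hy c => by
  rw [map_zero, LinearMap.zero_apply, add_zero, mul_inv_eq_iff_eq_mul.2 (U.pm hy c).2.2.eq]

theorem tl_gen (hu : u ∈ Sp D d o) (b c : K4) : Tl (Sp D d o) pt S v (pt u b * pt u c) (fr (b + c) • v u) :=
  fun y hy e => by rw [U.co.transl U.pc U.hd (U.mnb hu) (U.mnb hy), h_smul_left, fr_fr, U.gram u hu y hy, mul_comm]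

theorem quad (hu : u ∈ Sp D d o) (b c k : K4) :
    pt u b * pt u c * (pt u (b + k) * pt u (c + k)) = dd d ((b + c) * fr k + fr ((b + c) * fr k)) := by
  have m := U.mnb hu
  have cm := fun b c => Ln.comm U.hd m (U.co.mem u m b) (U.co.mem u m c)
  have sq := fun b => t3_sq U.pc.t3 (U.pm hu b).1
  have : ((b = c ∨ k = 0 ∨ (b + k = c ∧ c + k = b)) ∧ (b + c) * fr k + fr ((b + c) * fr k) = 0) ∨
      ([b, c, b + k, c + k].Nodup ∧ (b + c) * fr k + fr ((b + c) * fr k) = 1) := by revert b c k; decide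
  rcases this with ⟨h, e⟩ | ⟨h, e⟩
  · rw [e, dd, if_pos rfl]
    rcases h with rfl | rfl | ⟨h1, h2⟩
    · rw [sq, sq, one_mul]
    · rw [add_zero, add_zero, ← _root_.sq, sq_of_comm (sq b) (sq c) (cm b c)]
    · rw [h1, h2, mul_assoc, canc (sq c), sq]
  · rw [e, dd, if_neg one_ne_zero, ← mul_assoc, U.co.prod U.c5 U.hd m h]

theorem q1 (hq : q ∈ Qg (Sp D d o) d pt) :
    Commute q d ∧ ∃ w, Tl (Sp D d o) pt S v q w ∧ q * q = dd d (S.h w w) := by
  have st : ∀ x ∈ insert d {x | ∃ u ∈ Sp D d o, ∃ b c, x = pt u b * pt u c}, x⁻¹ = x ∧ ∀ q, (Commute q d ∧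
      ∃ w, Tl (Sp D d o) pt S v q w ∧ q * q = dd d (S.h w w)) → Commute (x * q) d ∧
      ∃ w, Tl (Sp D d o) pt S v (x * q) w ∧ x * q * (x * q) = dd d (S.h w w) := by
    rintro x (rfl | ⟨u, hu, b, c, rfl⟩)
    · refine ⟨inv_of_sq U.d2, fun q ⟨h1, w, h2, h3⟩ => ⟨(Commute.refl _).mul_left h1, w, zero_add w ▸ U.tl_d.mul h2, ?_⟩⟩
      rw [← h3, mul_assoc, h1.left_comm, canc U.d2]
    · refine ⟨inv_of_sq (by simpa [dd] using U.quad hu b c 0), fun q ⟨h1, w, h2, h3⟩ =>
        ⟨((U.pm hu b).2.2.symm.mul_left (U.pm hu c).2.2.symm).mul_left h1, _, (U.tl_gen hu b c).mul h2, ?_⟩⟩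
      calc _ = pt u b * pt u c * (q * pt u b * q⁻¹ * (q * pt u c * q⁻¹)) * (q * q) := by group
        _ = _ := by
          rw [h2 u hu, h2 u hu, U.quad hu, h3, dd_add U.d2 (by rw [map_add, fr_fr, add_comm]) (u_symm S w w).symm, u_add,
            h_smul_left, h_smul_right, U.vv hu, h_smul_left, fr_fr, u_symm S w (v u), mul_zero, mul_zero, zero_add,
            add_comm]
  induction hq using closure_induction_left with
  | one => exact ⟨Commute.one_left _, 0, fun y hy c => by simp, by simp [dd]⟩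
  | mul_left x hx y _ ih => exact (st x hx).2 y ih
  | inv_mul_cancel x hx y _ ih => rw [(st x hx).1]; exact (st x hx).2 y ih

theorem q2 (w : W) : ∃ q ∈ Qg (Sp D d o) d pt, Tl (Sp D d o) pt S v q w := by
  have : w ∈ Submodule.span K4 (v '' Sp D d o) := U.span ▸ trivial
  suffices ∀ c : K4, ∃ q ∈ Qg (Sp D d o) d pt, Tl (Sp D d o) pt S v q (c • w) by simpa using this 1
  induction this using Submodule.span_induction with
  | mem x hx =>
    obtain ⟨u, hu, rfl⟩ := hx
    exact fun c => ⟨_, subset_closure (Or.inr ⟨u, hu, fr c, 0, rfl⟩), by simpa [fr_fr] using U.tl_gen hu (fr c) 0⟩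
  | zero => exact fun c => ⟨d, subset_closure (Or.inl rfl), by rw [smul_zero]; exact U.tl_d⟩
  | add x y _ _ h1 h2 =>
    intro c
    obtain ⟨q, hq, t⟩ := h1 c
    obtain ⟨q', hq', t'⟩ := h2 c
    exact ⟨_, mul_mem hq hq', smul_add c x y ▸ t.mul t'⟩
  | smul a x _ h1 => exact fun c => smul_smul c a x ▸ h1 _

omit [Finite G] in
theorem wa_uniq (h : Wa (Sp D d o) pt S v a w) (h' : Wa (Sp D d o) pt S v a w') : w = w' :=
  U.ext fun y hy => (h' y hy _).1 ((h y hy _).2 rfl)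

theorem tl_sq (hq : q ∈ Qg (Sp D d o) d pt) (h : Tl (Sp D d o) pt S v q w) : q * q = dd d (S.h w w) := by
  obtain ⟨-, w', h1, h2⟩ := U.q1 hq
  rw [h2, U.wa_uniq (U.wa0.tl h1) (U.wa0.tl h) |> add_left_cancel]

theorem an (hq : Commute q d) (ha : a ∈ An D d) : q * a * q⁻¹ ∈ An D d := ⟨U.pc.cj _ _ ha.1, mt (comm_conj_of hq).1 ha.2⟩

theorem an_d (ha : a ∈ An D d) : d * a * d ∈ An D d := by
  have := U.an (Commute.refl d) ha; rwa [inv_of_sq U.d2] at this

theorem wa_d (h : Wa (Sp D d o) pt S v a w) : Wa (Sp D d o) pt S v (d * a * d) w := by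
  have := h.tl U.tl_d; rwa [inv_of_sq U.d2, add_zero] at this

theorem orbit (ha : a ∈ An D d) : ∃ q ∈ Qg (Sp D d o) d pt, q * o * q⁻¹ = a := by
  obtain ⟨k, hk, rfl⟩ := U.pc.nc_class U.hd U.ho.1 ha.1 U.ho.2 ha.2
  clear ha
  have nm : ∀ y ∈ Sp D d o, ∀ q ∈ Qg (Sp D d o) d pt, y * q * y⁻¹ ∈ Qg (Sp D d o) d pt := fun y hy q hq => by
    induction hq using closure_induction with
    | one => simp
    | mul a b _ _ h1 h2 => convert mul_mem h1 h2 using 1; group
    | inv a _ h => convert inv_mem h using 1; group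
    | mem x hx =>
      rcases hx with rfl | ⟨u, hu, b, c, rfl⟩
      · rw [mul_inv_eq_iff_eq_mul.2 hy.2.1.symm.eq]; exact subset_closure (Or.inl rfl)
      have m : y * u * y⁻¹ ∈ Sp D d o := by rw [t3_inv U.pc.t3 hy.1]; exact (U.pc.T3.Sp d o).cl y hy u hu
      obtain ⟨s, e, -, h⟩ := U.co.sg U.pc.toTC (U.mnb hu) (U.mnb m) hy.2.1.symm rfl
      exact subset_closure (Or.inr ⟨_, m, e * tw s b, e * tw s c, by rw [← h b, ← h c]; group⟩)
  have st : ∀ x ∈ perp D d, ∀ k, (∃ q ∈ Qg (Sp D d o) d pt, q * o * q⁻¹ = k * o * k⁻¹) →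
      ∃ q ∈ Qg (Sp D d o) d pt, q * o * q⁻¹ = x * k * o * (x * k)⁻¹ := by
    rintro x hx k ⟨q, hq, e⟩
    have e' : x * k * o * (x * k)⁻¹ = x * (q * o * q⁻¹) * x⁻¹ := by rw [e]; group
    by_cases h : x = d
    · exact ⟨d * q, mul_mem (subset_closure (Or.inl rfl)) hq, by rw [e', h]; group⟩
    obtain ⟨u, hu, c, rfl⟩ := U.coord ⟨hx.1, h, hx.2⟩
    refine ⟨pt u c * pt u 0 * (u * q * u⁻¹), mul_mem (subset_closure (Or.inr ⟨u, hu, c, 0, rfl⟩)) (nm u hu q hq), ?_⟩
    rw [e', U.co.zero u (U.mnb hu), mul_assoc (pt u c), mul_assoc u q, canc (t3_sq U.pc.t3 hu.1)]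
    calc _ = pt u c * (q * (u⁻¹ * o * u) * q⁻¹) * (pt u c)⁻¹ := by group
      _ = _ := by rw [mul_assoc u⁻¹, hu.2.2.eq, inv_mul_cancel_left]
  induction hk using closure_induction_left with
  | one => exact ⟨1, one_mem _, rfl⟩
  | mul_left x hx y _ ih => exact st x hx y ih
  | inv_mul_cancel x hx y _ ih => rw [t3_inv U.pc.t3 hx.1]; exact st x hx y ih

theorem exists_wa (ha : a ∈ An D d) : ∃ w, Wa (Sp D d o) pt S v a w := by
  obtain ⟨q, hq, rfl⟩ := U.orbit ha
  obtain ⟨-, w, h, -⟩ := U.q1 hq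
  exact ⟨_, U.wa0.tl h⟩

theorem exists_an (w : W) : ∃ a ∈ An D d, Wa (Sp D d o) pt S v a w := by
  obtain ⟨q, hq, h⟩ := U.q2 w
  exact ⟨_, U.an (U.q1 hq).1 U.ho, zero_add w ▸ U.wa0.tl h⟩

theorem fib (ha : a ∈ An D d) (hb : b ∈ An D d) (h : Wa (Sp D d o) pt S v a w) (h' : Wa (Sp D d o) pt S v b w) :
    b = a ∨ b = d * a * d :=
  U.c5.fib d U.hd a ha.1 b hb.1 ha.2 hb.2 fun s hs c1 c2 => by
    obtain ⟨u, hu, c, rfl⟩ := U.coord ⟨hs, by rintro rfl; exact ha.2 c2.symm, c1⟩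
    exact (h' u hu c).2 ((h u hu c).1 c2)

theorem iso_comm (ha : a ∈ An D d) (hb : b ∈ An D d) (h : Wa (Sp D d o) pt S v a w) (h' : Wa (Sp D d o) pt S v b w')
    (e : S.h (w + w') (w + w') = 0) : Commute a b ∨ Commute a (d * b * d) := by
  have dd' : ∀ x, d * (d * x * d) * d = x := fun x => by simp only [mul_assoc, canc U.d2, U.d2, mul_one]
  by_cases n0 : w + w' = 0
  · rw [← neg_eq_of_add_eq_zero_right n0, neg_eq_of_add_eq_zero_right (v4_add w)] at h'
    rcases U.fib ha hb h h' with rfl | rfl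
    exacts [Or.inl (Commute.refl _), Or.inr (by rw [dd'])]
  obtain ⟨q, hq, t⟩ := U.q2 (w + w')
  have q2 := U.tl_sq hq t
  rw [e, dd, if_pos rfl] at q2
  have m := U.an (U.q1 hq).1 ha
  have : Commute a (q * a * q⁻¹) ∨ Commute a (d * (q * a * q⁻¹) * d) := by
    refine or_iff_not_imp_left.2 fun n => ?_
    rw [nc_conj_self U.d2, t3_braid U.pc.t3 U.hd ha.1 ha.2, ← nc_conj_self (t3_sq U.pc.t3 ha.1)]
    by_contra n'
    obtain ⟨x, hx⟩ := U.exists_wa (a := a * (q * a * q⁻¹) * a) ⟨U.pc.cl ha.1 m.1, n'⟩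
    have := hx.tl t
    rw [show q * (a * (q * a * q⁻¹) * a) * q⁻¹ = q * a * q⁻¹ * (q * q * a * (q * q)⁻¹) * (q * a * q⁻¹) by group, q2,
      one_mul, inv_one, mul_one, ← t3_braid U.pc.t3 ha.1 m.1 n] at this
    exact n0 (left_eq_add.1 (U.wa_uniq hx this))
  have t' := h.tl t
  rw [← add_assoc, v4_add, zero_add] at t'
  rcases U.fib m hb t' h' with rfl | rfl
  exacts [this, by rw [dd']; exact this.symm]

theorem kk_flip (ha : a ∈ An D d) (hb : b ∈ An D d) (h : Wa (Sp D d o) pt S v a w) (h' : Wa (Sp D d o) pt S v b w')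
    (e : S.h (w + w') (w + w') = 0) : kk a (d * b * d) = kk a b + 1 := by
  by_cases c : Commute a b
  · rw [kk_c c, kk_n, zero_add]
    rw [t3_braid U.pc.t3 U.hd hb.1 hb.2, comm_conj_iff (t3_sq U.pc.t3 hb.1) c]
    exact fun e => ha.2 e.symm
  · rw [kk_n c, kk_c ((U.iso_comm ha hb h h' e).resolve_left c), K4.add_self]

theorem comm_line (ha : a ∈ An D d) (hb : b ∈ An D d) (h : Wa (Sp D d o) pt S v a w) (h' : Wa (Sp D d o) pt S v b w')
    (c : Commute a b) (hne : a ≠ b) :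
    ∃ u ∈ Sp D d o, ∃ s k : K4, k ≠ 0 ∧ w + w' = k • v u ∧ pt u s ∈ Ln D a b := by
  have hb' : b ∈ nb D a := ⟨hb.1, hne.symm, c⟩
  obtain ⟨p, hp, cp⟩ := U.c5.ooa ha.1 hb' U.hd
  have pa := Ln.comm ha.1 hb' hp (Ln.left ha.1)
  have hp' : p ∈ nb D d := ⟨hp.1, by rintro rfl; exact ha.2 pa, cp⟩
  obtain ⟨u, hu, s, rfl⟩ := U.coord hp'
  have m := U.mnb hu
  have ne : ∀ x ∈ An D d, x ≠ pt u s := by rintro _ hx rfl; exact hx.2 cp
  have ha' : a ∈ nb D (pt u s) := ⟨ha.1, ne a ha, pa⟩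
  let f : K4 → G := fun t => if t = s then a else d * (pt u t * pt u s) * a * (d * (pt u t * pt u s))⁻¹
  have f1 : ∀ t, Wa (Sp D d o) pt S v (f t) (w + fr (t + s) • v u) := fun t => by
    simp only [f]
    split_ifs with e
    · simpa [e, K4.add_self] using h
    · simpa using h.tl (U.tl_d.mul (U.tl_gen hu t s))
  have f2 : ∀ t, f t ∈ Ln D a b \ {pt u s} := fun t => by
    simp only [f]
    split_ifs with e
    · exact ⟨Ln.left ha.1, ne a ha⟩
    refine ⟨?_, ne _ (U.an ((Commute.refl d).mul_left ((U.pm hu t).2.2.symm.mul_left hp'.2.2.symm)) ha)⟩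
    have e1 : Ln D (pt u s) d = Ln D d u := U.pc.Ln_eq U.hd m (U.co.mem u m s) (Ln.left U.hd) hp'.2.1
    have := U.pc.transl hp.1 (nb_symm U.hd hp') (Ln.right U.hd) (e1 ▸ U.co.mem u m t) hp'.2.1.symm
      (fun e' => e (U.co.inj u m e')) ha'
    rw [U.pc.Ln_eq ha.1 hb' hp (Ln.left ha.1) (ne a ha).symm] at this
    convert this using 1
    calc _ = d * pt u t * (pt u s * a * (pt u s)⁻¹) * (d * pt u t)⁻¹ := by group
      _ = _ := by rw [mul_inv_eq_iff_eq_mul.2 pa.eq]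
  have inj : Function.Injective f := fun t t' e => by
    have := smul_left_injective K4 (U.vne hu) (add_left_cancel (U.wa_uniq (f1 t) (e ▸ f1 t')))
    simpa [fr_fr] using congrArg fr this
  have : Set.range f = Ln D a b \ {pt u s} := Set.eq_of_subset_of_ncard_le (by rintro _ ⟨t, rfl⟩; exact f2 t) (by
    rw [Set.ncard_sdiff_singleton_of_mem hp, U.c5.five a ha.1 b hb', Set.ncard_range_of_injective inj,
      Nat.card_eq_fintype_card, K4.card])
  obtain ⟨t, rfl⟩ : b ∈ Set.range f := this ▸ ⟨Ln.right hb.1, ne b hb⟩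
  refine ⟨u, hu, s, fr (t + s), fun e => hne ?_, by rw [U.wa_uniq h' (f1 t), ← add_assoc, v4_add, zero_add], hp⟩
  have : t = s := by revert e; clear * -; revert t s; decide
  simp [f, this]

theorem iso_of_comm (ha : a ∈ An D d) (hb : b ∈ An D d) (h : Wa (Sp D d o) pt S v a w)
    (h' : Wa (Sp D d o) pt S v b w') (c : Commute a b) : S.h (w + w') (w + w') = 0 := by
  by_cases e : a = b
  · subst e; rw [U.wa_uniq h h', v4_add]; simp
  obtain ⟨u, hu, s, k, -, e, -⟩ := U.comm_line ha hb h h' c e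
  rw [e, h_smul_left, h_smul_right, U.vv hu, mul_zero, mul_zero]

theorem tri (ha : a ∈ An D d) (hb : b ∈ An D d) (hc : c ∈ An D d) (h : Wa (Sp D d o) pt S v a w)
    (h' : Wa (Sp D d o) pt S v b w') (h'' : Wa (Sp D d o) pt S v c w'') (e1 : S.h (w + w') (w + w') = 0)
    (e2 : S.h (w + w'') (w + w'') = 0) (e3 : S.h (w' + w'') (w' + w'') = 0) :
    kk a b + kk b c + kk a c = S.h (w + w') (w + w'') := by
  wlog c1 : Commute a b generalizing b
  · have := this (U.an_d hb) (U.wa_d h') ((U.iso_comm ha hb h h' e1).resolve_left c1)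
    rw [U.kk_flip ha hb h h' e1, kk_symm (d * b * d), U.kk_flip hc hb h'' h' (add_comm w' w'' ▸ e3), kk_symm c] at this
    rw [← this]; linear_combination -K4.add_self 1
  wlog c2 : Commute a c generalizing c
  · have := this (U.an_d hc) (U.wa_d h'') ((U.iso_comm ha hc h h'' e2).resolve_left c2)
    rw [U.kk_flip ha hc h h'' e2, U.kk_flip hb hc h' h'' e3] at this
    rw [← this]; linear_combination -K4.add_self 1
  rw [kk_c c1, kk_c c2, zero_add, add_zero]
  by_cases n1 : a = b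
  · subst n1; rw [kk_c c2, U.wa_uniq h h', v4_add]; simp
  by_cases n2 : a = c
  · subst n2; rw [kk_c c1.symm, ← U.wa_uniq h h'', v4_add]; simp
  obtain ⟨u, hu, s, k, k0, k1, k2⟩ := U.comm_line ha hb h h' c1 n1
  obtain ⟨y, hy, t, l, l0, l1, l2⟩ := U.comm_line ha hc h h'' c2 n2
  have ne : ∀ u ∈ Sp D d o, ∀ s, pt u s ≠ a := fun u hu s e => ha.2 (e ▸ (U.pm hu s).2.2)
  have i := U.pc.nc_lines ha.1 ⟨hb.1, Ne.symm n1, c1⟩ ⟨hc.1, Ne.symm n2, c2⟩ k2 l2 (ne u hu s) (ne y hy t)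
  rw [U.co.comm U.pc U.hd (U.mnb hu) (U.mnb hy), ← U.gram u hu y hy] at i
  have j : S.h (w + w') (w + w'') = 0 ↔ Commute b c := by
    rw [k1, l1, h_smul_left, h_smul_right, ← i]; simp [k0, l0]
  have := u_add S (w + w') (w + w'')
  rw [add_add_add_comm, v4_add, zero_add, e1, e2, e3] at this
  rcases k4_fix (S.h (w + w') (w + w'')) (by revert this; generalize S.h (w + w') (w + w'') = x; revert x; decide) with e | e
  · rw [e, kk_c (j.1 e)]
  · rw [e, kk_n fun h => by rw [j.2 h] at e; exact zero_ne_one e]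

/-- the second coordinate does not depend on the auxiliary point -/
theorem indep (ha : a ∈ An D d) (hb : b ∈ An D d) (hc : c ∈ An D d) (h : Wa (Sp D d o) pt S v a w)
    (h' : Wa (Sp D d o) pt S v b w') (h'' : Wa (Sp D d o) pt S v c w'') (e0 : S.h w w = 1) (e1 : S.h w' w' = 0)
    (e2 : S.h w'' w'' = 0) (e3 : S.h (w + w') (w + w') = 0) (e4 : S.h (w + w'') (w + w'') = 0) :
    kk o b + kk b a + S.h w' w = kk o c + kk c a + S.h w'' w := by
  have t4 := u_add S w w''
  rw [e4, e0, e2, ← u_symm] at t4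
  wlog e5 : S.h (w' + w'') (w' + w'') = 0 generalizing c w''
  · obtain ⟨q, hq, rfl⟩ := U.orbit ha
    obtain ⟨cq, x, t, q2⟩ := U.q1 hq
    obtain rfl : x = w := (zero_add x).symm.trans (U.wa_uniq (U.wa0.tl t) h)
    rw [e0, dd, if_neg one_ne_zero] at q2
    have t3 := u_add S x w'
    rw [e3, e0, e1, ← u_symm] at t3
    have e6 : x + (w'' + x) = w'' := by rw [add_left_comm, v4_add, add_zero]
    rw [this (U.an cq hc) (h''.tl t) (add_comm x w'' ▸ e4) (by rw [e6, e2]) (by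
      rw [map_add, map_add, LinearMap.add_apply, e0]; linear_combination t4 - K4.add_self 1) (by
      rw [← add_assoc, u_add, (u_self S _).resolve_left e5, e0, map_add, LinearMap.add_apply, map_add, ← u_symm,
        ← u_symm]
      linear_combination -t3 - t4), kk_conj, ← kk_conj q o, show q * (q * c * q⁻¹) * q⁻¹ = q * q * c * (q * q)⁻¹ by group,
      q2, inv_of_sq U.d2, U.kk_flip ha hc h h'' e4, map_add, LinearMap.add_apply, e0, kk_symm c o, kk_symm c]
    linear_combination K4.add_self 1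
  have t1 := U.tri U.ho hb hc U.wa0 h' h'' (by rwa [zero_add]) (by rwa [zero_add]) e5
  have t2 := U.tri ha hb hc h h' h'' e3 e4 e5
  simp only [zero_add, map_add, LinearMap.add_apply, e0] at t1 t2
  rw [kk_symm b a, kk_symm c a]
  linear_combination t1 + t2 - t4 - K4.add_self (kk o c) - K4.add_self (kk a c) - K4.add_self (kk b c) +
    K4.add_self (S.h w' w'') + K4.add_self (S.h w' w) - K4.add_self (S.h w'' w)

variable [FiniteDimensional K4 W]

theorem exists_c : ∃ (wv : G → W) (cv : G → K4), (∀ a ∈ An D d, Wa (Sp D d o) pt S v a (wv a)) ∧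
    ∀ a ∈ An D d, ∀ b ∈ An D d, S.h (wv a + wv b) (wv a + wv b) = 0 → cv b + fr (cv a) + S.h (wv a) (wv b) = kk a b := by
  choose! wv h using fun a => U.exists_wa (a := a)
  have : ∀ a ∈ An D d, ∃ x : K4, (S.h (wv a) (wv a) = 0 → x = kk o a) ∧ (S.h (wv a) (wv a) = 1 → ∀ b ∈ An D d,
      S.h (wv b) (wv b) = 0 → S.h (wv a + wv b) (wv a + wv b) = 0 → x = kk o b + kk b a + S.h (wv b) (wv a)) := by
    intro a ha
    rcases u_self S (wv a) with e | e
    · exact ⟨_, fun _ => rfl, fun e' => absurd (e.symm.trans e') zero_ne_one⟩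
    obtain ⟨m, m1, m2, -⟩ := u_exists_m U.nd U.two e (n := 0) (by simp) (by simp)
    obtain ⟨p, hp, p1⟩ := U.exists_an m
    exact ⟨_, fun e' => absurd (e'.symm.trans e) zero_ne_one, fun _ b hb b1 b2 => U.indep ha hp hb (h a ha) p1 (h b hb) e m1
      b1 (by rw [add_comm, u_add, m1, e, m2]; decide) b2⟩
  choose! cv h1 h2 using this
  refine ⟨wv, cv, h, fun a ha b hb e => ?_⟩
  rcases u_self S (wv a) with e1 | e1 <;> rcases u_self S (wv b) with e2 | e2
  · have := U.tri U.ho ha hb U.wa0 (h a ha) (h b hb) (by rwa [zero_add]) (by rwa [zero_add]) e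
    rw [zero_add, zero_add] at this
    rw [h1 a ha e1, h1 b hb e2, kk_fr, ← this]
    linear_combination K4.add_self (kk o a) + K4.add_self (kk o b)
  · rw [h1 a ha e1, h2 b hb e2 a ha e1 (add_comm (wv a) _ ▸ e), kk_fr]
    linear_combination K4.add_self (kk o a) + K4.add_self (S.h (wv a) (wv b))
  · rw [h1 b hb e2, h2 a ha e1 b hb e2 e, map_add, map_add, kk_fr, kk_fr, ← u_symm, kk_symm b]
    linear_combination K4.add_self (kk o b) + K4.add_self (S.h (wv a) (wv b))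
  · have t0 := u_add S (wv a) (wv b)
    rw [e, e1, e2] at t0
    obtain ⟨m, m1, m2, m3⟩ := u_exists_m U.nd U.two e1 e (by
      rw [map_add, e1, map_add, map_one]; linear_combination -t0)
    obtain ⟨p, hp, p1⟩ := U.exists_an m
    obtain rfl := U.wa_uniq (h p hp) p1
    rw [map_add, map_add] at m3
    have i1 : S.h (wv p + wv a) (wv p + wv a) = 0 := by rw [u_add, m1, e1, m2]; decide
    have i2 : S.h (wv p + wv b) (wv p + wv b) = 0 := by
      rw [u_add, m1, e2]; linear_combination m3 - m2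
    have := U.tri hp ha hb (h p hp) (h a ha) (h b hb) i1 i2 e
    simp only [map_add, LinearMap.add_apply, m1] at this
    rw [h2 a ha e1 p hp m1 (add_comm (wv p) _ ▸ i1), h2 b hb e2 p hp m1 (add_comm (wv p) _ ▸ i2), map_add, map_add, kk_fr,
      kk_fr, ← u_symm]
    linear_combination this + K4.add_self (kk o p) - K4.add_self (kk a b) + K4.add_self (S.h (wv p) (wv b)) +
      K4.add_self (S.h (wv a) (wv p)) + K4.add_self (S.h (wv a) (wv b))

end US

/-- adding a hyperbolic plane -/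
noncomputable def uExt (S : PForm UP W) : PForm UP (W × K4 × K4) :=
  unitS fr_fr fr_ne (LinearMap.mk₂'ₛₗ fr (RingHom.id K4) (fun x y => S.h x.1 y.1 + fr x.2.1 * y.2.2 + fr x.2.2 * y.2.1)
    (fun x x' y => by simp; ring) (fun c x y => by simp; ring) (fun x y y' => by simp; ring)
    (fun c x y => by simp; ring)) ⟨fun x y => by simp [fr_fr, u_symm S x.1 y.1]; ring⟩

theorem uExt_h (x y : W × K4 × K4) : (uExt S).h x y = S.h x.1 y.1 + fr x.2.1 * y.2.2 + fr x.2.2 * y.2.1 := rfl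

theorem uExt_nd (hS : S.Nondeg) : (uExt S).Nondeg := fun x h => by
  have h1 := h (0, 1, 0)
  have h2 := h (0, 0, 1)
  simp only [uExt_h, map_zero, mul_zero, mul_one, add_zero, zero_add, map_eq_zero] at h1 h2
  exact Prod.ext (hS _ fun y => by simpa [uExt_h] using h (y, 0, 0)) (Prod.ext h2 h1)

theorem US.md [Finite G] [FiniteDimensional K4 W] (U : US D d o pt g S v) : ∃ τ, Md (uExt S) τ D := by
  classical
  obtain ⟨wv, cv, h1, h2⟩ := U.exists_c
  choose! uu u1 cc u2 using fun e => U.coord (e := e)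
  let f : G → W × K4 × K4 := fun x => if x = d then (0, 1, 0) else if Commute d x then (v (uu x), cc x, 0)
    else (wv x, cv x, 1)
  have f1 : f d = (0, 1, 0) := if_pos rfl
  have f2 : ∀ x ∈ nb D d, f x = (v (uu x), cc x, 0) := fun x hx => by simp only [f, if_neg hx.2.1, if_pos hx.2.2]
  have f3 : ∀ x ∈ An D d, f x = (wv x, cv x, 1) := fun x hx => by
    have : x ≠ d := by rintro rfl; exact hx.2 (Commute.refl _)
    simp only [f, if_neg this, if_neg hx.2]
  have cs : ∀ x ∈ D, x = d ∨ x ∈ nb D d ∨ x ∈ An D d := fun x hx => by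
    by_cases e : x = d <;> by_cases c : Commute d x <;> simp [nb, An, *]
  have aa : ∀ a ∈ An D d, cv a + fr (cv a) = S.h (wv a) (wv a) := fun a ha => by
    have := h2 a ha a ha (by rw [v4_add]; simp)
    rw [kk_c (Commute.refl a)] at this
    linear_combination this - K4.add_self (S.h (wv a) (wv a))
  have sy : ∀ x y, (Commute x y ↔ (uExt S).h (f x) (f y) = 0) → (Commute y x ↔ (uExt S).h (f y) (f x) = 0) :=
    fun x y h => by rw [h_eq_zero_comm, ← h]; exact Commute.symm_iff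
  have e1 : ∀ x ∈ nb D d, Commute d x ↔ (uExt S).h (f d) (f x) = 0 := fun x hx => by
    simp [f1, f2 x hx, uExt_h, hx.2.2]
  have e2 : ∀ x ∈ An D d, Commute d x ↔ (uExt S).h (f d) (f x) = 0 := fun x hx => by
    simp [f1, f3 x hx, uExt_h, hx.2]
  have e3 : ∀ a ∈ An D d, ∀ x ∈ nb D d, Commute a x ↔ (uExt S).h (f a) (f x) = 0 := fun a ha x hx => by
    rw [← u2 x hx, h1 a ha _ (u1 x hx), u2 x hx, f2 x hx, f3 a ha, uExt_h]
    simp only [mul_zero, add_zero, map_one, one_mul]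
    generalize cc x = s; generalize S.h _ _ = t
    revert s t; decide
  have h4 : ∀ x ∈ D, ∀ y ∈ D, Commute x y ↔ (uExt S).h (f x) (f y) = 0 := fun x hx y hy => by
    rcases cs x hx with rfl | hx | hx <;> rcases cs y hy with rfl | hy | hy
    · simp [f1, uExt_h]
    · exact e1 y hy
    · exact e2 y hy
    · exact sy _ _ (e1 x hx)
    · rw [← u2 x hx, ← u2 y hy, U.co.comm U.pc U.hd (U.mnb (u1 x hx)) (U.mnb (u1 y hy)), u2 x hx, u2 y hy, f2 x hx,
        f2 y hy, uExt_h, U.gram _ (u1 x hx) _ (u1 y hy)]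
      simp
    · exact sy _ _ (e3 y hy x hx)
    · exact sy _ _ (e2 x hx)
    · exact e3 x hx y hy
    · rw [f3 x hx, f3 y hy, uExt_h]
      dsimp only
      rw [map_one, one_mul, mul_one]
      rcases u_self S (wv x + wv y) with e | e
      · rw [← kk_eq, ← h2 x hx y hy e]
        constructor <;> intro h <;> linear_combination h
      · refine iff_of_false (fun c => zero_ne_one ((U.iso_of_comm hx hy (h1 x hx) (h1 y hy) c).symm.trans e)) ?_
        rw [u_add, ← aa x hx, ← aa y hy] at e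
        revert e
        generalize cv x = r; generalize cv y = s; generalize S.h _ _ = t
        revert r s t; decide
  have h0 : ∀ x ∈ D, NV (uExt S) (f x) := fun x hx => nv_unit.2 ⟨by
    rcases cs x hx with rfl | hx | hx
    · simp [f1]
    · simp [f2 x hx, U.vne (u1 x hx)]
    · simp [f3 x hx], (h4 x hx x hx).1 (Commute.refl x)⟩
  refine (md_of_graph U.pc.T3 U.c5.fib sfU (uExt_nd U.nd) f h0 (fun x hx y hy c e => (U.pc.vt x hx y hy fun z hz => ?_).symm)
    ?_ fun x hx y hy _ => h4 x hx y hy).imp fun _ h => h.1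
  · have c0 : c ≠ 0 := fun h => (h0 y hy).1 (by rw [e, h, zero_smul])
    rw [h4 y hy z hz, h4 x hx z hz, e, h_smul_left]
    simp [c0]
  rintro ⟨w, s, t⟩ hw
  obtain ⟨w0, w1⟩ := nv_unit.1 hw
  rw [uExt_h] at w1
  dsimp only at w1
  by_cases t0 : t = 0
  · subst t0
    by_cases w2 : w = 0
    · exact ⟨d, U.hd, s, by simp [f1, w2]⟩
    obtain ⟨a, ha, a1, a2⟩ : ∃ a ∈ An D d, Wa (Sp D d o) pt S v a w ∧ Commute o a := by
      obtain ⟨a, ha, a1⟩ := U.exists_an w
      rcases U.iso_comm U.ho ha U.wa0 a1 (by simpa using w1) with c | c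
      exacts [⟨a, ha, a1, c⟩, ⟨_, U.an_d ha, U.wa_d a1, c⟩]
    obtain ⟨u, hu, -, k, k0, k1, -⟩ := U.comm_line U.ho ha U.wa0 a1 a2 (by rintro rfl; exact w2 (U.wa_uniq a1 U.wa0))
    have m := U.pm hu (k⁻¹ * s)
    have e : uu (pt u (k⁻¹ * s)) = u := by
      have a := u1 _ m
      have b := U.pc.Ln_eq' U.hd (U.mnb a) (U.co.mem _ (U.mnb a) (cc (pt u (k⁻¹ * s)))) (U.co.ne _ (U.mnb a) _)
      rw [u2 _ m, U.pc.Ln_eq' U.hd (U.mnb hu) (U.co.mem _ (U.mnb hu) _) m.2.1] at b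
      by_contra ne
      exact U.ho.2 (U.pc.all U.hd (U.mnb hu) (b ▸ Ln.right a.1) (Ln.right hu.1) ne U.ho.1 a.2.2 hu.2.2 (Ln.left U.hd)).symm
    refine ⟨_, m.1, k, ?_⟩
    have e' := u2 _ m
    rw [e] at e'
    rw [f2 _ m, e, U.co.inj u (U.mnb hu) e', ← zero_add w, k1]
    simp [k0]
  · obtain ⟨a, ha, a1⟩ := U.exists_an (t⁻¹ • w)
    have w3 := U.wa_uniq (h1 a ha) a1
    have w4 := U.wa_uniq (h1 _ (U.an_d ha)) (U.wa_d a1)
    have k1 := aa a ha
    have k2 := h2 a ha _ (U.an_d ha) (by rw [w3, w4, v4_add]; simp)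
    rw [U.kk_flip ha ha a1 a1 (by rw [v4_add]; simp), kk_c (Commute.refl a), w4, w3] at k2
    rw [w3] at k1
    rw [h_smul_left, h_smul_right] at k1 k2
    have : s = t * cv a ∨ s = t * cv (d * a * d) := by
      revert t0 w1 k1 k2
      generalize cv a = x; generalize cv (d * a * d) = y; generalize S.h w w = z
      clear * -
      revert s t x y z; decide
    rcases this with e | e
    exacts [⟨a, ha.1, t, by simp [f3 a ha, w3, e, t0]⟩, ⟨_, (U.an_d ha).1, t, by simp [f3 _ (U.an_d ha), w4, e, t0]⟩]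

/-- a unitary model of dimension `n` -/
def MU (n : ℕ) (D : Set G) : Prop := ∃ τ, Md (stdUnit fr_fr fr_ne (Fin n)) τ D

theorem Md.mu [FiniteDimensional K4 W] {τ : W → G} (h : Md S τ D) : MU (finrank K4 W) D :=
  h.eqv (unit_eqv fr_ne _ (stdUnit_nondeg fr_fr fr_ne _) h.nd (by simp) rfl)

theorem C5.mu [Finite G] (hD : C5 D) : ∃ n, 4 ≤ n ∧ MU n D := by
  classical
  obtain ⟨d, hd, -⟩ := hD.w
  obtain ⟨o, ho, n⟩ := hD.exists_nc hD.two hd
  obtain ⟨pt, g, co⟩ := hD.exists_co hd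
  have m : ∀ u ∈ Sp D d o, u ∈ nb D d := fun u hu => ⟨hu.1, by rintro rfl; exact n hu.2.2.symm, hu.2.1⟩
  obtain ⟨k, B, w, b1, b2, b3, b4⟩ := exists_gram fr_fr (fun x y : Sp D d o => g x y)
    fun x y => co.herm hD.T3 (m _ x.2) (m _ y.2)
  have U : US D d o pt g (unitS fr_fr fr_ne B b1) (fun x => if h : x ∈ Sp D d o then w ⟨x, h⟩ else 0) :=
    ⟨hD, hd, ⟨ho, n⟩, co, b2, fun u hu y hy => by simp only [dif_pos hu, dif_pos hy]; exact b3 _ _, by
      rw [← b4]; congr 1; ext x; simp only [Set.mem_image, Set.mem_range, Subtype.exists]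
      exact ⟨fun ⟨u, hu, e⟩ => ⟨u, hu, by rwa [dif_pos hu] at e⟩, fun ⟨u, hu, e⟩ => ⟨u, hu, by rwa [dif_pos hu]⟩⟩⟩
  obtain ⟨τ, h⟩ := U.md
  refine ⟨_, ?_, h.mu⟩
  have := U.two
  simp only [finrank_prod, finrank_self] at this ⊢
  omega

end H28
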