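import Cfsg.Agent.H28.CzA
import Cfsg.Agent.S0287
import Cfsg.Agent.S0289
import Cfsg.Agent.S0293
import Cfsg.Agent.S0296

/-! The `-1` eigenlattice of `ε` is `√2 E₈`; the centralizer of `ε` in `Co0` maps onto `Ω₈⁺(2)`. -/

set_option autoImplicit false

namespace H28
namespace Cz
open Cfsg MulAction Finset H14 H18
open scoped Pointwise commutatorElement Matrix

abbrev ι : Type := Fin 4 ⊕ Fin 4
def ix : ι → ℕ := Sum.elim Fin.val fun i => i.val + 4
def bN : List ℕ := [0x7a80808080807e80808280808080808080807e80827e827e, 0x848080808080848080808080808080808080808080808484, 0x8080808080808480807c8080808080808080848080807c80, 0x8080808080807c80807c8080808080808080808084808084, 0x788080808080808080808080808080808080808080808080, 0x7c8080808080848080808080808080808080848080808084, 0x8080808080807c80808080808080808080807c8084808480, 0x84808080808084808084808080808080808080807c808080]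
def dN : List ℕ := [0x808080808080808080808080808080808080808080788080, 0x8080808080808080807c808080808080808080807c7c8480, 0x8080808080808480808080808080808080807c8084807c80, 0x8080808080808080808080808080808080807c80807c7c84, 0x7e80808080808280807e80808080808080807a807e827e82, 0x808080808080808080848080808080808080848084848080, 0x8080808080808480808480808080808080807c8088887c80, 0x808080808080848080848080808080808080788084807884]
def uN : List (List ℤ) := [[2, -2, -2, 0, 3, 0, 2, -2], [0, 2, 0, 0, -2, 1, 0, 2], [0, 0, 2, 0, 0, 2, -3, 0], [0, 0, 0, 2, 0, 0, 2, -3], [0, 0, 0, 0, 2, 2, 0, -2], [0, 0, 0, 0, 0, 2, -2, 0], [0, 0, 0, 0, 0, 0, 2, -2], [0, 0, 0, 0, 0, 0, 0, 2]]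
def lN : ℕ := 0x77797797000000000000000097799788000000007779789897799889000000000000000077978778777987870000000077778899000000000000000099798a880000000000000000977899899778998a7778789977787898000000000000000077788999999889780000000000000000000000000000000099788a8977788888000000009769999a0000000077877788978798790000000077877889000000009987897900000000778787890000000000000000776988980000000077878888976a9999978897787788778777887788000000000000000000000000000000000000000000000000000000000000000099888877998888787988688777888888000000007879799898799989000000000000000078977878787978870000000098798999000000000000000098798988989788790000000000000000987988887878799978787998000000000000000078967879787878980000000000000000000000000000000098788989767887880000000000000000987a88879678a88a98879979000000007887798900000000988798790000000078877889000000000000000076698798000000009887898a000000007669889800000000988988880000000000000000000000000000000000000000000000000000000000000000766a8797986a8998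98888989766889aa76688899988888789888888998888888000000008997797889797987000000008997787700000000000000008779988800000000879787788779878700000000877988990000000000000000877988888998777767967778000000000000000000000000000000008778988987789888877889998778899a0000000000000000000000000000000087788889877888888769999900000000898779890000000000000000a9879a7a0000000067877888876989990000000087878789000000000000000087698898000000008787888a00000000000000000000000000000000898878776786789a89887887898878880000000000000000000000000000000089888877876a88988788888987888888667777990000000000000000867997886677789900000000000000008677988a8879899900000000000000008879898888978879000000000000000088798888000000000000000086789789a878998a000000000000000086789889a8789a8a000000000000000088788989887889880000000000000000689668898878888800000000a887997a000000006687778800000000a8699a9a00000000666978a80000000088698998000000008887898a000000008887887800000000888988888a8879778668999a66867789a86a9988866898998668989a666878a98888788888888777886a8998888889898888898888888877888888788888888900000000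

/-- the `-1` eigenlattice -/
def Lm : AddSubgroup Λ where
  carrier := {x | ∀ p, p ∉ o0 → x.1 p = 0}
  zero_mem' _ _ := rfl
  add_mem' hx hy p hp := by simp [hx p hp, hy p hp]
  neg_mem' hx p hp := by simp [hx p hp]

theorem mem_Lm_iff {x : Λ} : x ∈ Lm ↔ ε • x = -x := by
  constructor
  · intro h
    refine Subtype.ext (funext fun p => ?_)
    rw [ε, sgn_apply]
    split_ifs with e
    · rfl
    · simp [h p e]
  · intro h p hp
    have := congrFun (congrArg Subtype.val h) p
    rw [ε, sgn_apply, if_neg hp] at this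
    simp only [AddSubgroup.coe_neg, Pi.neg_apply] at this
    omega

theorem smul_mem_Lm {g : Co0} (hg : g ∈ C1(ε)) {x : Λ} (hx : x ∈ Lm) : g • x ∈ Lm := by
  rw [mem_Lm_iff] at hx ⊢
  rw [← mul_smul, ← Subgroup.mem_centralizer_singleton_iff.1 hg, mul_smul, hx, smul_neg]

theorem dvd32 {x : Λ} (hx : x ∈ Lm) : (32 : ℤ) ∣ sqNorm x.1 := by
  obtain ⟨m, h⟩ := mem_leech.1 x.2
  have q0 : (some 4 : GolayPt) ∉ o0 := by decide +kernel
  obtain rfl : m = 0 := by have := h.par (some 4); rw [hx _ q0] at this; omega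
  have hs : H14.cs x.1 ⊆ o0 := fun p hp => by
    by_contra e
    have := h.two hp
    rw [hx p e] at this
    omega
  have h8 := card_le_card hs
  rw [o0_mem.2] at h8
  rcases card_mem_GC h.code with e | e | e | e | e
  · exact h.dvd_of_empty e
  · have e2 : H14.cs x.1 = o0 := eq_of_subset_of_card_le hs (by rw [e, o0_mem.2])
    have := dvd_sum_sub (f := fun i => x.1 i ^ 2) (g := fun i => if i ∈ o0 then 4 else 0) (n := 32)
      fun i => by
        split_ifs with hi
        · have h2 := h.two (e2 ▸ hi)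
          obtain ⟨k, hk⟩ : ∃ k, x.1 i = 4 * k + 2 := ⟨x.1 i / 4, by omega⟩
          obtain ⟨l, hl⟩ := Int.even_mul_succ_self k
          exact ⟨l, by rw [hk]; linear_combination 16 * hl⟩
        · simp [hx i hi]
    rw [sum_ind, o0_mem.2] at this
    unfold sqNorm
    omega
  all_goals omega

theorem dvd16 {x y : Λ} (hx : x ∈ Lm) (hy : y ∈ Lm) : (16 : ℤ) ∣ dotInt x.1 y.1 := by
  have h1 := dvd32 hx
  have h2 := dvd32 hy
  have h3 := dvd32 (Lm.add_mem hx hy)
  rw [AddSubgroup.coe_add, sqNorm_add] at h3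
  omega

theorem bN_ok : ∀ j : ι, leechB (bv (getL 0 bN (ix j))) = true := by decide +kernel
theorem dN_ok : ∀ j : ι, leechB (bv (getL 0 dN (ix j))) = true := by decide +kernel

noncomputable def bb (j : ι) : Λ := lv _ (bN_ok j)
noncomputable def dd (j : ι) : Λ := lv _ (dN_ok j)
noncomputable def UU (j k : ι) : ℤ := getL 0 (getL [] uN (ix j)) (ix k)

theorem bb_mem (j : ι) : bb j ∈ Lm :=
  (by decide +kernel : ∀ j p, p ∉ o0 → vecN (getL 0 bN (ix j)) p = 0) j
theorem dd_mem (j : ι) : dd j ∈ Lm :=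
  (by decide +kernel : ∀ j p, p ∉ o0 → vecN (getL 0 dN (ix j)) p = 0) j

theorem bd (p q : GolayPt) :
    ∑ j, (dd j).1 q * (bb j).1 p = if p = q ∧ p ∈ o0 then 16 else 0 :=
  (by decide +kernel : ∀ p q, ∑ j, vecN (getL 0 dN (ix j)) q * vecN (getL 0 bN (ix j)) p =
    if p = q ∧ p ∈ o0 then 16 else 0) p q

theorem db (k j : ι) : dotInt (dd k).1 (bb j).1 = if k = j then 16 else 0 :=
  (dot_toV _ _).trans ((by decide +kernel : ∀ k j : ι,
    dotZ (bv (getL 0 dN (ix k))) (bv (getL 0 bN (ix j))) = if k = j then 16 else 0) k j)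

theorem bbU (k j : ι) : dotInt (bb k).1 (bb j).1 = 16 * (UU k j + UU j k) :=
  (dot_toV _ _).trans ((by decide +kernel : ∀ k j : ι,
    dotZ (bv (getL 0 bN (ix k))) (bv (getL 0 bN (ix j))) = 16 * (UU k j + UU j k)) k j)

theorem dot_sum (d : V) (a : ι → ℤ) (y : ι → Λ) :
    dotInt d (∑ j, a j • y j : Λ).1 = ∑ j, a j * dotInt d (y j).1 := by
  simp only [dotInt, AddSubgroup.val_finsetSum, Finset.sum_apply, AddSubgroup.coe_zsmul,
    Pi.smul_apply, smul_eq_mul, mul_sum]
  rw [sum_comm]
  exact sum_congr rfl fun _ _ => sum_congr rfl fun _ _ => by ring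

/-- coordinates -/
noncomputable def co (x : Λ) (j : ι) : ℤ := dotInt (dd j).1 x.1 / 16

theorem co_spec {x : Λ} (hx : x ∈ Lm) (j : ι) : 16 * co x j = dotInt (dd j).1 x.1 :=
  Int.mul_ediv_cancel' (dvd16 (dd_mem j) hx)

theorem sum_mem_Lm (a : ι → ℤ) {y : ι → Λ} (hy : ∀ j, y j ∈ Lm) : ∑ j, a j • y j ∈ Lm :=
  Lm.sum_mem fun j _ => Lm.zsmul_mem (hy j) _

theorem co_sum (a : ι → ℤ) {y : ι → Λ} (hy : ∀ j, y j ∈ Lm) (k : ι) :
    co (∑ j, a j • y j) k = ∑ j, a j * co (y j) k := by
  have h1 := co_spec (sum_mem_Lm a hy) k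
  rw [dot_sum] at h1
  have h2 : ∑ j, a j * dotInt (dd k).1 (y j).1 = 16 * ∑ j, a j * co (y j) k := by
    rw [mul_sum]; exact sum_congr rfl fun j _ => by rw [← co_spec (hy j)]; ring
  omega

theorem co_sub {x y : Λ} (hx : x ∈ Lm) (hy : y ∈ Lm) (k : ι) : co (x - y) k = co x k - co y k := by
  have h1 := co_spec hx k
  have h2 := co_spec hy k
  have h3 := co_spec (Lm.sub_mem hx hy) k
  rw [AddSubgroup.coe_sub, dot_sub] at h3
  omega

theorem co_add {x y : Λ} (hx : x ∈ Lm) (hy : y ∈ Lm) (k : ι) : co (x + y) k = co x k + co y k := by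
  have h1 := co_spec hx k
  have h2 := co_spec hy k
  have h3 := co_spec (Lm.add_mem hx hy) k
  rw [AddSubgroup.coe_add, dot_add] at h3
  omega

noncomputable def sv (a : ι → ℤ) : Λ := ∑ j, a j • bb j

theorem sv_mem (a : ι → ℤ) : sv a ∈ Lm := sum_mem_Lm a bb_mem

theorem co_bb (j k : ι) : co (bb j) k = if k = j then 1 else 0 := by
  rw [co, db]; split_ifs <;> rfl

theorem co_sv (a : ι → ℤ) (k : ι) : co (sv a) k = a k := by
  rw [sv, co_sum a bb_mem]; simp [co_bb]

theorem sv_co {x : Λ} (hx : x ∈ Lm) : sv (co x) = x := by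
  refine Subtype.ext (funext fun p => ?_)
  have h1 : 16 * (sv (co x)).1 p = ∑ q, x.1 q * ∑ j, (dd j).1 q * (bb j).1 p := by
    simp only [sv, AddSubgroup.val_finsetSum, Finset.sum_apply, AddSubgroup.coe_zsmul,
      Pi.smul_apply, smul_eq_mul, mul_sum, ← mul_assoc, co_spec hx, dotInt, sum_mul]
    rw [sum_comm]
    exact sum_congr rfl fun _ _ => sum_congr rfl fun _ _ => by ring
  simp only [bd] at h1
  by_cases hp : p ∈ o0
  · simp only [hp, and_true, mul_ite, mul_zero, sum_ite_eq, mem_univ, if_true] at h1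
    omega
  · simp only [hp, and_false, if_false, mul_zero, sum_const_zero] at h1
    rw [hx p hp]; omega

theorem norm_sv (a : ι → ℤ) : sqNorm (sv a).1 = 32 * ∑ j, ∑ k, UU j k * a j * a k := by
  rw [← dot_self]
  conv_lhs => rw [sv, dot_sum]
  simp only [dot_comm (∑ j, a j • bb j : Λ).1, dot_sum, bbU, mul_sum]
  have h : ∑ j, ∑ k, 16 * (UU k j * a j * a k) = ∑ j, ∑ k, 16 * (UU j k * a j * a k) := by
    rw [sum_comm]; exact sum_congr rfl fun _ _ => sum_congr rfl fun _ _ => by ring
  have h2 : ∀ j k, a j * (a k * (16 * (UU j k + UU k j))) =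
      16 * (UU j k * a j * a k) + 16 * (UU k j * a j * a k) := fun j k => by ring
  simp only [h2, sum_add_distrib, h]
  rw [← sum_add_distrib]
  refine sum_congr rfl fun _ _ => ?_
  rw [← sum_add_distrib]
  exact sum_congr rfl fun _ _ => by ring

/-- reduction modulo two -/
noncomputable def φ (x : Λ) : ι → ZMod 2 := fun j => (co x j : ZMod 2)

theorem UU_cast : ∀ j k : ι, ((UU j k : ℤ) : ZMod 2) =
    Sum.elim (fun i => Sum.elim (fun _ => 0) (fun i' => if i = i' then 1 else 0) k) (fun _ => 0) j := by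
  decide +kernel

theorem q_φ {x : Λ} (hx : x ∈ Lm) :
    quadFormPlus 4 (ZMod 2) (φ x) = ((sqNorm x.1 / 32 : ℤ) : ZMod 2) := by
  conv_rhs => rw [← sv_co hx, norm_sv]
  rw [Int.mul_ediv_cancel_left _ (by norm_num)]
  push_cast
  simp [UU_cast, quadFormPlus, φ, Fintype.sum_sum_type]

theorem φ_eq_iff {x y : Λ} (hx : x ∈ Lm) (hy : y ∈ Lm) : φ x = φ y ↔ E2 x y := by
  constructor
  · intro h
    have h1 : ∀ j, (2 : ℤ) ∣ co (x - y) j := fun j => by
      rw [co_sub hx hy]
      exact (ZMod.intCast_eq_intCast_iff_dvd_sub _ _ 2).1 (congrFun h j).symm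
    choose a ha using h1
    refine mem_TwoL.2 ⟨sv a, ?_⟩
    rw [← sv_co (Lm.sub_mem hx hy), sv, sv, ← sum_add_distrib]
    exact sum_congr rfl fun j _ => by rw [ha, two_mul, add_smul]
  · intro h
    obtain ⟨w, hw⟩ := mem_TwoL.1 h
    have hw' : w ∈ Lm := fun p hp => by
      have := congrFun (congrArg Subtype.val hw) p
      simp only [AddSubgroup.coe_sub, AddSubgroup.coe_add, Pi.sub_apply, Pi.add_apply, hx p hp,
        hy p hp] at this
      omega
    funext j
    refine ((ZMod.intCast_eq_intCast_iff_dvd_sub _ _ 2).2 ?_).symm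
    rw [← co_sub hx hy, hw, co_add hw' hw']
    exact ⟨co w j, by push_cast; ring⟩

theorem φ_sv (a : ι → ℤ) : φ (sv a) = fun j => (a j : ZMod 2) := funext fun j => by rw [φ, co_sv]

theorem φ_surj (u : ι → ZMod 2) : ∃ x ∈ Lm, φ x = u :=
  ⟨sv fun j => (u j).val, sv_mem _, by rw [φ_sv]; funext j; simp⟩

theorem co_smul {g : Co0} (hg : g ∈ C1(ε)) {x : Λ} (hx : x ∈ Lm) (k : ι) :
    co (g • x) k = ∑ j, co (g • bb j) k * co x j := by
  conv_lhs => rw [← sv_co hx, sv, smul_sum]
  simp only [smul_zsmul]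
  rw [co_sum _ fun j => smul_mem_Lm hg (bb_mem j)]
  exact sum_congr rfl fun _ _ => mul_comm _ _

/-- the matrix modulo two -/
noncomputable def ρ0 : C1(ε) →* Matrix ι ι (ZMod 2) where
  toFun g := Matrix.of fun k j => φ (g.1 • bb j) k
  map_one' := by
    ext k j
    simp only [Matrix.of_apply, Subgroup.coe_one, one_smul, φ, co_bb, Matrix.one_apply]
    split_ifs <;> simp
  map_mul' g h := by
    ext k j
    simp only [Matrix.of_apply, Subgroup.coe_mul, mul_smul, φ, Matrix.mul_apply]
    rw [co_smul g.2 (smul_mem_Lm h.2 (bb_mem j))]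
    push_cast; rfl

theorem ρ0_φ (g : C1(ε)) {x : Λ} (hx : x ∈ Lm) : ρ0 g *ᵥ φ x = φ (g.1 • x) := by
  funext k
  rw [φ, co_smul g.2 hx]
  push_cast; rfl

abbrev OO : Subgroup (GL ι (ZMod 2)) := isometryGroup (ZMod 2) (quadFormPlus 4 (ZMod 2))

/-- the orthogonal representation -/
noncomputable def ρ : C1(ε) →* OO := ρ0.toHomUnits.codRestrict _ fun g u _ => by
  obtain ⟨x, hx, rfl⟩ := φ_surj u
  show quadFormPlus 4 (ZMod 2) (ρ0 g *ᵥ φ x) = quadFormPlus 4 (ZMod 2) (φ x)
  rw [ρ0_φ g hx, q_φ hx, q_φ (smul_mem_Lm g.2 hx), sqNorm_smul]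

theorem ρ_eq_one {g : C1(ε)} : ρ g = 1 ↔ ∀ x ∈ Lm, E2 (g.1 • x) x := by
  constructor
  · intro h x hx
    have h1 : ρ0 g = 1 := congrArg (fun a : OO => (a.1 : Matrix ι ι (ZMod 2))) h
    rw [← φ_eq_iff (smul_mem_Lm g.2 hx) hx, ← ρ0_φ g hx, h1, Matrix.one_mulVec]
  · intro h
    refine Subtype.ext (Units.ext ?_)
    show ρ0 g = 1
    rw [← map_one ρ0]
    ext k j
    exact congrFun (((φ_eq_iff (smul_mem_Lm g.2 (bb_mem j)) (bb_mem j)).2 (h _ (bb_mem j))).trans
      (congrArg φ (one_smul Co0 (bb j)).symm)) k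

theorem fr_mem {p : GolayPt} (hp : p ∈ o0) : fr p ∈ Lm := fun q hq => by
  rw [fr_apply, if_neg fun e : q = p => hq (e ▸ hp)]

theorem l4_mem {p q : GolayPt} (hp : p ∈ o0) (hq : q ∈ o0) (s : ℤ) (hs : s % 8 = 4) :
    l4 p q s hs ∈ Lm := fun r hr => by
  rw [l4_apply, if_neg fun e : r = p => hr (e ▸ hp), if_neg fun e : r = q => hr (e ▸ hq)]; rfl

theorem K_fix {g : Co0} (hg : g ∈ K) {x : Λ} (hx : x ∈ Lm) : g • x = x := by
  have h : g • (8 : ℤ) • x = (8 : ℤ) • x := by
    rw [eight_smul_eq, smul_sum]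
    refine sum_congr rfl fun p _ => ?_
    rw [smul_zsmul]
    by_cases hp : p ∈ o0
    · rw [hg p hp]
    · rw [hx p hp, zero_smul, zero_smul]
  rw [smul_zsmul] at h
  exact Subtype.ext (smul_right_injective V (by norm_num : (8 : ℤ) ≠ 0) (congrArg Subtype.val h))

theorem dot_l4 {p q r : GolayPt} (h1 : p ≠ q) (h2 : p ≠ r) (h3 : q ≠ r) (s t : ℤ) (hs ht) :
    dotInt (l4 p q s hs).1 (l4 p r t ht).1 = 16 := by
  have : ∀ i, (l4 p q s hs).1 i * (l4 p r t ht).1 i = if i = p then 16 else 0 := fun i => by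
    rw [l4_apply, l4_apply]
    by_cases e1 : i = p
    · subst e1; simp [h1, h2]
    · by_cases e2 : i = q
      · subst e2; simp [e1, h3]
      · simp [e1, e2]
  simp [dotInt, this]

theorem mem_K_of {g : Co0} (h : ∀ x ∈ Lm, sqNorm x.1 = 32 → g • x = x ∨ g • x = -x)
    (h0 : g • l4 none (some 0) 4 rfl = l4 none (some 0) 4 rfl) : g ∈ K := by
  have step : ∀ x y : Λ, g • x = x → y ∈ Lm → sqNorm y.1 = 32 → dotInt x.1 y.1 = 16 → g • y = y := by
    intro x y hx hy hn hd
    refine (h y hy hn).resolve_right fun e => ?_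
    have := dot_smul g x y
    rw [hx, e, AddSubgroup.coe_neg, dot_neg] at this
    omega
  have m0 : (some 0 : GolayPt) ∈ o0 := by decide +kernel
  have m1 : (some 1 : GolayPt) ∈ o0 := by decide +kernel
  have h1 : ∀ r ∈ o0, none ≠ r → some 0 ≠ r → ∀ s (hs : s % 8 = 4), s ^ 2 = 16 →
      g • l4 none r s hs = l4 none r s hs := fun r hr n1 n2 s hs h2 =>
    step _ _ h0 (l4_mem none_mem hr s hs) (norm_l4 n1 hs h2) (dot_l4 (by decide) n1 n2 _ _ _ _)
  have a1 := h1 _ m1 (by decide) (by decide) 4 rfl (by norm_num)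
  have a2 := h1 _ m1 (by decide) (by decide) (-4) rfl (by norm_num)
  have a3 : g • l4 none (some 0) (-4) rfl = l4 none (some 0) (-4) rfl :=
    step _ _ a1 (l4_mem none_mem m0 _ _) (norm_l4 (by decide) _ (by norm_num))
      (dot_l4 (by decide) (by decide) (by decide) _ _ _ _)
  intro p hp
  by_cases e1 : none = p
  · rw [← e1, fr_eq_add none (some 1), smul_add, a1, a2]
  by_cases e2 : some 0 = p
  · rw [← e2, fr_eq_sub none (some 0), smul_sub, h0, a3]
  · rw [fr_eq_sub none p, smul_sub, h1 p hp e1 e2 4 rfl (by norm_num),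
      h1 p hp e1 e2 (-4) rfl (by norm_num)]

theorem ker_ρ {g : C1(ε)} : ρ g = 1 ↔ g.1 ∈ K ∨ g.1 * negOne ∈ K := by
  rw [ρ_eq_one]
  constructor
  · intro h
    have h1 : ∀ x ∈ Lm, sqNorm x.1 = 32 → g.1 • x = x ∨ g.1 • x = -x := fun x hx hn =>
      (h x hx).eq_or (by rw [sqNorm_smul]; omega) (by omega)
    have m0 : (some 0 : GolayPt) ∈ o0 := by decide +kernel
    rcases h1 _ (l4_mem none_mem m0 4 rfl) (norm_l4 (by decide) _ (by norm_num)) with e | e
    · exact Or.inl (mem_K_of h1 e)
    · refine Or.inr (mem_K_of (fun x hx hn => ?_) ?_)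
      · rw [mul_smul, negOne_smul, smul_neg]
        exact (h1 x hx hn).symm.imp (fun e => by rw [e, neg_neg]) fun e => by rw [e]
      · rw [mul_smul, negOne_smul, smul_neg, e, neg_neg]
  · rintro (h | h) x hx
    · exact E2.of_eq (K_fix h hx)
    · have := K_fix h hx
      rw [mul_smul, negOne_smul, smul_neg] at this
      rw [neg_eq_iff_eq_neg.1 this]
      exact E2.neg x

/-- the lift table -/
noncomputable def lf (n : ℕ) (j : ι) : ℤ :=
  Int.subNatNat (Nat.mod (Nat.shiftRight lN (32 * n + 4 * ix j)) 16) 8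

set_option synthInstance.maxSize 2000 in
set_option synthInstance.maxHeartbeats 200000 in
theorem lift (v : ι → ZMod 2) (h0 : v ≠ 0) (hq : quadFormPlus 4 (ZMod 2) v = 0) :
    ∃ x ∈ Lm, sqNorm x.1 = 64 ∧ φ x = v := by
  have key : ∀ a b c d e f g h : ZMod 2, a * e + b * f + c * g + d * h = 0 →
      (a = 0 ∧ b = 0 ∧ c = 0 ∧ d = 0 ∧ e = 0 ∧ f = 0 ∧ g = 0 ∧ h = 0) ∨
      ((∑ j, ∑ k, UU j k * lf (a.val + 2 * b.val + 4 * c.val + 8 * d.val + 16 * e.val + 32 * f.val +
        64 * g.val + 128 * h.val) j * lf (a.val + 2 * b.val + 4 * c.val + 8 * d.val + 16 * e.val +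
        32 * f.val + 64 * g.val + 128 * h.val) k) = 2 ∧
      ∀ j, ((lf (a.val + 2 * b.val + 4 * c.val + 8 * d.val + 16 * e.val + 32 * f.val +
        64 * g.val + 128 * h.val) j : ℤ) : ZMod 2) = Sum.elim ![a, b, c, d] ![e, f, g, h] j) := by
    decide +kernel
  have hv : v = Sum.elim ![v (.inl 0), v (.inl 1), v (.inl 2), v (.inl 3)]
      ![v (.inr 0), v (.inr 1), v (.inr 2), v (.inr 3)] := by
    funext j
    rcases j with j | j <;> fin_cases j <;> rfl
  rcases key (v (.inl 0)) (v (.inl 1)) (v (.inl 2)) (v (.inl 3)) (v (.inr 0)) (v (.inr 1))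
    (v (.inr 2)) (v (.inr 3)) (by rw [← hq, quadFormPlus, Fin.sum_univ_four]) with h | ⟨h1, h2⟩
  · refine absurd ?_ h0
    rw [hv]
    obtain ⟨a, b, c, d, e, f, g, h⟩ := h
    rw [a, b, c, d, e, f, g, h]
    funext j
    rcases j with j | j <;> fin_cases j <;> rfl
  · exact ⟨sv _, sv_mem _, by rw [norm_sv, h1]; rfl, by rw [φ_sv, hv]; exact funext h2⟩

/-- the action on the quadratic space -/
@[reducible] noncomputable def actV : MulAction C1(ε) (ι → ZMod 2) where
  smul g v := ρ0 g *ᵥ v
  one_smul v := by show ρ0 1 *ᵥ v = v; rw [map_one, Matrix.one_mulVec]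
  mul_smul g h v := by
    show ρ0 (g * h) *ᵥ v = ρ0 g *ᵥ ρ0 h *ᵥ v
    rw [map_mul, Matrix.mulVec_mulVec]

theorem trans64 {x : Λ} (hx : x ∈ Lm) (hn : sqNorm x.1 = 64) :
    ∃ g ∈ C1(ε), E2 (g • x) (fr none) := by
  obtain ⟨g, hg⟩ := shell_trans (u := x) (v := fr none) (by rw [hn, norm_fr]) hn.le
  obtain ⟨c, hc, e⟩ := conj_sgn (g := g) (p := none) (by
    rw [← hg, mul_smul, mul_smul, inv_smul_smul, mem_Lm_iff.1 hx, smul_neg])
  obtain ⟨m, hm⟩ := octad_trans hc o0_mem
  refine ⟨permH m * g, Subgroup.mem_centralizer_singleton_iff.2 ?_, ?_⟩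
  · rw [← mul_inv_eq_iff_eq_mul, show permH m * g * ε * (permH m * g)⁻¹ =
      permH m * (g * ε * g⁻¹) * (permH m)⁻¹ by group, e, ← sgn_smul]
    exact sgn_congr _ _ hm
  · rw [mul_smul, hg]
    exact (mem_Mon_iff_E2 none).1 (permH_mem m)

theorem card_C : Nat.card C1(ε) = 4096 * 322560 * 135 := by
  letI := actV
  have h1 := card_stabilizer_mul (G := C1(ε)) (φ (fr none))
  have hsm : ∀ (g : C1(ε)) (x : Λ), x ∈ Lm → g • φ x = φ (g.1 • x) := fun g x hx => ρ0_φ g hx
  have hf := fr_mem none_mem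
  have h2 : stabilizer C1(ε) (φ (fr none)) = Mon.subgroupOf C1(ε) := by
    ext g
    rw [mem_stabilizer_iff, hsm g _ hf, φ_eq_iff (smul_mem_Lm g.2 hf) hf, Subgroup.mem_subgroupOf,
      mem_Mon_iff_E2 none]
  have h3 : orbit C1(ε) (φ (fr none)) = {v | quadFormPlus 4 (ZMod 2) v = 0} \ {0} := by
    ext v
    constructor
    · rintro ⟨g, rfl⟩
      have hn : sqNorm (g.1 • fr none : Λ).1 = 64 := by rw [sqNorm_smul, norm_fr]
      refine ⟨?_, fun e => ?_⟩
      · show quadFormPlus 4 (ZMod 2) (g • φ (fr none)) = 0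
        rw [hsm g _ hf, q_φ (smul_mem_Lm g.2 hf), hn]; rfl
      · have e' : φ (g.1 • fr none) = φ 0 := by
          rw [← hsm g _ hf]
          refine Eq.trans e (funext fun j => ?_)
          simp [φ, co, dotInt]
        exact not_mem_TwoL hn.le (by rw [hn]; norm_num)
          (E2.zero_iff.1 ((φ_eq_iff (smul_mem_Lm g.2 hf) Lm.zero_mem).1 e'))
    · rintro ⟨hq, h0⟩
      obtain ⟨x, hx, hn, rfl⟩ := lift v h0 hq
      obtain ⟨g, hg, e⟩ := trans64 hx hn
      refine ⟨(⟨g, hg⟩ : C1(ε))⁻¹, ?_⟩
      show (⟨g, hg⟩ : C1(ε))⁻¹ • φ (fr none) = φ x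
      rw [inv_smul_eq_iff, hsm _ _ hx]
      exact ((φ_eq_iff (smul_mem_Lm hg hx) hf).2 e).symm
  have h4 : ({v | quadFormPlus 4 (ZMod 2) v = 0} \ {0} : Set (ι → ZMod 2)).ncard = 135 := by
    have := Cfsg.Agent.S0289.result (F := ZMod 2) (q := 2) (by simp) 4 (by norm_num)
    rw [Set.ncard_sdiff_singleton_of_mem (by simp [quadFormPlus]), ← Nat.card_coe_set_eq]
    exact (congrArg (· - 1) this).trans (by norm_num)
  rw [h2, h3, h4, card_CM] at h1
  exact h1.symm

theorem negOne_mem_C : negOne ∈ C1(ε) := Subgroup.mem_centralizer_singleton_iff.2 (negOne_comm ε)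

theorem card_ker : Nat.card ρ.ker = 1024 := by
  have hK : K.subgroupOf C1(ε) ≤ ρ.ker := fun g hg => ker_ρ.2 (Or.inl hg)
  have h1 : ((K.subgroupOf C1(ε)).subgroupOf ρ.ker).index = 2 := by
    refine Subgroup.index_eq_two_iff.2 ⟨⟨⟨negOne, negOne_mem_C⟩, ker_ρ.2 (Or.inr ?_)⟩, fun b => ?_⟩
    · rw [negOne_sq]; exact K.one_mem
    · show Xor (b.1.1 * negOne ∈ K) (b.1.1 ∈ K)
      have h2 : ¬ (b.1.1 * negOne ∈ K ∧ b.1.1 ∈ K) := fun h =>
        negOne_not_mem ((K.mul_mem_cancel_left h.2).1 h.1)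
      rcases ker_ρ.1 b.2 with h | h
      · exact Or.inr ⟨h, fun h' => h2 ⟨h', h⟩⟩
      · exact Or.inl ⟨h, fun h' => h2 ⟨h, h'⟩⟩
  have h3 := ((K.subgroupOf C1(ε)).subgroupOf ρ.ker).card_mul_index
  rw [h1, Nat.card_congr (Subgroup.subgroupOfEquivOfLe hK).toEquiv,
    Nat.card_congr (Subgroup.subgroupOfEquivOfLe K_le_C).toEquiv, card_K] at h3
  exact h3.symm

theorem card_range : Nat.card ρ.range = 174182400 := by
  have h := ρ.ker.card_mul_index
  rw [card_ker, card_C, Subgroup.index_ker] at h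
  omega

abbrev Om : Subgroup OO := Omega (ZMod 2) (quadFormPlus 4 (ZMod 2))

theorem card_OO : Nat.card OO = 348364800 :=
  (Cfsg.Agent.S0287.result (F := ZMod 2) (q := 2) (by simp) 4 (by norm_num)).trans (by decide)

theorem card_PO : Nat.card (POmega (ZMod 2) (quadFormPlus 4 (ZMod 2))) = 174182400 := by
  have := Cfsg.Agent.S0293.result (F := ZMod 2) (q := 2) (by simp) 4 (by norm_num)
  rw [show Nat.gcd 4 (2 ^ 4 - 1) = 1 by decide, one_mul] at this
  exact this.trans (by decide)

theorem Om_le : Om ≤ ρ.range := by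
  have h := ρ.range.card_mul_index
  rw [card_range, card_OO] at h
  have h2 : ρ.range.index = 2 := by omega
  haveI := Subgroup.normal_of_index_eq_two h2
  refine Subgroup.Normal.quotient_commutative_iff_commutator_le.1 ?_
  haveI : IsCyclic (OO ⧸ ρ.range) := isCyclic_of_prime_card (p := 2) h2
  infer_instance

theorem card_Om : Nat.card Om = 174182400 ∧ Subgroup.center Om = ⊥ := by
  have h1 := (Subgroup.center Om).card_mul_index
  rw [Subgroup.index, card_PO] at h1
  have h2 := Subgroup.card_le_of_le Om_le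
  rw [card_range] at h2
  have h3 : 0 < Nat.card (Subgroup.center Om) := Nat.card_pos
  generalize Nat.card Om = a at h1 h2
  rw [← Subgroup.card_eq_one]
  generalize Nat.card (Subgroup.center Om) = b at h1 h3
  omega

theorem range_ρ : ρ.range = Om :=
  (eq_of_le_of_card (by norm_num) Om_le card_Om.1 card_range).symm

theorem simple_Om : IsSimpleGroup Om := by
  haveI := Cfsg.Agent.S0296.result (F := ZMod 2) 4 le_rfl
  exact ((QuotientGroup.quotientMulEquivOfEq card_Om.2).trans
    QuotientGroup.quotientBot).symm.isSimpleGroup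

end Cz
end H28
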