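import Cfsg.Agent.H28.FT

/-! Fischer's theorem: identification of the groups. -/

namespace H28
open Cfsg Subgroup H11 H11.PForm Module Equiv Matrix

variable {G X : Type*} [Group G] [Group X] {D E S : Set G} {E' : Set X} {β : G → X} {x y z d a : G}

theorem TF.par {P M : Set G → Prop} {v a : ℕ} (h : TF P M v (a + 1) E) : Par E := fun x hx =>
  Set.nonempty_of_ncard_ne_zero (s := An E x) (by rw [h.an x hx]; omega)

theorem TF.pair {P M : Set G → Prop} {v a : ℕ} (h : TF P M (v + 1) (a + 1) E) : ∃ d ∈ E, ∃ c, c ∈ An E d :=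
  (Set.nonempty_of_ncard_ne_zero (by rw [h.card]; omega)).elim fun d hd => ⟨d, hd, h.par d hd⟩

theorem MU.par (h : MU 6 E) : Par E := fun _ hx => Set.nonempty_of_ncard_ne_zero (s := An E _) (by rw [h.an hx]; omega)

theorem nb_inter (hc : a ∈ An D d) : nb D d ∩ nb D a = Sp D d a := Set.ext fun _ =>
  ⟨fun h => ⟨h.1.1, h.1.2.2, h.2.2.2⟩, fun h => ⟨⟨h.1, fun e => hc.2 (e ▸ h.2.2.symm), h.2.1⟩, h.1,
    fun e => hc.2 (e ▸ h.2.1), h.2.2⟩⟩

/-- the negative of the sum of squares -/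
def Qs (n : ℕ) : QuadraticForm (ZMod 3) (Fin n → ZMod 3) := (std3 n).toQuad

theorem Qs_polar {n : ℕ} (x y : Fin n → ZMod 3) : QuadraticMap.polar (Qs n) x y = x ⬝ᵥ y := toQuad_polar _ x y

theorem MO.proj {n : ℕ} (h : MO n E) (h4 : 4 ≤ n) :
    IsProjReflectionGroupModThree (closure E ⧸ center (closure E)) n 1 (-1) := by
  obtain ⟨τ, m⟩ := h
  have hp := m.o3_par (by simpa)
  obtain ⟨_, f⟩ := fi_qs m.T3 hp
  obtain ⟨e, -⟩ := (f.md m).fin_o3' (Qs n) (c := -1) (by decide) (f.par hp) (qs_gen E) (qs_center m.T3 hp)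
    ⟨LinearEquiv.refl _ _, o3_isom fun x y => by rw [scale_h, neg_neg, one_mul]; exact (Qs_polar x y).symm⟩
  have nd : ∀ x, (∀ y, (Qs n).polarBilin x y = 0) → x = 0 := fun x hx =>
    std3_nd n x fun y => (Qs_polar x y).symm.trans (hx y)
  refine ⟨Qs n, ⟨nd, fun x hx => nd x fun y => ?_⟩, ?_, ⟨e⟩⟩
  · rw [QuadraticMap.polarBilin_apply_apply, QuadraticMap.polar_comm]; exact hx y
  · rw [polarGramDet, ← det_one (n := Fin n)]
    congr 1
    ext i j
    simp [Qs_polar, one_apply, Pi.single_apply, eq_comm]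

theorem T22.type (h : T22 D) (hZ : center G = ⊥) : IsOfTypeM22 G D := by
  obtain ⟨d, hd, c, hc⟩ := h.pair
  obtain ⟨τ, m⟩ := h.loc d hd
  have hp := (h.loc d hd).par
  obtain ⟨_, f⟩ := fi_qs m.T3 hp
  obtain ⟨e, -⟩ := (f.md m).fin_u (f.par hp) (qs_gen _) (qs_center m.T3 hp) (n := 6) (by simp) (by decide) (by decide)
  exact ⟨hZ, d, hd, c, hc.1, hc.2, ⟨K4, inferInstance, inferInstance, K4.card, ⟨e⟩⟩, -1, by decide,
    MO.proj (E := nb D d ∩ nb D c) (nb_inter hc ▸ h.mu d hd c hc) (by decide)⟩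

theorem T23.type (h : T23 D) (hZ : center G = ⊥) : IsOfTypeM23 G D := by
  obtain ⟨d, hd, c, hc⟩ := h.pair
  have m := h.loc d hd
  obtain ⟨_, f⟩ := fi_qs m.t3 m.par
  exact ⟨hZ, d, hd, c, hc.1, hc.2, (f.t22 m).type (qs_center m.t3 m.par), -1, by decide,
    MO.proj (E := nb D d ∩ nb D c) (nb_inter hc ▸ h.mu d hd c hc) (by decide)⟩

variable [Finite G]

theorem PC.comm_quot (hD : PC D) :
    Nonempty (commutator G ⧸ center (commutator G) ≃* commutator (G ⧸ center G)) := by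
  let φ := (QuotientGroup.mk' (center G)).comp (commutator G).subtype
  have k : φ.ker = center _ := by
    ext g
    rw [MonoidHom.mem_ker, mem_center_iff]
    refine (QuotientGroup.eq_one_iff g.1).trans ⟨fun h y => Subtype.ext (mem_center_iff.1 h y.1), fun h =>
      hD.cent_gfit hD.o2 hD.o3 fun y hy => congrArg Subtype.val (h ⟨y, hD.layer_eq ▸ hy⟩)⟩
  have r : φ.range = commutator _ := by
    rw [MonoidHom.range_comp, range_subtype, map_commutator_eq,
      MonoidHom.range_eq_top.2 (QuotientGroup.mk'_surjective _)]; rfl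
  exact ⟨((QuotientGroup.quotientMulEquivOfEq k.symm).trans (QuotientGroup.quotientKerEquivRange φ)).trans
    (MulEquiv.subgroupCongr r)⟩

section
variable {V : Type*} [AddCommGroup V] [Module (ZMod 3) V] [FiniteDimensional (ZMod 3) V] {T : PForm O3P V} {τ : V → G}

theorem Md.o3_ins (m : Md T τ E) (h5 : 5 ≤ finrank (ZMod 3) V) : PC (ins E) :=
  (fi_ins m.T3).symm.elim fun _ f => (f.1.md m).o3_pc h5 (closure_ins E)

omit [Finite G] in
theorem fin_isom (T : PForm O3P V) : Finite T.Isom :=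
  have : Finite V := Module.finite_of_finite (ZMod 3)
  Finite.of_injective (fun g : T.Isom => (g.1 : V → V)) fun _ _ h => isom_ext (congrFun h)

theorem Md.omega (m : Md T τ E) (h5 : 5 ≤ finrank (ZMod 3) V) : Nonempty (commutator (closure E) ⧸
    center (commutator (closure E)) ≃* commutator T.Isom ⧸ center (commutator T.Isom)) := by
  have := fin_isom T
  have m' := md_rho sf3 m.nd
  have cj : ∀ g : T.Isom, ∀ r ∈ rho T '' {v | NV T v}, g * r * g⁻¹ ∈ rho T '' {v | NV T v} := by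
    rintro g _ ⟨v, hv, rfl⟩
    exact ⟨_, NV.isom hv g, (conj_rho g v).symm⟩
  generalize rho T '' {v | NV T v} = R at m' cj
  have p := m.o3_par (by omega)
  have p' := m'.o3_par (by omega)
  obtain ⟨_, f⟩ := fi_qs m.T3 p
  obtain ⟨_, f'⟩ := fi_qs m'.T3 p'
  obtain ⟨e, -⟩ := (f.md m).equiv (f'.md m') (qs_gen _) (qs_gen _) (qs_center m.T3 p) (qs_center m'.T3 p')
  obtain ⟨e1⟩ := (m.o3_ins h5).comm_quot
  obtain ⟨e2⟩ := (m'.o3_ins h5).comm_quot
  have nm : (closure R).Normal := ⟨fun x hx g => by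
    exact (closure_le ((closure R).comap (MulAut.conj g).toMonoidHom)).2 (fun r hr => subset_closure (cj g r hr)) hx⟩
  have k : (commutator (closure R)).map (closure R).subtype = commutator T.Isom := by
    have q := (H17.qs_map_injective_iff (subtype_injective _)).2 ((m'.o3_ins h5).layer_eq ▸ (m'.o3_ins h5).qs)
    rw [map_subtype_commutator] at q ⊢
    have le : ⁅closure R, closure R⁆ ≤ commutator T.Isom := commutator_mono le_top le_top
    exact (H17.qs_normal ⟨⟨m.nd.orth_omega_perfect h5⟩, m.nd.orth_isSimple h5⟩ le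
      (by rw [normalizer_eq_top]; exact le_top)).resolve_right fun h =>
        H17.qs_commutator_ne_bot q (eq_bot_iff.2 (h ▸ commutator_mono le_rfl le))
  exact ⟨((e1.trans (commutatorCongr e)).trans e2.symm).trans (centerQuotCongr
    ((equivMapOfInjective _ _ (subtype_injective _)).trans (MulEquiv.subgroupCongr k)))⟩

theorem Md.sign (m : Md T τ D) (h4 : 4 ≤ finrank (ZMod 3) V) (he : Even (finrank (ZMod 3) V)) (g1 : closure D = ⊤)
    (z1 : center G = ⊥) : ∃ φ : G →* ℤˣ, ∃ x, φ x ≠ 1 := by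
  have m' := md_rho sf3 m.nd
  obtain ⟨τ', m'', t⟩ := m'.comap (Subgroup.closure _).subtype (subtype_injective _) (by rw [range_subtype]; exact subset_closure)
  obtain ⟨e, -⟩ := m.equiv_quot m'' (m.o3_par h4) g1 (closure_ins _) z1
  obtain ⟨u, -, hu, -⟩ := o3_two m.nd (by omega)
  refine ⟨(QuotientGroup.lift (center _) (m.nd.dick.comp (Subgroup.subtype _)) fun z hz => ?_).comp e.toMonoidHom,
    e.symm (τ' u), ?_⟩
  · have k : ∀ v, NV T v → ∃ c : ZMod 3, z.1.1 v = c • v := fun v hv => (m'.inj _ _ hv (hv.isom z)).1 (by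
      rw [← conj_rho, eq_mul_inv_iff_mul_eq]
      exact congrArg Subtype.val (mem_center_iff.1 hz ⟨_, subset_closure ⟨v, hv, rfl⟩⟩))
    obtain ⟨c, hc⟩ := k u hu
    have c0 : c ≠ 0 := by rintro rfl; exact hu.1 (by simpa using hc)
    have a := m.o3_ncCon h4 _ (m.mem u hu) (fun x => ∀ v, NV T v → τ v = x → z.1.1 v = c • v) (fun v hv e => by
      rcases (m.eq3 hv hu).1 e with rfl | rfl
      exacts [hc, by simpa using hc]) fun x y hx _ h n w hw e => by
        obtain ⟨v, hv, rfl⟩ := m.surj x hx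
        obtain ⟨b, hb⟩ := k w hw
        have := z.1.2.h_eq v w
        erw [h v hv rfl, hb] at this
        rw [h_smul_left, h_smul_right, ← mul_assoc, mul_eq_right₀ fun o => n (e ▸ m.comm_of hv hw o)] at this
        rw [hb, ← mul_left_cancel₀ c0 (this.trans (z3_sq c0).symm)]
    have b : ∀ x, z.1.1 x = c • x := fun x => by
      have : x ∈ Submodule.span (ZMod 3) {v | NV T v} := by rw [o3_span m.nd (by omega)]; trivial
      induction this using Submodule.span_induction with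
      | mem v hv => exact a _ (m.mem v hv) v hv rfl
      | zero => simp
      | add x y _ _ h1 h2 => rw [map_add, h1, h2, smul_add]
      | smul r x _ h => rw [map_smul, h, smul_comm]
    show m.nd.dick z = 1
    rcases z3_cases c0 with rfl | rfl
    · rw [show z.1 = 1 from isom_ext fun x => by simp [b], map_one]
    · rw [show z.1 = T.negOne from isom_ext fun x => by simp [b], m.nd.dick_negOne (by decide), he.neg_one_pow]
  · have := t u hu
    simp only [MulEquiv.toMonoidHom_eq_coe, MonoidHom.comp_apply, MonoidHom.coe_coe, MulEquiv.apply_symm_apply,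
      QuotientGroup.lift_mk, this]
    rw [rho, ← nv_orth.1 hu, ← PForm.refl, m.nd.dick_refl (by rw [nv_orth.1 hu]; decide)]
    decide
end

/-- two copies of the tetracode -/
def tc8 : Matrix (Fin 8) (Fin 4) (ZMod 3) :=
  !![1, 0, 0, 0; 0, 1, 0, 0; 1, 1, 0, 0; 1, -1, 0, 0; 0, 0, 1, 0; 0, 0, 0, 1; 0, 0, 1, 1; 0, 0, 1, -1]

theorem std8_plus : Eqv (std3 8) (sPlus 4 (ZMod 3)) := by
  have k : ∀ c : Fin 4 → ZMod 3, -(tc8 *ᵥ c ⬝ᵥ tc8 *ᵥ c) = 0 ∧ (tc8 *ᵥ c = 0 → c = 0) := by decide +kernel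
  refine (std3_nd 8).eqv_sPlus (by simp) ⟨LinearMap.range tc8.mulVecLin, orth_ts_iff.2 ?_, ?_⟩
  · rintro _ ⟨c, rfl⟩
    exact (k c).1
  · rw [LinearMap.finrank_range_of_inj ((injective_iff_map_eq_zero _).2 fun c => (k c).2)]; simp

theorem TC.cmp_layer (hD : TC D) (hG : Gd D) (hZ : center G = ⊥) (hd : d ∈ D) (h : PC (ins (cmp D d))) :
    Nonempty (layer G ≃* commutator (closure (cmp D d)) ⧸ center (commutator (closure (cmp D d)))) := by
  have q := hD.qs hG
  have le : layer G ≤ closure (cmp D d) := (hD.qs_le_prods q hd).trans ((closure_le _).2 (by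
    rintro _ ⟨_, ⟨g, hg, rfl⟩, _, ⟨k, hk, rfl⟩, rfl⟩
    exact mul_mem (subset_closure (hD.cn_layer hG hg hd)) (subset_closure (hD.cn_layer hG hk hd))))
  have e := (subgroupOfEquivOfLe le).symm.trans (MulEquiv.subgroupCongr ((h.layer_eq' h.gd.ne
    (H17.isQuasisimple_of_mulEquiv (subgroupOfEquivOfLe le).symm q)).symm.trans h.layer_eq))
  have z : center (layer G) = ⊥ := eq_bot_iff.2 fun y hy => Subtype.ext (mem_bot.1 (hZ ▸ hD.cent_gfit
    ((hD.vt_iff (two_of_w hG.w)).1 hG.vt) (hD.wt_iff.1 hG.wt) fun k hk =>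
      congrArg Subtype.val (mem_center_iff.1 hy ⟨k, hk⟩)))
  exact ⟨(QuotientGroup.quotientBot.symm.trans (QuotientGroup.quotientMulEquivOfEq z.symm)).trans (centerQuotCongr e)⟩

theorem s3_of_three (hD : TC D) (h : W1 D) (h3 : D.ncard = 3) : Nonempty (G ≃* Perm (Fin 3)) := by
  obtain ⟨a, b, c, h1, h2, h3', rfl⟩ := Set.ncard_eq_three.1 h3
  have ha : a ∈ ({a, b, c} : Set G) := by simp
  have hb : b ∈ ({a, b, c} : Set G) := by simp
  have n : ¬ Commute a b := fun k => h1 (h a ha b hb k)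
  obtain ⟨e⟩ := closure_pair_S3 (t3_sq hD.t3 ha) (t3_sq hD.t3 hb) (t3_braid hD.t3 ha hb n) h1
  have : closure ({a, b} : Set G) = ⊤ := eq_top_iff.2 (hD.gen ▸ (closure_le _).2 (by
    have m : a * b * a ∈ closure ({a, b} : Set G) :=
      mul_mem (mul_mem (subset_closure (by simp)) (subset_closure (by simp))) (subset_closure (by simp))
    rintro x (rfl | rfl | rfl)
    · exact subset_closure (by simp)
    · exact subset_closure (by simp)
    rcases hD.cl ha hb with k | k | k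
    · exact absurd (mul_left_cancel ((mul_right_cancel (k.trans (one_mul a).symm)).trans (t3_sq hD.t3 ha).symm)) h1.symm
    · exact absurd ((comm_iff_conj (t3_sq hD.t3 ha)).2 k) n
    · exact k ▸ m))
  exact ⟨(topEquiv.symm.trans (MulEquiv.subgroupCongr this.symm)).trans e⟩

theorem M8.struct (h : M8 D) (g1 : closure D = ⊤) (hZ : center G = ⊥) :
    Nonempty (layer G ≃* POmega (ZMod 3) (quadFormPlus 4 (ZMod 3))) ∧ Nonempty (G ⧸ layer G ≃* Perm (Fin 3)) := by
  have hD := h.t3.tc g1 h.gd.con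
  obtain ⟨p, hp⟩ := h.gd.ne
  have m := (LO.cmp ⟨h.t3, by decide, fun x hx => (h.loc x hx).mo3⟩ hp).mo (cn_cmp hp) (Cn.refl p)
    (nb_cmp hp (Cn.refl p) ▸ h.loc p hp)
  have c := hD.ncard_cmp h.gd hp
  rw [h.card, m.eight] at c
  obtain ⟨τ, m⟩ := m
  obtain ⟨e1⟩ := hD.cmp_layer h.gd hZ hp (m.o3_ins (by simp))
  obtain ⟨e2⟩ := m.omega (by simp)
  obtain ⟨e3⟩ := std8_plus.nonempty_mulEquiv
  obtain ⟨t, w⟩ := hD.w1_quot h.gd h.not_cn
  exact ⟨⟨((e1.trans e2).trans (centerQuotCongr (commutatorCongr e3))).trans (pomegaEquiv (qPlus 4 _)).symm⟩,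
    s3_of_three t w (by omega)⟩

theorem T24.type (h : T24 D) (hZ : center G = ⊥) : IsOfTypeM24 G D := by
  obtain ⟨d, hd, c, hc⟩ := h.pair
  have m := h.loc d hd
  obtain ⟨_, f⟩ := fi_qs m.t3 m.par
  have k : M8 (nb D d ∩ nb D c) := nb_inter hc ▸ h.mu d hd c hc
  obtain ⟨_, f'⟩ := fi_qs k.t3 k.gd.par
  exact ⟨hZ, d, hd, c, hc.1, hc.2, (f.t23 m).type (qs_center m.t3 m.par), _, H17.layer_normal,
    (f'.m8 k).struct (qs_gen _) (qs_center k.t3 k.gd.par)⟩

theorem PC.syC (hD : PC D) (hd : d ∈ D) (h2 : VT (nb D d)) (h3 : WT (nb D d)) (hS : SY D) :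
    (∃ n, 7 ≤ n ∧ ∃ e : G ≃* Perm (Fin n), e '' D = {s | s.IsSwap}) ∨ MO2 D := by
  by_cases h4 : D4 D
  · exact Or.inr (hD.mo2 hS (fun x hx => (hD.fi_nb hd hx).elim fun _ f => f.vt h2) h4)
  obtain ⟨n, e, h⟩ := sn_of_noD4 hD.toTC hD.two hS h4
  have l := hD.loc_pc hd h2 h3
  obtain ⟨c, hc, -⟩ := l.w
  obtain ⟨b, hb, x, hx, k⟩ := l.ltwo hc
  exact Or.inl ⟨n, sn_seven e h hd hc (mem_nb_ins.1 hb) (mem_nb_ins.1 hx) (mt Subtype.ext k.symm), e, h⟩

end H28
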