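import Cfsg.Agent.H28.Fis3
import Cfsg.Agent.H28.FG
import Cfsg.Agent.H15.Three

/-! The transpositions of `Spor.Fi24` (`D24`) form a class of 3-transpositions of type M(24); counting points of the
classical Fischer spaces; existence of the three sporadic types. -/

namespace H28
open Cfsg H15 Subgroup H11 H11.PForm Module

variable {G : Type*} [Group G] {D E : Set G} {d : G}

theorem t3_of_rank {a b u v : G} (hd : orderOf d = 2) (h : ∀ x ∈ conjugatesOf d, x = d ∨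
    (∃ k, Commute k d ∧ x = k * u * k⁻¹) ∨ ∃ k, Commute k d ∧ x = k * v * k⁻¹) (ha : IsConj d a) (hb : IsConj d b)
    (na : ¬ Commute a d) (a3 : (a * d) ^ 3 = 1) (nb : b ≠ d) (cb : Commute b d) :
    IsThreeTranspositionSet (conjugatesOf d) := by
  have o : ∀ x ∈ conjugatesOf d, orderOf x = 2 := fun x hx => by
    obtain ⟨g, rfl⟩ := isConj_iff.1 hx
    exact hd ▸ (MulAut.conj g).orderOf_eq d
  have cj : ∀ k x, Commute k d → k * x * k⁻¹ * d = k * (x * d) * k⁻¹ := fun k x c => by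
    rw [mul_assoc _ k⁻¹, c.inv_left.eq]; group
  have pw : ∀ k x (n : ℕ), Commute k d → ((k * x * k⁻¹ * d) ^ n = 1 ↔ (x * d) ^ n = 1) := fun k x n c => by
    rw [cj k x c, conj_pow, mul_inv_eq_one, mul_eq_left]
  have s : ∀ x ∈ conjugatesOf d, x * x = 1 := fun x hx => by rw [← sq, ← o x hx, pow_orderOf_eq_one]
  have b2 : (b * d) ^ 2 = 1 := by rw [cb.mul_pow, sq, sq, s b hb, s d (IsConj.refl d), one_mul]
  have a2 : (a * d) ^ 2 ≠ 1 := fun e => na (by
    rw [pow_succ, e, one_mul] at a3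
    rw [mul_left_cancel (a3.trans (s a ha).symm)])
  have uv : ((u * d) ^ 2 = 1 ∨ (u * d) ^ 3 = 1) ∧ ((v * d) ^ 2 = 1 ∨ (v * d) ^ 3 = 1) := by
    rcases h a ha with rfl | ⟨k, c, rfl⟩ | ⟨k, c, rfl⟩
    · exact absurd (Commute.refl _) na
    all_goals
      rw [pw _ _ _ c] at a3
      rw [Ne, pw _ _ _ c] at a2
      rcases h b hb with rfl | ⟨k, c, rfl⟩ | ⟨k, c, rfl⟩
      · exact absurd rfl nb
      all_goals rw [pw _ _ _ c] at b2; tauto
  have key : ∀ x ∈ conjugatesOf d, (x * d) ^ 2 = 1 ∨ (x * d) ^ 3 = 1 := fun x hx => by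
    rcases h x hx with rfl | ⟨k, c, rfl⟩ | ⟨k, c, rfl⟩
    · exact Or.inl (by rw [s x hx, one_pow])
    exacts [by rw [pw _ _ _ c, pw _ _ _ c]; exact uv.1, by rw [pw _ _ _ c, pw _ _ _ c]; exact uv.2]
  refine ⟨o, fun x hx y hy => ?_⟩
  obtain ⟨g, rfl⟩ := isConj_iff.1 hy
  have e : x * (g * d * g⁻¹) = g * (g⁻¹ * x * g⁻¹⁻¹ * d) * g⁻¹ := by group
  rw [e, conj_pow, conj_pow, mul_inv_eq_one, mul_inv_eq_one, mul_eq_left, mul_eq_left]
  exact key _ (hx.trans (isConj_iff.2 ⟨_, rfl⟩))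

/-- the transpositions of `Fi24` -/
def D24 : Set Spor.Fi24 := conjugatesOf (Fi24.gen 0)

theorem three24 : IsThreeTranspositionClass D24 := by
  have s := Fi24.gen_sq
  have r : ∀ x y : Spor.Fi24.Gen, (pof Spor.Fi24.edges Spor.Fi24.extra x * pof _ _ y) ^ Spor.coxLabel Spor.Fi24.edges x y = 1 :=
    fun x y => cox_rel (by cases x <;> decide) (by cases y <;> decide)
  have r1 : (Fi24.gen 1 * Fi24.gen 0) ^ 3 = 1 := r .k .l
  have r2 : (Fi24.gen 2 * Fi24.gen 1) ^ 3 = 1 := r .a .k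
  have r3 : (Fi24.gen 3 * Fi24.gen 2) ^ 3 = 1 := r .b .a
  have r4 : (Fi24.gen 3 * Fi24.gen 1) ^ 2 = 1 := r .b .k
  have cj : ∀ i j, (Fi24.gen j * Fi24.gen i) ^ 3 = 1 → IsConj (Fi24.gen i) (Fi24.gen j) := fun i j h =>
    isConj_iff.2 ⟨Fi24.gen i * Fi24.gen j, by
      rw [mul_inv_eq_iff_eq_mul, ← mul_assoc]; exact (braid_of_cube (s j) (s i) h).symm⟩
  have n0 : Fi24.gen 0 ≠ 1 := fun e => l_notMem24 (e ▸ one_mem _)
  have na : ¬ Commute (Fi24.gen 1) (Fi24.gen 0) := fun c => by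
    have h := Fi24.index_stab0
    rw [eq_top_iff.2 (Fi24.top0 ▸ Kl_le fun i hi => (List.mem_cons.1 hi).elim (fun e => e ▸ cent24.le
      (mem_centralizer_singleton_iff.2 rfl)) fun hi => (List.mem_cons.1 hi).elim (fun e => e ▸ cent24.le
        (mem_centralizer_singleton_iff.2 c)) fun hi => (Fi24.H_eq.symm.trans Fi24.stab).le
          (gen_mem_Kl _ (List.mem_cons_of_mem _ hi)) : ⊤ ≤ MulAction.stabilizer Spor.Fi24 (Fi24.M.dec 0)), index_top] at h
    exact absurd h (by decide)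
  refine three_class (t3_of_rank (u := H14.ev Fi24.M.gen Fi24P.si0.u * Fi24.gen 0 * (H14.ev Fi24.M.gen Fi24P.si0.u)⁻¹)
    (v := H14.ev Fi24.M.gen Fi24P.si1.u * Fi24.gen 0 * (H14.ev Fi24.M.gen Fi24P.si1.u)⁻¹)
    (orderOf_eq_prime ((sq _).trans (s 0)) n0) (fun x hx => ?_) (cj 0 1 r1)
    ((cj 0 1 r1).trans (cj 1 2 r2)) na r1 (fun e => na ?_) (Fi24.comm_l (x := 0) (by decide))) ?_
  · obtain ⟨g, rfl⟩ := isConj_iff.1 hx
    have k : ∀ s : SI, Orb Fi24.M (H14.sub Fi24.M.gen Fi24P.lv1.gens) (H14.ev Fi24.M.gen s.u • Fi24.M.dec 0) s.O →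
        g • Fi24.M.dec 0 ∈ Fi24.M.S s.O → ∃ k, Commute k (Fi24.gen 0) ∧ g * Fi24.gen 0 * g⁻¹ =
          k * (H14.ev Fi24.M.gen s.u * Fi24.gen 0 * (H14.ev Fi24.M.gen s.u)⁻¹) * k⁻¹ := fun s h1 h2 => by
      obtain ⟨k, hk, e⟩ := (h1 _).1 h2
      refine ⟨k, (stab24_comm (Fi24.stab1.ge hk).2).symm, ?_⟩
      have := stab24_comm (g := (k * H14.ev Fi24.M.gen s.u)⁻¹ * g) (by
        rw [MulAction.mem_stabilizer_iff, mul_smul, ← e, ← mul_smul k, inv_smul_smul])
      calc _ = k * H14.ev Fi24.M.gen s.u * (((k * H14.ev Fi24.M.gen s.u)⁻¹ * g) * Fi24.gen 0) * g⁻¹ := by group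
        _ = _ := by rw [← this.eq]; group
    rcases mem_cover Fi24.M (Fi24.M.mem_S_full Fi24P.cov (g • Fi24.M.dec 0)) with h | ⟨s, hs, h⟩
    · exact Or.inl (by rw [← (stab24_comm ((Fi24.M.mem_S_bit (by decide)).1 h)).eq, mul_inv_cancel_right])
    rcases List.mem_pair.1 hs with rfl | rfl
    exacts [Or.inr (Or.inl (k _ (orb_of_chk Fi24.M Fi24P.so0).1 h)), Or.inr (Or.inr (k _ (orb_of_chk Fi24.M Fi24P.so1).1 h))]
  · have c : Commute (Fi24.gen 3) (Fi24.gen 2) := e ▸ Fi24.comm_l (x := 1) (by decide)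
    rw [c.mul_pow, pow_succ, pow_succ _ 2, sq, sq, s, s, one_mul, one_mul] at r3
    rw [← e, mul_left_cancel (r3.trans (s 3).symm)]
    exact (comm_of_sq (s 3) (s 1) r4).symm
  have e : closure (conjugatesOf (Fi24.gen 0)) = normalClosure {Fi24.gen 0} := by
    simp [normalClosure, Group.conjugatesOfSet]
  have m : Fi24.gen 0 ∈ normalClosure {Fi24.gen 0} := subset_normalClosure rfl
  rw [e, eq_top_iff]
  have h := (normal24 (normalClosure {Fi24.gen 0})).resolve_left fun h => n0 (mem_bot.1 (h ▸ m))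
  exact fun g _ => (em _).elim (fun k => h k) fun k => (mul_mem_cancel_right m).1
    (h ((mul_mem_iff_of_index_two Fi24.comm.2).2 (iff_of_false k l_notMem24)))

theorem ncard_D24 : D24.ncard = 306936 := by
  rw [← Nat.card_coe_set_eq, D24, card_conjugatesOf, cent24, Fi24.index_stab0]

/-- `c` is not of the form `p ^ (2 * m) ± p ^ m` -/
def NQ (p c : ℤ) : Prop := ∀ (m : ℕ) (ε : ℤ), ε = 1 ∨ ε = -1 → p ^ (2 * m) + ε * p ^ m ≠ c

theorem nq_of {p c : ℤ} (k : ℕ) (hp : 1 ≤ p) (h1 : p ^ k * (p ^ k + 1) < c) (h2 : c < p ^ (k + 1) * (p ^ (k + 1) - 1)) :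
    NQ p c := fun m ε hε e => by
  rw [mul_comm 2, pow_mul] at e
  have h0 := one_le_pow₀ (n := m) hp
  rcases le_or_gt m k with h | h
  · have := pow_le_pow_right₀ hp h
    rcases hε with rfl | rfl <;> nlinarith
  · have := pow_le_pow_right₀ hp (show k + 1 ≤ m from h)
    have := one_le_pow₀ (n := k + 1) hp
    rcases hε with rfl | rfl <;> nlinarith

theorem nv_cnt {F : Type*} [Field F] {V : Type*} [AddCommGroup V] [Module F V] (S : PForm (orthP F) V) :
    {v | NV S v}.ncard = S.cnt (-1) := by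
  rw [orth_cnt_def, ← Nat.card_coe_set_eq]; simp only [nv_orth]; rfl

theorem MU.nq {n : ℕ} (h : MU n E) (ne : E.Nonempty) [Finite G] : ¬ NQ 2 (2 * (E.ncard * 3 + 1)) := fun q => by
  obtain ⟨τ, m⟩ := h
  have := m.ncard
  have e := unit_cnt fr_ne k4_card 0 n m.nd (by simp)
  have e' := card_sing_ne_zero (S := stdUnit fr_fr fr_ne (Fin n))
  simp only [nv_unit, ← unit_sing, k4_card] at this
  rw [← Nat.card_coe_set_eq] at this
  have := this.symm.trans e'
  have p := (Set.ncard_pos (Set.toFinite _)).2 ne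
  rw [show (stdUnit fr_fr fr_ne (Fin n)).cnt 0 = E.ncard * 3 + 1 by omega, if_pos (by simp), neg_pow] at e
  exact q n ((-1) ^ n) (neg_one_pow_eq_or _ _) (by push_cast at e; linear_combination -e)

theorem MO2.nq (h : MO2 E) : ¬ NQ 2 (2 * E.ncard) := fun q => by
  obtain ⟨n, T, τ, m, -⟩ := h
  have := m.ncard
  rw [nv_cnt, Nat.card_zmod] at this
  rcases Nat.even_or_odd' n with ⟨k, rfl | rfl⟩
  · have e := orth_cnt_even (-1) k m.nd (by simp)
    rw [this, Nat.card_zmod, if_neg (show ¬ (-1 : ZMod 2) = 0 by decide)] at e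
    exact q k _ (by split_ifs <;> simp) (e.symm.trans (by push_cast; ring))
  · exact m.nd.two_ne_zero_of_odd (by simp) (by decide)

theorem MO3.nq {n : ℕ} (h : MO3 n E) (q : NQ 3 (E.ncard * 2)) : ¬ NQ 3 (3 * (E.ncard * 2)) := fun q' => by
  obtain ⟨T, τ, m⟩ := h
  have := m.ncard
  rw [nv_cnt, Nat.card_zmod] at this
  rcases Nat.even_or_odd' n with ⟨k, rfl | rfl⟩
  · have e := orth_cnt_even (-1) k m.nd (by simp)
    rw [this, Nat.card_zmod, if_neg (show ¬ (-1 : ZMod 3) = 0 by decide)] at e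
    exact q' k _ (by split_ifs <;> simp) (e.symm.trans (by push_cast; ring))
  · have e := orth_cnt_odd (-1) k m.nd (by simp)
    rw [this, Nat.card_zmod, if_neg (show ¬ (-1 : ZMod 3) = 0 by decide)] at e
    exact q k _ ((Int.units_eq_one_or _).imp (congrArg Units.val) (congrArg Units.val)) (e.symm.trans (by push_cast; ring))

variable [Finite G]

theorem PC.vw (hD : PC D) (hZ : center G = ⊥) (hd : d ∈ D) (h0 : 120 < D.ncard) (h1 : ∀ n, 2 ^ n ≠ D.ncard + 1)
    (h2 : NQ 2 (2 * (D.ncard * 3 + 1))) : VT (nb D d) ∧ WT (nb D d) := by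
  refine ⟨by_contra fun h => ?_, by_contra fun h => ?_⟩
  · rcases hD.caseB hZ hd h with ⟨-, n, S, τ, m⟩ | ⟨n, -, m⟩
    · have := m.ncard
      simp only [nv_symp, Nat.card_zmod] at this
      refine h1 n ?_
      rw [← mul_one D.ncard, ← show _ = _ * 1 from this, ← Nat.card_coe_set_eq]
      exact Eq.trans (by simp) (card_ne_zero_add_one (Fin n → ZMod 2)).symm
    · exact m.nq ⟨d, hd⟩ h2
  · obtain ⟨e, -⟩ := hD.caseA hd h
    have := Set.ncard_le_card D
    rw [Nat.card_congr e.toEquiv, Nat.card_eq_fintype_card, Fintype.card_perm] at this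
    exact absurd (h0.trans_le this) (by decide)

theorem ne_two_pow {c : ℕ} (k : ℕ) (h1 : 2 ^ k < c) (h2 : c < 2 ^ (k + 1)) (n : ℕ) : 2 ^ n ≠ c := fun e => by
  rw [← e, Nat.pow_lt_pow_iff_right (by decide)] at h1 h2
  omega

instance fin24 : Finite Spor.Fi24 := Nat.finite_of_card_ne_zero (by rw [Fi24.card]; decide)

theorem pc24 : PC D24 := by
  refine PC.of_simple (TC.of three24) Fi24.simple ((TC.of three24).w_of_not_solv (cls_ne three24) fun h => ?_)
  have := Fi24.simple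
  have := IsSimpleGroup.comm_iff_isSolvable.2 (H17.solvable_of_le (le_top (a := commutator Spor.Fi24)) h)
  exact (nontrivial_iff_ne_bot _).1 (inferInstance : Nontrivial (⊤ : Subgroup (commutator Spor.Fi24)))
    (eq_bot_iff.2 fun x _ => center24' ▸ mem_center_iff.2 fun g => this g x)

theorem t24 : T24 D24 ∧ ∀ x ∈ D24, PC (ins (nb D24 x)) := by
  obtain ⟨d, hd, -⟩ := pc24.w
  have n := ncard_D24
  obtain ⟨h2, h3⟩ := pc24.vw center24 hd (by omega) (n ▸ ne_two_pow 18 (by decide) (by decide))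
    (n ▸ nq_of 10 (by decide) (by decide) (by decide))
  refine ⟨?_, pc24.loc_all hd h2 h3⟩
  rcases pc24.caseC' hd h2 h3 with h | ⟨k, -, h⟩ | h | h | h
  · rcases pc24.syC hd h2 h3 h with ⟨k, -, e, -⟩ | h
    · have c := Fi24.card
      rw [Nat.card_congr e.toEquiv, Nat.card_eq_fintype_card, Fintype.card_perm, Fintype.card_fin] at c
      rcases le_or_gt 19 k with h | h
      · exact absurd (c ▸ Nat.dvd_factorial (by decide) h) (by decide)
      · exact absurd (c ▸ Nat.factorial_le h.le) (by decide)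
    · exact absurd (n ▸ nq_of 9 (by decide) (by decide) (by decide)) h.nq
  · exact absurd (n ▸ nq_of 6 (by decide) (by decide) (by decide)) (h.nq (n ▸ nq_of 6 (by decide) (by decide) (by decide)))
  exacts [absurd (n.symm.trans h.card) (by decide), absurd (n.symm.trans h.card) (by decide), h]

theorem PC.cls (h : PC D) : IsThreeTranspositionClass D := by
  obtain ⟨d, hd, -⟩ := h.w
  exact ⟨h.t3, ⟨d, hd, Set.ext fun x => ⟨fun hx => isConj_iff.2 (h.prim.1 d hd x hx), fun hx =>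
    (isConj_iff.1 hx).elim fun g e => e ▸ h.cj g d hd⟩⟩, h.gen⟩

omit [Finite G] in
theorem ex23 : ∃ (X : Type) (_ : Group X) (_ : Finite X) (E : Set X), PC E ∧ center X = ⊥ ∧ T23 E := by
  obtain ⟨d, hd, -⟩ := pc24.w
  have m := t24.1.loc d hd
  exact (fi_qs m.t3 m.par).elim fun _ f =>
    ⟨_, inferInstance, inferInstance, qs (nb D24 d), (t24.2 d hd).quot, qs_center m.t3 m.par, f.t23 m⟩

omit [Finite G] in
theorem ex22 : ∃ (X : Type) (_ : Group X) (_ : Finite X) (E : Set X), PC E ∧ center X = ⊥ ∧ T22 E := by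
  obtain ⟨X, _, _, E, h, hZ, t⟩ := ex23
  obtain ⟨d, hd, -⟩ := h.w
  have n := t.card
  obtain ⟨h2, h3⟩ := h.vw hZ hd (by omega) (n ▸ ne_two_pow 14 (by decide) (by decide))
    (n ▸ nq_of 8 (by decide) (by decide) (by decide))
  have m := t.loc d hd
  exact (fi_qs m.t3 m.par).elim fun _ f =>
    ⟨_, inferInstance, inferInstance, qs (nb E d), (h.loc_pc hd h2 h3).quot, qs_center m.t3 m.par, f.t22 m⟩

end H28
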