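import Cfsg.Agent.H28.C3b

/-! Isomorphisms of Fischer spaces (`FI`), good local spaces (`Gd`), components of the commuting graph, and the
rationality condition for strongly regular graphs. -/

namespace H28
open Cfsg Subgroup H11 H11.PForm Module

variable {G X : Type*} [Group G] [Group X] {D E A : Set G} {E' : Set X} {β : G → X} {a b x y d p : G}

/-- an isomorphism of Fischer spaces -/
structure FI (β : G → X) (E : Set G) (E' : Set X) : Prop where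
  t3 : T3 E
  t3' : T3 E'
  bij : Set.BijOn β E E'
  op : ∀ a ∈ E, ∀ b ∈ E, β (a * b * a) = β a * β b * β a

namespace FI
variable (h : FI β E E')
include h

theorem mem (ha : a ∈ E) : β a ∈ E' := h.bij.mapsTo ha
theorem image : β '' E = E' := h.bij.image_eq
theorem eq (ha : a ∈ E) (hb : b ∈ E) : β a = β b ↔ a = b := h.bij.injOn.eq_iff ha hb
theorem all {P : X → Prop} : (∀ x ∈ E', P x) ↔ ∀ x ∈ E, P (β x) := by rw [← h.image, Set.forall_mem_image]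
theorem ncard : E'.ncard = E.ncard := h.bij.ncard_eq.symm

theorem comm (ha : a ∈ E) (hb : b ∈ E) : Commute (β a) (β b) ↔ Commute a b := by
  rw [comm_iff_conj (t3_sq h.t3'.t3 (h.mem ha)), comm_iff_conj (t3_sq h.t3.t3 ha), ← h.op a ha b hb,
    h.eq (h.t3.cl a ha b hb) hb]

theorem symm : ∃ γ, FI γ E' E ∧ ∀ a ∈ E, γ (β a) = a := by
  have i := h.bij.invOn_invFunOn
  refine ⟨_, ⟨h.t3', h.t3, h.bij.symm i.symm, h.all.2 fun a ha => h.all.2 fun b hb => ?_⟩, fun a ha => i.1 ha⟩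
  rw [← h.op a ha b hb, i.1 ha, i.1 hb, i.1 (h.t3.cl a ha b hb)]

theorem sub (hA : A ⊆ E) (t : T3 A) {A' : Set X} (e : ∀ x ∈ E, β x ∈ A' ↔ x ∈ A) (e' : A' ⊆ E') : FI β A A' := by
  have b : Set.BijOn β A A' := ⟨fun x hx => (e x (hA hx)).2 hx, h.bij.injOn.mono hA, fun y hy => by
    obtain ⟨x, hx, rfl⟩ := h.bij.surjOn (e' hy)
    exact ⟨x, (e x hx).1 hy, rfl⟩⟩
  refine ⟨t, ⟨t3_mono h.t3'.t3 e', fun u hu v hv => ?_⟩, b, fun a ha b hb => h.op a (hA ha) b (hA hb)⟩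
  obtain ⟨u', hu', rfl⟩ := b.surjOn hu
  obtain ⟨v', hv', rfl⟩ := b.surjOn hv
  exact h.op u' (hA hu') v' (hA hv') ▸ b.mapsTo (t.cl u' hu' v' hv')

theorem mem_nb (hx : x ∈ E) (hy : y ∈ E) : β y ∈ nb E' (β x) ↔ y ∈ nb E x := by
  simp only [H28.mem_nb, h.mem hy, hy, h.comm hx hy, ne_eq, h.eq hy hx]

theorem nb (hx : x ∈ E) : FI β (nb E x) (nb E' (β x)) :=
  h.sub (nb_sub x) (h.t3.nb x) (fun _ hy => h.mem_nb hx hy) (nb_sub _)

theorem Sp (hx : x ∈ E) (hy : y ∈ E) : FI β (Sp E x y) (Sp E' (β x) (β y)) :=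
  h.sub (fun _ h => h.1) (h.t3.Sp x y) (fun z hz => by simp only [H28.Sp, Set.mem_ofPred_eq, h.mem hz, hz, h.comm hx hz,
    h.comm hy hz]) fun _ h => h.1

theorem ncard_An (hx : x ∈ E) : (An E' (β x)).ncard = (An E x).ncard := by
  have : Set.BijOn β (An E x) (An E' (β x)) := ⟨fun y hy => ⟨h.mem hy.1, mt (h.comm hx hy.1).1 hy.2⟩,
    h.bij.injOn.mono fun _ h => h.1, fun y hy => by
      obtain ⟨z, hz, rfl⟩ := h.bij.surjOn hy.1
      exact ⟨z, ⟨hz, mt (h.comm hx hz).2 hy.2⟩, rfl⟩⟩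
  exact this.ncard_eq.symm

theorem md {F : Type*} [Field F] {σ : F →+* F} {P : FParam σ} {V : Type*} [AddCommGroup V] [Module F V] {S : PForm P V}
    {τ : V → G} (m : Md S τ E) : Md S (fun v => β (τ v)) E' :=
  ⟨h.t3'.t3, m.sf, m.nd, fun v hv => h.mem (m.mem v hv), h.all.2 fun e he => (m.surj e he).imp fun _ h => ⟨h.1, by rw [h.2]⟩,
    fun u v hu hv => by rw [← h.op _ (m.mem u hu) _ (m.mem v hv), m.conj u v hu hv],
    fun u v hu hv => by rw [h.eq (m.mem u hu) (m.mem v hv), m.inj u v hu hv]⟩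

theorem mu {n : ℕ} (m : MU n E) : MU n E' := m.elim fun _ m => ⟨_, h.md m⟩
theorem mo {n : ℕ} (m : MO n E) : MO n E' := m.elim fun _ m => ⟨_, h.md m⟩
theorem mo3 {n : ℕ} (m : MO3 n E) : MO3 n E' := m.elim fun S m => m.elim fun _ m => ⟨S, _, h.md m⟩

theorem sy (m : SY E) : SY E' := h.all.2 fun x hx => h.all.2 fun y hy => h.all.2 fun z hz => by
  rw [← h.op x hx y hy, h.comm hx hy, h.comm hx hz, h.comm hy hz, h.comm hz (h.t3.cl x hx y hy)]
  exact m x hx y hy z hz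

theorem vt (m : VT E) : VT E' := h.all.2 fun x hx => h.all.2 fun y hy e => by
  rw [m x hx y hy fun z hz => by rw [← h.comm hy hz, ← h.comm hx hz]; exact e _ (h.mem hz)]

theorem wt (m : WT E) : WT E' := h.all.2 fun x hx => h.all.2 fun y hy e => by
  rw [m x hx y hy (Set.ext fun z => ⟨fun hz => (h.mem_nb hy hz.1).1 (e ▸ (h.mem_nb hx hz.1).2 hz),
    fun hz => (h.mem_nb hx hz.1).1 (e.symm ▸ (h.mem_nb hy hz.1).2 hz)⟩)]

theorem cn (m : Cn E a b) : Cn E' (β a) (β b) := by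
  induction m with
  | refl => exact Cn.refl _
  | tail _ k ih => exact ih.trans (Cn.adj (h.mem k.1) (h.mem k.2.1) ((h.comm k.1 k.2.1).2 k.2.2))

theorem ncCon (m : NcCon E) : NcCon E' := h.all.2 fun a ha P h1 h2 => h.all.2
  (m a ha (fun x => P (β x)) h1 fun x y hx hy p n => h2 _ _ (h.mem hx) (h.mem hy) p (mt (h.comm hx hy).1 n))

theorem par (m : Par E) : Par E' := h.all.2 fun a ha =>
  (m a ha).elim fun b hb => ⟨_, h.mem hb.1, mt (h.comm ha hb.1).1 hb.2⟩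

theorem trans {Y : Type*} [Group Y] {γ : X → Y} {E'' : Set Y} (k : FI γ E' E'') : FI (fun a => γ (β a)) E E'' :=
  ⟨h.t3, k.t3', k.bij.comp h.bij, fun a ha b hb => by rw [h.op a ha b hb, k.op _ (h.mem ha) _ (h.mem hb)]⟩

theorem equiv (g1 : closure E = ⊤) (g2 : closure E' = ⊤) (z1 : center G = ⊥) (z2 : center X = ⊥) :
    ∃ e : G ≃* X, e '' E = E' :=
  (equiv_of_lab h.t3.t3 h.t3'.t3 g1 g2 z1 z2 (· ∈ E) id β (by simp) (fun x => by rw [← h.image]; rfl)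
    (fun _ _ hu hv => (h.eq hu hv).symm) fun u v hu hv => ⟨_, h.t3.cl u hu v hv, rfl, (h.op u hu v hv).symm⟩).imp
    fun _ h => h.2

end FI

theorem fi_hom (hE : T3 E) (f : G →* X) (h1 : Set.InjOn f E) (h2 : ∀ d ∈ E, f d ≠ 1) : FI f E (f '' E) :=
  ⟨hE, ⟨t3_image hE.t3 f h2, by
    rintro _ ⟨a, ha, rfl⟩ _ ⟨b, hb, rfl⟩
    exact ⟨_, hE.cl a ha b hb, by simp⟩⟩, h1.bijOn_image, fun a _ b _ => by simp⟩

theorem fi_inj (hE : T3 E) (f : G →* X) (h1 : Function.Injective f) : FI f E (f '' E) :=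
  fi_hom hE f h1.injOn fun _ hd => (map_eq_one_iff f h1).not.2 (t3_ne hE.t3 hd)

theorem fi_ins (hE : T3 E) : FI Subtype.val (ins E) E := by
  have := fi_inj hE.ins (closure E).subtype (subtype_injective _)
  rwa [image_ins] at this

theorem fi_cj (hE : T3 E) (g : G) : FI (fun x => g * x * g⁻¹) E (cjs g E) :=
  fi_inj hE (MulAut.conj g).toMonoidHom (MulAut.conj g).injective

theorem fi_quot (hE : T3 E) (hp : Par E) : FI (QuotientGroup.mk : G → G ⧸ center G) E (QuotientGroup.mk '' E) :=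
  fi_hom hE (QuotientGroup.mk' _) (mk_injOn hE.t3 hp) fun _ => mk_ne_one hp

/-- the central quotient of the generated subgroup, with the image of the set -/
abbrev qs (E : Set G) : Set (closure E ⧸ center (closure E)) := QuotientGroup.mk '' ins E

theorem fi_qs (hE : T3 E) (hp : Par E) : ∃ β, FI β E (qs E) :=
  (fi_ins hE).symm.elim fun _ h => ⟨_, h.1.trans (fi_quot hE.ins hp.ins)⟩

theorem qs_gen (E : Set G) : closure (qs E) = ⊤ :=
  closure_image_top (QuotientGroup.mk' _) (QuotientGroup.mk'_surjective _) (closure_ins E)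

theorem qs_center (hE : T3 E) (hp : Par E) : center (closure E ⧸ center (closure E)) = ⊥ :=
  center_quot hE.ins hp.ins (closure_ins E)

theorem FI.quot (h : FI β E E') (hp : Par E) :
    ∃ e : closure E ⧸ center (closure E) ≃* closure E' ⧸ center (closure E'), e '' qs E = qs E' := by
  obtain ⟨_, a⟩ := fi_qs h.t3 hp
  obtain ⟨_, b⟩ := fi_qs h.t3' (h.par hp)
  obtain ⟨_, c, -⟩ := a.symm
  exact ((c.trans h).trans b).equiv (qs_gen E) (qs_gen E') (qs_center h.t3 hp) (qs_center h.t3' (h.par hp))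

theorem TC.fi_nb (hD : TC D) (ha : a ∈ D) (hb : b ∈ D) : ∃ β : G → G, FI β (nb D a) (nb D b) := by
  obtain ⟨g, rfl⟩ := hD.tr a ha b hb
  exact ⟨_, hD.cj_nb g a ▸ fi_cj (hD.T3.nb a) g⟩

theorem FI.pc [Finite X] (h : FI β D E') (hD : PC D) (g : closure E' = ⊤) : PC E' := by
  obtain ⟨a, ha, b, hb, n, c⟩ := hD.w
  exact (h.t3'.tc g (h.ncCon hD.ncCon)).pc ⟨_, h.mem ha, _, h.mem hb, (h.eq ha hb).not.2 n, (h.comm ha hb).2 c⟩
    (h.vt hD.vt) (h.wt hD.wt) (h.all.2 fun a ha => h.all.2 fun b hb => h.cn (hD.cn ha hb))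

theorem PC.fi_quot (hD : PC D) : FI (QuotientGroup.mk : G → G ⧸ center G) D (QuotientGroup.mk '' D) :=
  H28.fi_quot hD.T3 (hD.par hD.two)

theorem PC.quot [Finite G] (hD : PC D) : PC ((QuotientGroup.mk : G → G ⧸ center G) '' D) :=
  hD.fi_quot.pc hD (closure_image_top (QuotientGroup.mk' _) (QuotientGroup.mk'_surjective _) hD.gen)

/-- a good space -/
structure Gd (E : Set G) : Prop extends LC E where
  vt : VT E
  wt : WT E
  ne : E.Nonempty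
  nbne : ∀ x ∈ E, (nb E x).Nonempty

theorem Gd.w (h : Gd E) : ∃ a ∈ E, ∃ b ∈ E, a ≠ b ∧ Commute a b := by
  obtain ⟨a, ha⟩ := h.ne
  obtain ⟨b, hb⟩ := h.nbne a ha
  exact ⟨a, ha, b, hb.1, hb.2.1.symm, hb.2.2⟩

theorem Gd.par (h : Gd E) : Par E := h.toLC.par (two_of_w h.w)

theorem gd_of_loc (hE : T3 E) (ne : E.Nonempty) (h : ∀ x ∈ E, Gd (nb E x)) : Gd E := by
  have k : ∀ x ∈ E, ∀ y ∈ nb E x, ∃ z ∈ E, x ∈ nb E z ∧ y ∈ nb E z := fun x hx y hy => by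
    obtain ⟨z, hz⟩ := (h x hx).nbne y hy
    exact ⟨z, hz.1.1, nb_symm hx hz.1, hy.1, hz.2.1.symm, hz.2.2.symm⟩
  refine ⟨⟨hE, ncCon_of_common fun a ha b hb n c => ?_⟩, fun x hx y hy e => by_contra fun n => ?_, fun x hx y hy e => ?_,
    ne, fun x hx => (h x hx).ne⟩
  · obtain ⟨z, hz, h1, h2⟩ := k a ha b ⟨hb, n.symm, c⟩
    exact ((h z hz).con.common (h z hz).t3 (h z hz).par h1 h2 c).imp fun _ h => ⟨h.1.1, h.2⟩
  · obtain ⟨z, hz, h1, h2⟩ := k x hx y ⟨hy, n, e.comm hx⟩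
    exact n ((h z hz).vt x h1 y h2 fun s hs => e s hs.1)
  · obtain ⟨z, hz⟩ := (h x hx).ne
    refine (h z hz.1).wt x (nb_symm hx hz) y (nb_symm hy (e ▸ hz)) ?_
    rw [Wr, nb_comm, nb_comm z, e]

theorem MO3.gd {n : ℕ} (h : MO3 n E) (h5 : 5 ≤ n) : Gd E := by
  obtain ⟨S, τ, m⟩ := h
  obtain ⟨u, -, hu, -⟩ := o3_two m.nd (by simp; omega)
  refine ⟨⟨m.T3, m.o3_ncCon (by simp; omega)⟩, m.o3_vt (by simpa), m.o3_wt, ⟨_, m.mem u hu⟩, fun x hx => ?_⟩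
  obtain ⟨u, hu, rfl⟩ := m.surj x hx
  have := finrank_pp3 m.nd hu
  obtain ⟨v, -, hv, -⟩ := o3_two (m.o3_nb hu).nd (by simp at this; omega)
  exact ⟨_, (m.o3_nb hu).mem v hv⟩

theorem PC.gd (h : PC D) : Gd D := ⟨h.toTC.lc, h.vt, h.wt, h.w.imp fun _ h => h.1, fun _ hx => h.nb_ne h.w hx⟩

theorem FI.gd (h : FI β E E') (m : Gd E) : Gd E' :=
  ⟨⟨h.t3', h.ncCon m.con⟩, h.vt m.vt, h.wt m.wt, m.ne.elim fun _ hx => ⟨_, h.mem hx⟩,
    h.all.2 fun x hx => (m.nbne x hx).elim fun _ hy => ⟨_, (h.nb hx).mem hy⟩⟩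

theorem Gd.pc [Finite G] (h : Gd E) (hc : ∀ a ∈ E, ∀ b ∈ E, Cn E a b) : PC (ins E) := by
  obtain ⟨a, ha, b, hb, n, c⟩ := h.w
  exact h.tc.pc ⟨inE ha, ha, inE hb, hb, mt (congrArg Subtype.val) n, comm_ins.2 c⟩ (vt_ins.2 h.vt) (wt_ins.2 h.wt)
    fun a ha b hb => cn_ins (E := E) (a := a.1) (b := b.1) ha (hc _ ha _ hb) hb

/-- a component of the commuting graph -/
def cmp (E : Set G) (p : G) : Set G := {x | Cn E p x}

theorem cmp_sub (hp : p ∈ E) : cmp E p ⊆ E := fun _ h => Cn.mem h hp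

theorem nb_cmp (hp : p ∈ E) (hx : x ∈ cmp E p) : nb (cmp E p) x = nb E x :=
  Set.ext fun _ => ⟨fun h => ⟨cmp_sub hp h.1, h.2⟩, fun h => ⟨Cn.trans hx (Cn.adj (cmp_sub hp hx) h.1 h.2.2), h.2⟩⟩

theorem cn_cj (hE : T3 E) (ha : a ∈ E) (h : Cn E x y) : Cn E (a * x * a) (a * y * a) := by
  have := (fi_cj hE a).cn h
  rwa [hE.cj_eq (subset_closure ha), t3_inv hE.t3 ha] at this

theorem T3.cmp (hE : T3 E) (hp : p ∈ E) : T3 (cmp E p) := ⟨t3_mono hE.t3 (cmp_sub hp), fun a ha b hb => by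
  have := cn_cj hE (cmp_sub hp ha) (Cn.trans (Cn.symm ha) hb)
  rw [t3_sq hE.t3 (cmp_sub hp ha), one_mul] at this
  exact Cn.trans ha this⟩

theorem cn_cmp (hp : p ∈ E) : ∀ a ∈ cmp E p, ∀ b ∈ cmp E p, Cn (cmp E p) a b := by
  have : ∀ b, Cn E p b → Cn (cmp E p) p b := fun b h => by
    induction h with
    | refl => exact Cn.refl _
    | tail k h ih => exact ih.trans (Cn.adj k (Cn.trans k (Cn.adj h.1 h.2.1 h.2.2)) h.2.2)
  exact fun a ha b hb => (this a ha).symm.trans (this b hb)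

theorem cmp_eq (hc : ∀ a ∈ E, ∀ b ∈ E, Cn E a b) (hp : p ∈ E) : cmp E p = E :=
  (cmp_sub hp).antisymm fun x hx => hc p hp x hx

theorem LO.cmp {n : ℕ} (h : LO n E) (hp : p ∈ E) : LO n (cmp E p) :=
  ⟨h.t3.cmp hp, h.five, fun x hx => nb_cmp hp hx ▸ h.loc x (cmp_sub hp hx)⟩

section DC
variable [Finite G] (hD : TC D) (hG : Gd D)
include hD hG

theorem TC.qs : IsQuasisimple (layer G) :=
  hD.layer_qs (two_of_w hG.w) ((hD.vt_iff (two_of_w hG.w)).1 hG.vt) (hD.wt_iff.1 hG.wt)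

theorem TC.cn_layer {g : G} (hg : g ∈ layer G) (ha : a ∈ D) : Cn D a (g * a * g⁻¹) := by
  have ie : IE D (Cn D) := ⟨Cn.refl, fun _ _ => Cn.symm, fun _ _ _ => Cn.trans, fun g _ _ h => h.conj hD.cj g⟩
  have := relKer_normal (Cn D) hD.cj ie.refl ie.symm ie.trans ie.conj
  obtain ⟨u, hu, v, hv, n, c⟩ := hG.w
  have m := hD.qs_mul_mem (hD.qs hG) hu hv c
  rcases H17.qs_normal (hD.qs hG) (N := relKer D (Cn D) hD.cj ie.refl ie.symm ie.trans ie.conj ⊓ layer G) inf_le_right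
    (by rw [normalizer_eq_top]; exact le_top) with h | h
  · exact (h.ge hg).1 a ha
  · exact absurd (hD.cent_gfit ((hD.vt_iff (two_of_w hG.w)).1 hG.vt) (hD.wt_iff.1 hG.wt) fun y hy =>
      (comm_of_bot h ⟨ie.mul_mem hD hu hv (Cn.adj hu hv c), m⟩ hy).symm) (hD.not_central (two_of_w hG.w) hu hv n)

theorem TC.cn_iff_mem (ha : a ∈ D) (hb : b ∈ D) : Cn D a b ↔ a * b ∈ layer G := by
  refine ⟨hD.mul_mem_of_cn (hD.qs hG) ha, fun h => ?_⟩
  by_cases c : Commute a b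
  exacts [Cn.adj ha hb c, t3_conj hD.t3 ha hb c ▸ hD.cn_layer hG h ha]

theorem TC.mk_eq (ha : a ∈ D) (hb : b ∈ D) : (a : G ⧸ layer G) = b ↔ Cn D a b := by
  rw [QuotientGroup.eq, t3_inv hD.t3 ha, hD.cn_iff_mem hG ha hb]

theorem TC.ncard_cmp (hp : p ∈ D) : D.ncard = ((QuotientGroup.mk : G → G ⧸ layer G) '' D).ncard * (cmp D p).ncard := by
  have := ncard_mul_eq (Set.toFinite D) (Set.toFinite ((QuotientGroup.mk : G → G ⧸ layer G) '' D)) (fun a x => x = a)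
    (m := 1) (n := (cmp D p).ncard) (fun a ha => Set.ncard_eq_one.2 ⟨a, Set.ext fun x =>
      ⟨fun h => h.2, fun h => ⟨⟨a, ha, h.symm⟩, h⟩⟩⟩) (by
    rintro _ ⟨a, ha, rfl⟩
    obtain ⟨g, rfl⟩ := hD.tr p hp a ha
    rw [← ncard_cjs g (cmp D p)]
    congr 1
    ext x
    refine ⟨fun h => mem_cjs.2 (by simpa [mul_assoc, cmp] using ((hD.mk_eq hG ha h.1).1 h.2).conj hD.cj g⁻¹), ?_⟩
    rintro ⟨y, hy, rfl⟩
    exact ⟨hD.cj g y (cmp_sub hp hy), (hD.mk_eq hG ha (hD.cj g y (cmp_sub hp hy))).2 (Cn.conj hD.cj hy g)⟩)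
  rwa [mul_one] at this

theorem TC.w1_quot (hn : ¬ ∀ a ∈ D, ∀ b ∈ D, Cn D a b) : TC ((QuotientGroup.mk : G → G ⧸ layer G) '' D) ∧
    W1 ((QuotientGroup.mk : G → G ⧸ layer G) '' D) := by
  have t := hD.map (QuotientGroup.mk' (layer G)) (QuotientGroup.mk'_surjective _) fun d hd e => hn fun a ha b hb =>
    (hD.cn_iff_mem hG ha hb).2 (hD.eq_top_of_mem hd ((QuotientGroup.eq_one_iff d).1 e) ▸ mem_top _)
  refine ⟨t, ?_⟩
  rintro _ ⟨a, ha, rfl⟩ _ ⟨b, hb, rfl⟩ c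
  by_cases c' : Commute a b
  · exact (hD.mk_eq hG ha hb).2 (Cn.adj ha hb c')
  · exact eq_of_comm_braid c (by simpa using congrArg (QuotientGroup.mk' (layer G)) (t3_braid hD.t3 ha hb c'))

end DC

theorem Gd.ncard [Finite G] (h : Gd E) (hp : p ∈ E) : (∀ a ∈ E, ∀ b ∈ E, Cn E a b) ∨
    ∃ j, E.ncard = 3 ^ (j + 1) * (cmp E p).ncard := by
  refine or_iff_not_imp_left.2 fun hn => ?_
  obtain ⟨γ, f, -⟩ := (fi_ins h.t3).symm
  have hn' : ¬ ∀ a ∈ ins E, ∀ b ∈ ins E, Cn (ins E) a b := fun k => hn fun a ha b hb =>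
    (fi_ins h.t3).cn (k (inE ha) ha (inE hb) hb)
  obtain ⟨t, w⟩ := h.tc.w1_quot (f.gd h) hn'
  obtain ⟨j, hj⟩ := w.ncard t.T3 ⟨_, inE hp, hp, rfl⟩
  have e := h.tc.ncard_cmp (f.gd h) (p := inE hp) hp
  have e' : (cmp E p).ncard = (cmp (ins E) (inE hp)).ncard := ((fi_ins h.t3).sub (cmp_sub hp) (h.t3.ins.cmp hp)
    (fun x hx => ⟨fun c => cn_ins hp c hx, (fi_ins h.t3).cn⟩) (cmp_sub hp)).ncard
  rw [ncard_ins, hj, ← e'] at e
  rcases j with _ | j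
  · rw [pow_zero, one_mul] at e
    have := Set.eq_of_subset_of_ncard_le (cmp_sub hp) e.le
    exact absurd (this ▸ cn_cmp hp) hn
  exact ⟨j, e⟩

open Matrix in
theorem srg_sq {V : Type*} [Fintype V] [DecidableEq V] (Γ : SimpleGraph V) [DecidableRel Γ.Adj] {n k l m Δ : ℕ}
    (h : Γ.IsSRGWith n k l m) (hn : 0 < n) (hΔ : (Δ : ℤ) = ((l : ℤ) - m) ^ 2 + 4 * (k - m)) (hs : ¬ IsSquare Δ) :
    ((l : ℤ) - m) * (n - 1) + 2 * k = 0 := by
  set A := Γ.adjMatrix ℝ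
  set J : Matrix V V ℝ := of fun _ _ => 1
  have h1 : A * A = ((k : ℝ) - m) • (1 : Matrix V V ℝ) + ((l : ℝ) - m) • A + (m : ℝ) • J := by
    rw [← sq, h.matrix_eq]
    ext i j
    simp only [Matrix.add_apply, Matrix.smul_apply, A, J, of_apply, SimpleGraph.adjMatrix_apply, SimpleGraph.compl_adj, one_apply]
    by_cases e : i = j
    · simp [e]
    by_cases e' : Γ.Adj i j <;> simp [e, e']
  have h2 : A * J = (k : ℝ) • J := by ext i j; simp [A, J, h.regular i]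
  have h3 : J * A = (k : ℝ) • J := by ext i j; simp [A, J, h.regular j]
  have h4 : J * J = (n : ℝ) • J := by ext i j; simp [J, mul_apply, h.card]
  have h5 : (k : ℝ) * k = k - m + (l - m) * k + m * n := by
    obtain ⟨i⟩ : Nonempty V := Fintype.card_pos_iff.1 (h.card ▸ hn)
    have := congrArg (· * J) h1
    simp only [mul_assoc, h2, mul_smul_comm, add_mul, smul_mul_assoc, one_mul, h4, smul_smul, ← add_smul] at this
    simpa [J] using congrFun (congrFun this i) i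
  have ir := irrational_sqrt_natCast_iff.2 hs
  have s2 : √(Δ : ℝ) * √Δ = ((l : ℝ) - m) ^ 2 + 4 * (k - m) := by
    rw [Real.mul_self_sqrt (Nat.cast_nonneg _)]; exact_mod_cast hΔ
  have s0 := ir.ne_zero
  generalize √(Δ : ℝ) = s at ir s2 s0
  have n0 : (n : ℝ) ≠ 0 := by positivity
  obtain ⟨t, ht⟩ : ∃ t : ℝ, t = (l - m - s) / 2 := ⟨_, rfl⟩
  have id : IsIdempotentElem (s⁻¹ • (A - t • 1 - ((k - t) / n) • J)) := by
    rw [IsIdempotentElem, smul_mul_smul_comm, mul_smul]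
    congr 1
    rw [inv_smul_eq_iff₀ s0]
    simp only [sub_mul, mul_sub, h1, h2, h3, h4, smul_mul_assoc, mul_smul_comm, mul_one, one_mul]
    match_scalars
    · rw [ht]; linear_combination (-1 / 4) * s2
    · rw [ht]; ring
    · field_simp
      rw [ht]; linear_combination (-1) * h5 + (1 / 4) * s2
  obtain ⟨f, tr⟩ : ∃ f : ℕ, _ = (f : ℝ) :=
    ⟨_, (LinearMap.IsIdempotentElem.isProj_range _ (id.map (toLinAlgEquiv' (R := ℝ) (n := V)))).trace⟩
  rw [show ∀ M : Matrix V V ℝ, toLinAlgEquiv' M = M.toLin' from fun _ => rfl, trace_toLin'_eq] at tr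
  simp only [trace_smul, trace_sub, A, Γ.trace_adjMatrix ℝ, trace_one, h.card, smul_eq_mul,
    show J.trace = n by simp [J, trace, h.card]] at tr
  have e : ((-(((l : ℤ) - m) * (n - 1) + 2 * k) : ℤ) : ℝ) = ((2 * f - (n - 1) : ℤ) : ℝ) * s := by
    field_simp at tr
    push_cast
    rw [ht] at tr
    linear_combination 2 * tr
  by_cases z : (2 * f - (n - 1) : ℤ) = 0
  · rw [z, Int.cast_zero, zero_mul, Int.cast_eq_zero, neg_eq_zero] at e; exact e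
  · exact absurd (e ▸ ir.intCast_mul z) (Int.not_irrational _)

theorem PC.srg_sq [Finite G] (hD : PC D) {k l m Δ : ℕ} (h1 : ∀ x ∈ D, (nb D x).ncard = k)
    (h2 : ∀ x ∈ D, ∀ y ∈ nb D x, (nb (nb D x) y).ncard = l) (h3 : ∀ x ∈ D, ∀ y ∈ An D x, (Sp D x y).ncard = m)
    (hΔ : (Δ : ℤ) = ((l : ℤ) - m) ^ 2 + 4 * (k - m)) (hs : ¬ IsSquare Δ) :
    ((l : ℤ) - m) * (D.ncard - 1) + 2 * k = 0 := by
  classical
  have := Fintype.ofFinite D
  have ad : ∀ v w : D, (commutingGraph D).Adj v w ↔ (w : G) ∈ nb D v := fun v w => by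
    simp only [commutingGraph, SimpleGraph.fromRel_adj, mem_nb, w.2, true_and, ne_eq, Subtype.ext_iff, eq_comm (a := v.1),
      Commute.symm_iff (a := w.1), or_self]
  have cd : ∀ (s : Set D) [Fintype s] (t : Set G), t ⊆ D → (∀ x : D, x ∈ s ↔ x.1 ∈ t) → Fintype.card s = t.ncard :=
    fun s _ t h1 h2 => by
      rw [← Set.toFinset_card, ← Set.ncard_eq_toFinset_card', ← Set.ncard_image_of_injective _ Subtype.val_injective]
      congr 1
      exact Set.ext fun x => ⟨fun ⟨y, hy, e⟩ => e ▸ (h2 y).1 hy, fun h => ⟨⟨x, h1 h⟩, (h2 _).2 h, rfl⟩⟩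
  refine H28.srg_sq (commutingGraph D) ⟨by rw [← Set.toFinset_card, ← Set.ncard_eq_toFinset_card'], fun v => ?_,
    fun v w h => ?_, fun v w n h => ?_⟩ ((Set.ncard_pos).2 hD.gd.ne) hΔ hs
  · rw [← SimpleGraph.card_neighborSet_eq_degree, cd ((commutingGraph D).neighborSet v) _ (nb_sub _) (ad v), h1 v v.2]
  · rw [cd _ (nb (nb D v) w) (fun _ h => h.1.1) fun x => by
      rw [SimpleGraph.mem_commonNeighbors, ad, ad]; exact ⟨fun h => ⟨h.1, h.2.2⟩, fun h => ⟨h.1, x.2, h.2⟩⟩,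
      h2 v v.2 w ((ad v w).1 h)]
  · have c : ¬ Commute (v : G) w := fun c => h ((ad v w).2 ⟨w.2, fun e => n (Subtype.ext e.symm), c⟩)
    rw [cd _ (Sp D v w) (fun _ h => h.1) fun x => by
      rw [SimpleGraph.mem_commonNeighbors, ad, ad]
      exact ⟨fun h => ⟨x.2, h.1.2.2, h.2.2.2⟩, fun h => ⟨⟨x.2, fun e => c (e ▸ h.2.2.symm), h.2.1⟩, x.2,
        fun e => c (e ▸ h.2.1), h.2.2⟩⟩, h3 v v.2 w ⟨w.2, c⟩]

end H28
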