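import Cfsg.Agent.H28.Tab

/-! The exceptional isomorphism `U₄(2) ↔ O₅(3)` of Fischer spaces. -/

namespace H28
open Cfsg Subgroup H11 H11.PForm Module

variable {G : Type*} [Group G] {D E : Set G}

/-- numbering of the field with four elements -/
def k4 : ℕ → K4 | 0 => .o | 1 => .i | 2 => .w | _ => .v
/-- numbering of the field with four elements -/
def K4.n : K4 → ℕ | .o => 0 | .i => 1 | .w => 2 | .v => 3
/-- explicit hermitian form -/
def hu4 (x y : Fin 4 → K4) : K4 := (x 0).cj * y 0 + (x 1).cj * y 1 + (x 2).cj * y 2 + (x 3).cj * y 3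
theorem hu4_eq (x y : Fin 4 → K4) : (stdUnit fr_fr fr_ne (Fin 4)).h x y = hu4 x y := by
  rw [stdUnit_h, Fin.sum_univ_four]; rfl
/-- the table `O₅(3) → U₄(2)` -/
def gU (w : Fin 5 → ZMod 3) (i : Fin 4) : K4 := k4 (0xc40000ed219d000000d9000031b98400691100447d000000000000c100007924e9000000bd0000346d8100dd1400419900000000e5d500659000000000d0950075b5000000000000000000000000500000340000bd816d000000790000c1e9240099410014dd000000000000310000d984b9000000ed0000c49d21007d4400116900000000b5750095d000000000906500d5e500000000000000000000000050ad5900a90d00000000095d00fdf900000000000000000000000005f9fd005d09000000000da90059ad000000000000000000000000050000000000000000550000000000000000550000a50000a5f5f500 >>> (8 * cd3 w + 2 * i.val) % 4)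
/-- the table `U₄(2) → O₅(3)` -/
def gU' (v : Fin 4 → K4) : Fin 5 → ZMod 3 :=
  vc3 (0x40591a40026404254002a4550040000000001004a645a9000a161998400992a145400000000022546561614006861559000515a48a400000000012500000001490000000291000000015462651650008a545690006151958400591a1854000000000125004a9154001a410164002549901000000000010045664a8400a91299140098685864000000000225000000015400000001490000000291651899440086661a1400a851599000916a44a400000000022585564684006922951400585854640000000001250109526400154012a400164690400000000001000000000291000000015400000001499459462400000000024900000001910000000254a2551a5000000000025400000002490000000191a52895440000000001910000000254000000024954694a240010065294002944019400194a5100000000000000 >>> (10 * ((v 0).n + 4 * (v 1).n + 16 * (v 2).n + 64 * (v 3).n)))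

theorem gU_chk1 : (∀ a b c d e, dt5 ![a, b, c, d, e] ![a, b, c, d, e] = 1 → (¬ ∀ i, gU ![a, b, c, d, e] i = 0) ∧
    hu4 (gU ![a, b, c, d, e]) (gU ![a, b, c, d, e]) = 0) ∧ ∀ v : Fin 4 → K4, (¬ ∀ i, v i = 0) → hu4 v v = 0 →
      dt5 (gU' v) (gU' v) = 1 ∧ ∃ c : K4, ∀ i, v i = c * gU (gU' v) i := by decide +kernel

/-- the compatibility of a table with the operations -/
def UOK (u v : Fin 5 → ZMod 3) : Prop :=
  (∃ c : K4, ∀ i, gU v i + hu4 (gU u) (gU v) * gU u i = c * gU (fun k => v k + dt5 u v * u k) i) ∧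
    ((∃ c : K4, ∀ i, gU v i = c * gU u i) ↔ ∃ c : ZMod 3, ∀ i, v i = c * u i)
instance (u v) : Decidable (UOK u v) := by unfold UOK; infer_instance

theorem gU_chk2 : ∀ a b c d e, dt5 ![a, b, c, d, e] ![a, b, c, d, e] = 1 → ∀ a' b' c' d' e',
    dt5 ![a', b', c', d', e'] ![a', b', c', d', e'] = 1 → UOK ![a, b, c, d, e] ![a', b', c', d', e'] := by
  decide +kernel

theorem MU.mo (h : MU 4 E) : MO 5 E := by
  obtain ⟨τ, m⟩ := h
  refine ⟨_, m.relabel sf3 (std3_nd 5) gU (fun w => ?_) (fun v hv => ?_) fun u v => ?_⟩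
  · rw [nv_o3, std3_h, dt5_eq, nv_unit, hu4_eq, Ne, funext_iff]
    exact all5 (P := fun w => dt5 w w = 1 → (¬ ∀ i, gU w i = 0) ∧ hu4 (gU w) (gU w) = 0) gU_chk1.1 w
  · rw [nv_unit, hu4_eq, Ne, funext_iff] at hv
    obtain ⟨h1, c, h2⟩ := gU_chk1.2 v hv.1 hv.2
    exact ⟨_, by rw [nv_o3, std3_h, dt5_eq, h1], c, funext h2⟩
  · simp only [nv_o3, std3_h, dt5_eq, hu4_eq, funext_iff]
    exact fun hu hv => all5 (P := fun u => dt5 u u = 1 → UOK u v) (fun a b c d e h =>
      all5 (P := fun v => dt5 v v = 1 → UOK _ v) (gU_chk2 a b c d e h) v hv) u hu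

end H28
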