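import Cfsg.Agent.H28.C1
import Cfsg.Agent.H28.TabU

/-! Fischer's theorem: the list of types of primitive classes of `3`-transpositions. -/

namespace H28
open Cfsg Subgroup H11 H11.PForm Module Equiv

universe u
variable {G X : Type*} [Group G] [Group X] {D E S : Set G} {E' : Set X} {β : G → X} {x y z d a : G}

/-- a sporadic type: local type, type of the `μ`-sets, and the numbers of points -/
structure TF (P M : Set G → Prop) (v a : ℕ) (E : Set G) : Prop where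
  t3 : T3 E
  loc : ∀ x ∈ E, P (nb E x)
  mu : ∀ x ∈ E, ∀ y ∈ An E x, M (Sp E x y)
  card : E.ncard = v
  an : ∀ x ∈ E, (An E x).ncard = a

theorem FI.tf {P M : Set G → Prop} {P' M' : Set X → Prop} {v a : ℕ} (h : FI β E E')
    (hP : ∀ {A A'}, FI β A A' → P A → P' A') (hM : ∀ {A A'}, FI β A A' → M A → M' A') (m : TF P M v a E) :
    TF P' M' v a E' :=
  ⟨h.t3', h.all.2 fun x hx => hP (h.nb hx) (m.loc x hx), h.all.2 fun x hx y hy => by
    obtain ⟨z, hz, rfl⟩ := h.bij.surjOn hy.1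
    exact hM (h.Sp hx hz) (m.mu x hx z ⟨hz, mt (h.comm hx hz).2 hy.2⟩), h.ncard.trans m.card,
    h.all.2 fun x hx => (h.ncard_An hx).trans (m.an x hx)⟩

/-- the triality space -/
structure M8 (S : Set G) : Prop where
  t3 : T3 S
  loc : ∀ x ∈ S, MO 7 (nb S x)
  card : S.ncard = 3240

/-- type `M(22)` -/
abbrev T22 (E : Set G) : Prop := TF (MU 6) (MO 6) 3510 2816 E
/-- type `M(23)` -/
abbrev T23 (E : Set G) : Prop := TF T22 (MO 7) 31671 28160 E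
/-- type `M(24)` -/
abbrev T24 (E : Set G) : Prop := TF T23 M8 306936 275264 E

theorem FI.m8 (h : FI β E E') (m : M8 E) : M8 E' :=
  ⟨h.t3', h.all.2 fun x hx => (h.nb hx).mo (m.loc x hx), h.ncard.trans m.card⟩
theorem FI.t22 (h : FI β E E') : T22 E → T22 E' := h.tf (·.mu) (·.mo)
theorem FI.t23 (h : FI β E E') : T23 E → T23 E' := h.tf FI.t22 (·.mo)
theorem FI.t24 (h : FI β E E') : T24 E → T24 E' := h.tf FI.t23 FI.m8

/-- the types of Fischer's list -/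
def Typ (E : Set G) : Prop := SY E ∨ (∃ n, 4 ≤ n ∧ MU n E) ∨ (∃ n, 5 ≤ n ∧ MO3 n E) ∨ T22 E ∨ T23 E ∨ T24 E

theorem FI.typ (h : FI β E E') (m : Typ E) : Typ E' :=
  m.imp h.sy (Or.imp (fun ⟨n, k, m⟩ => ⟨n, k, h.mu m⟩) (Or.imp (fun ⟨n, k, m⟩ => ⟨n, k, h.mo3 m⟩)
    (Or.imp h.t22 (Or.imp h.t23 h.t24))))

theorem nb_Sp (hx : x ∈ D) (hy : y ∈ An D x) (hz : z ∈ Sp D x y) :
    x ∈ nb D z ∧ y ∈ An (nb D z) x ∧ nb (Sp D x y) z = Sp (nb D z) x y :=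
  ⟨⟨hx, fun e => hy.2 (e ▸ hz.2.2.symm), hz.2.1.symm⟩, ⟨⟨hy.1, fun e => hy.2 (e ▸ hz.2.1), hz.2.2.symm⟩, hy.2⟩,
    Set.ext fun _ => ⟨fun h => ⟨⟨h.1.1, h.2⟩, h.1.2⟩, fun h => ⟨⟨h.1.1, h.2⟩, h.1.2⟩⟩⟩

theorem fi_equiv (hD : T3 D) (e : G ≃* X) (h : e '' D = E') : FI e D E' := h ▸ fi_inj hD e.toMonoidHom e.injective

theorem s5_sy (hD : T3 D) (e : G ≃* Perm (Fin 5)) (h : e '' D = {s | s.IsSwap}) : SY D := by
  have k : ∀ s : Perm (Fin 5), s.IsSwap → ∃ i j, i < j ∧ s = swap i j := by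
    rintro _ ⟨i, j, h, rfl⟩
    exact h.lt_or_gt.elim (fun h => ⟨i, j, h, rfl⟩) fun h => ⟨j, i, h, swap_comm _ _⟩
  refine (fi_equiv hD e h).sy_iff.1 fun x hx y hy z hz => ?_
  obtain ⟨i, j, h1, rfl⟩ := k x hx
  obtain ⟨l, m, h2, rfl⟩ := k y hy
  obtain ⟨p, q, h3, rfl⟩ := k z hz
  simp only [commute_iff_eq]
  clear hx hy hz
  revert i j; revert l m; revert p q
  decide +kernel

variable [Finite G]

theorem ncard_split (hd : d ∈ D) : D.ncard = 1 + (nb D d).ncard + (An D d).ncard := by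
  have : D = insert d (nb D d) ∪ An D d := Set.ext fun x => ⟨fun h => by
    by_cases c : Commute d x
    exacts [Or.inl (or_iff_not_imp_left.2 fun n => ⟨h, n, c⟩), Or.inr ⟨h, c⟩], by
    rintro ((rfl | h) | h)
    exacts [hd, h.1, h.1]⟩
  conv_lhs => rw [this]
  rw [Set.ncard_union_eq (Set.disjoint_left.2 (by
    rintro x (rfl | h) k
    exacts [k.2 (Commute.refl _), k.2 h.2.2])), Set.ncard_insert_of_notMem fun h => h.2.1 rfl, add_comm _ 1]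

theorem PC.srg' (hD : PC D) {k l : ℕ} (h1 : ∀ x ∈ D, (nb D x).ncard = k)
    (h2 : ∀ x ∈ D, ∀ y ∈ nb D x, (An (nb D x) y).ncard = l) (hd : d ∈ D) (ha : a ∈ An D d) :
    (An D d).ncard * (Sp D d a).ncard = k * l := by
  obtain ⟨x, hx⟩ := hD.nb_ne hD.w hd
  rw [hD.srg hd ha hx, h1 d hd, ← h2 x hx.1 d (nb_symm hd hx)]
  congr 2
  exact Set.ext fun _ => ⟨fun h => ⟨h.1, h.2.2⟩, fun h => ⟨h.1, h.1.1, h.2⟩⟩

theorem mu_step {n : ℕ} (hS : T3 S) (ne : S.Nonempty) (h5 : 5 ≤ n) (h : ∀ x ∈ S, MO n (nb S x)) :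
    MO (n + 1) S ∨ ∃ (j : ℕ) (C : Set G), MO (n + 1) C ∧ S.ncard = 3 ^ (j + 1) * C.ncard := by
  obtain ⟨p, hp⟩ := ne
  have l : LO n S := ⟨hS, h5, fun x hx => (h x hx).mo3⟩
  exact ((gd_of_loc hS ⟨p, hp⟩ fun x hx => (h x hx).mo3.gd h5).ncard hp).imp (fun c => l.mo c hp (h p hp)) fun ⟨j, e⟩ =>
    ⟨j, _, (l.cmp hp).mo (cn_cmp hp) (Cn.refl p) (nb_cmp hp (Cn.refl p) ▸ h p hp), e⟩

theorem PC.tf (hD : PC D) {P M : Set G → Prop} {k l m a v : ℕ} (hP : ∀ x ∈ D, P (nb D x)) (h1 : ∀ x ∈ D, (nb D x).ncard = k)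
    (h2 : ∀ x ∈ D, ∀ y ∈ nb D x, (An (nb D x) y).ncard = l) (e : k * l = a * m) (m0 : 0 < m) (hv : 1 + k + a = v)
    (hM : ∀ x ∈ D, ∀ y ∈ An D x, ∀ b, b * (Sp D x y).ncard = k * l → M (Sp D x y) ∧ (Sp D x y).ncard = m) :
    TF P M v a D := by
  have an : ∀ x ∈ D, (An D x).ncard = a := fun x hx => by
    obtain ⟨y, hy⟩ := hD.exists_nc hD.two hx
    have := hD.srg' h1 h2 hx hy
    rw [(hM x hx y hy _ this).2, e] at this
    exact Nat.eq_of_mul_eq_mul_right m0 this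
  obtain ⟨d, hd, -⟩ := hD.w
  exact ⟨hD.T3, hP, fun x hx y hy => (hM x hx y hy _ (hD.srg' h1 h2 hx hy)).1, by rw [ncard_split hd, h1 d hd, an d hd, hv], an⟩

theorem PC.t22 (hD : PC D) (h : ∀ x ∈ D, MU 6 (nb D x)) : T22 D :=
  hD.tf (m := 126) h (fun x hx => (h x hx).six) (fun x hx _ hy => (h x hx).an hy) (by norm_num) (by decide) (by norm_num)
    fun x hx y hy b e => by
    rcases mu_step (hD.T3.Sp x y) (hD.sp_ne hx hy.1 hy.2) le_rfl (fun z hz => by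
      obtain ⟨h1, h2, h3⟩ := nb_Sp hx hy hz
      exact h3 ▸ ((h z hz.1).Sp h1 h2).mo) with m | ⟨j, C, m, k⟩
    · exact ⟨m, m.six⟩
    · rw [k, m.six, pow_succ, mul_assoc, ← mul_assoc] at e
      omega

theorem PC.t23 (hD : PC D) (h : ∀ x ∈ D, T22 (nb D x)) : T23 D :=
  hD.tf (m := 351) h (fun x hx => (h x hx).card) (fun x hx => (h x hx).an) (by norm_num) (by decide) (by norm_num)
    fun x hx y hy b e => by
    rcases mu_step (hD.T3.Sp x y) (hD.sp_ne hx hy.1 hy.2) (n := 6) (by decide) (fun z hz => by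
      obtain ⟨h1, h2, h3⟩ := nb_Sp hx hy hz
      exact h3 ▸ (h z hz.1).mu x h1 y h2) with m | ⟨j, C, m, k⟩
    · exact ⟨m, m.seven⟩
    · rw [k, m.seven, pow_succ, mul_assoc, ← mul_assoc] at e
      omega

theorem PC.t24 (hD : PC D) (h : ∀ x ∈ D, T23 (nb D x)) : T24 D :=
  hD.tf (m := 3240) h (fun x hx => (h x hx).card) (fun x hx => (h x hx).an) (by norm_num) (by decide) (by norm_num)
    fun x hx y hy b e => by
    have l : ∀ z ∈ Sp D x y, MO 7 (nb (Sp D x y) z) := fun z hz => by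
      obtain ⟨h1, h2, h3⟩ := nb_Sp hx hy hz
      exact h3 ▸ (h z hz.1).mu x h1 y h2
    rcases mu_step (hD.T3.Sp x y) (hD.sp_ne hx hy.1 hy.2) (n := 7) (by decide) l with m | ⟨j, C, m, k⟩
    · have := hD.srg_sq (m := 1080) (Δ := 6027264) (fun x hx => (h x hx).card) (fun x hx y hy => ((h x hx).loc y hy).card)
        (fun u hu v hv => (hD.ncard_Sp hu hv.1 hx hy.1 hv.2 hy.2).trans m.eight) (by norm_num) (by
          rintro ⟨r, hr⟩
          rcases le_total r 2455 with h | h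
          · nlinarith
          · rcases h.eq_or_lt with rfl | h
            · omega
            · nlinarith)
      have p := (Set.ncard_pos).2 hD.gd.ne
      push_cast at this
      omega
    · rw [m.eight] at k
      rcases j with _ | j
      · exact ⟨⟨hD.T3.Sp x y, l, k⟩, k⟩
      · rw [k, pow_succ, pow_succ, mul_assoc, mul_assoc, ← mul_assoc] at e
        omega

theorem M8.gd (h : M8 S) : Gd S :=
  gd_of_loc h.t3 (Set.nonempty_of_ncard_ne_zero (by rw [h.card]; decide)) fun x hx => (h.loc x hx).mo3.gd (by decide)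

theorem M8.not_cn (h : M8 S) : ¬ ∀ a ∈ S, ∀ b ∈ S, Cn S a b := fun c => by
  obtain ⟨p, hp⟩ := h.gd.ne
  have := (LO.mo ⟨h.t3, by decide, fun x hx => (h.loc x hx).mo3⟩ c hp (h.loc p hp)).eight
  rw [h.card] at this
  exact absurd this (by decide)

theorem PC.not_t25 (hD : PC D) (h : ∀ x ∈ D, T24 (nb D x)) : False := by
  obtain ⟨x, hx, -⟩ := hD.w
  obtain ⟨y, hy⟩ := hD.exists_nc hD.two hx
  obtain ⟨p, hp⟩ := hD.sp_ne hx hy.1 hy.2
  have l : ∀ z ∈ cmp (Sp D x y) p, M8 (nb (cmp (Sp D x y) p) z) := fun z hz => by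
    obtain ⟨h1, h2, h3⟩ := nb_Sp hx hy (cmp_sub hp hz)
    exact nb_cmp hp hz ▸ h3 ▸ (h z (cmp_sub hp hz).1).mu x h1 y h2
  have t := (hD.T3.Sp x y).cmp hp
  have pc := (gd_of_loc t ⟨p, Cn.refl p⟩ fun z hz => (l z hz).gd).pc (cn_cmp hp)
  have hp' : inE (E := cmp (Sp D x y) p) (Cn.refl p) ∈ ins (cmp (Sp D x y) p) := Cn.refl p
  have f := (fi_ins t).nb hp'
  obtain ⟨_, g, -⟩ := f.symm
  have G := g.gd (l p (Cn.refl p)).gd
  have f' := (fi_ins f.t3).trans f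
  have pc' := pc.loc_pc hp' G.vt G.wt
  exact (l p (Cn.refl p)).not_cn (f'.all.2 fun a ha => f'.all.2 fun b hb => f'.cn (pc'.cn ha hb))

theorem PC.loc_all (hD : PC D) (hd : d ∈ D) (h2 : VT (nb D d)) (h3 : WT (nb D d)) : ∀ x ∈ D, PC (ins (nb D x)) :=
  fun _ hx => (hD.fi_nb hd hx).elim fun _ f => hD.loc_pc hx (f.vt h2) (f.wt h3)

theorem PC.mo3 {n : ℕ} (hD : PC D) (h5 : 5 ≤ n) (h : ∀ x ∈ D, MO3 n (nb D x)) : MO3 (n + 1) D :=
  hD.w.elim fun _ k => LO.mo3 ⟨hD.T3, h5, h⟩ (fun _ ha _ hb => hD.cn ha hb) k.1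

theorem PC.caseC (hD : PC D) (hd : d ∈ D) (h2 : VT (nb D d)) (h3 : WT (nb D d)) (h : Typ (nb D d)) :
    SY D ∨ (∃ n, 5 ≤ n ∧ MO3 n D) ∨ T22 D ∨ T23 D ∨ T24 D := by
  have hl := hD.loc_all hd h2 h3
  have tr : ∀ {P : Set G → Prop}, (∀ {β : G → G} {A A'}, FI β A A' → P A → P A') → P (nb D d) → ∀ x ∈ D, P (nb D x) :=
    fun k m x hx => (hD.fi_nb hd hx).elim fun _ f => k f m
  rcases h with h | ⟨n, h4, h⟩ | ⟨n, h5, h⟩ | h | h | h
  · exact or_iff_not_imp_left.2 fun n => Or.inl ⟨6, by decide, hD.mo3 le_rfl (hD.caseC1 hl (tr FI.sy h) n)⟩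
  · rcases h4.eq_or_lt with rfl | h5
    · exact Or.inr (Or.inl ⟨6, by decide, hD.mo3 le_rfl (tr (·.mo3) h.mo.mo3)⟩)
    rcases (show 5 ≤ n from h5).eq_or_lt with rfl | h6
    · exact (not_loc5 hD hl hd h).elim
    rcases (show 6 ≤ n from h6).eq_or_lt with rfl | h7
    · exact Or.inr (Or.inr (Or.inl (hD.t22 (tr (·.mu) h))))
    obtain ⟨k, rfl⟩ := Nat.exists_eq_add_of_le (show 7 ≤ n from h7)
    exact (not_loc7 hD.T3 hl hd (tr (·.mu) h)).elim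
  · exact Or.inr (Or.inl ⟨n + 1, by omega, hD.mo3 h5 (tr (·.mo3) h)⟩)
  · exact Or.inr (Or.inr (Or.inr (Or.inl (hD.t23 (tr FI.t22 h)))))
  · exact Or.inr (Or.inr (Or.inr (Or.inr (hD.t24 (tr FI.t23 h)))))
  · exact (hD.not_t25 (tr FI.t24 h)).elim

omit [Finite G] in
theorem typ_aux (n : ℕ) : ∀ {G : Type u} [Group G] [Finite G] {D : Set G}, PC D → D.ncard < n → Typ D := by
  induction n with
  | zero => exact fun _ h => absurd h (Nat.not_lt_zero _)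
  | succ n ih =>
    intro G _ _ D hD hn
    obtain ⟨_, g, -⟩ := hD.fi_quot.symm
    rw [g.ncard] at hn
    refine g.typ ?_
    have hZ := center_quot hD.T3 (hD.par hD.two) hD.gen
    have hE := hD.quot
    generalize QuotientGroup.mk '' D = E at hn hE
    obtain ⟨d, hd, -⟩ := hE.w
    by_cases h3 : WT (nb E d)
    swap
    · exact (hE.caseA hd h3).elim fun e h => Or.inl (s5_sy hE.T3 e h)
    by_cases h2 : VT (nb E d)
    swap
    · exact (hE.caseB hZ hd h2).imp (·.1) Or.inl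
    refine (hE.caseC hd h2 h3 ((fi_ins (hE.T3.nb d)).typ (ih (hE.loc_pc hd h2 h3) ?_))).imp_right Or.inr
    rw [ncard_ins]
    have := ncard_split hd
    omega

/-- **Fischer's theorem**, combinatorial form -/
theorem PC.typ (hD : PC D) : Typ D := typ_aux _ hD (Nat.lt_succ_self _)

theorem PC.caseC' (hD : PC D) (hd : d ∈ D) (h2 : VT (nb D d)) (h3 : WT (nb D d)) :
    SY D ∨ (∃ n, 5 ≤ n ∧ MO3 n D) ∨ T22 D ∨ T23 D ∨ T24 D :=
  hD.caseC hd h2 h3 ((fi_ins (hD.T3.nb d)).typ (hD.loc_pc hd h2 h3).typ)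

end H28
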