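import Cfsg.Agent.H2.Gd0

/-! A regular orbit of an abelian group on the linear characters of an abelian group of coprime order (`pR`). -/

set_option autoImplicit false

namespace H28.GdR
open Subgroup Cfsg H18 H5 H6 H8 H2.Gd
open scoped commutatorElement
universe u

section
variable {G : Type*} [Group G] {V D : Subgroup G} [hV : V.Normal]

/-- the inertia group of a linear character -/
abbrev Il (lam : V →* ℂˣ) : Subgroup G := inertia fun y => (lam y : ℂ)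

theorem mem_Il {lam : V →* ℂˣ} {g : G} :
    g ∈ Il lam ↔ ∀ n : V, lam ⟨g * n * g⁻¹, hV.conj_mem n n.2 g⟩ = lam n := by
  rw [mem_inertia']
  exact forall_congr' fun n => Units.val_inj

theorem triv {lam : V →* ℂˣ} (h : D ≤ Il lam) {y : G} (hy : y ∈ ⁅V, D⁆) (hy' : y ∈ V) : lam ⟨y, hy'⟩ = 1 := by
  have : ⁅V, D⁆ ≤ lam.ker.map V.subtype := commutator_le.2 fun v hv d hd =>
    ⟨⟨v, hv⟩ * ⟨d * (⟨v, hv⟩ : V)⁻¹ * d⁻¹, hV.conj_mem _ (inv_mem hv) d⟩, by
      have := mem_Il.1 (h hd) (⟨v, hv⟩ : V)⁻¹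
      rw [SetLike.mem_coe, MonoidHom.mem_ker, map_mul]
      erw [this]
      simp, by simp [commutatorElement_def, mul_assoc]⟩
  obtain ⟨z, hz, rfl⟩ := this hy
  exact hz
end

theorem pR : PR.{u} := by
  intro G _ _ V B hV aV aB cop
  obtain ⟨lam, -, hl⟩ := Set.exists_min_image (Set.univ : Set (V →* ℂˣ)) (fun l => Nat.card ↥(B ⊓ Il l))
    (Set.toFinite _) ⟨1, trivial⟩
  refine ⟨lam, ?_⟩
  by_contra h
  set D := B ⊓ Il lam with hD
  have nV : ∀ X : Subgroup G, X ≤ N(V) := fun X => le_top.trans (norm_top_iff.2 hV)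
  have c : H1.Cop D V := ⟨nV _, H1.coprime_of_le_left cop inf_le_left, Or.inr aV.solv⟩
  obtain ⟨g, hg, g1⟩ := SetLike.not_le_iff_exists.1 (show ¬ V ≤ C(D) from fun e => h (cent_symm e))
  obtain ⟨mu, m1, m2⟩ := exists_lin_ne_one (N := (C(D)).subgroupOf V) (g := ⟨g, hg⟩)
    (commutator_le.2 fun a _ b _ => by
      rw [commutatorElement_eq_one_iff_mul_comm.2 (Subtype.ext (comm_of_cent aV a.2 b.2))]; exact one_mem _) g1
  have XV : ⁅V, D⁆ ≤ V := comm_le_left (nV _)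
  have BD : B ≤ N(D) := aB.norm inf_le_left
  have le : B ⊓ Il (lam * mu) ≤ D := fun b hb => ⟨hb.1, mem_Il.2 fun n => by
    obtain ⟨y, hy, x, hx, e⟩ := c.exists_mul n.2
    have k := mem_Il.1 hb.2 ⟨x, hx.1⟩
    rw [MonoidHom.mul_apply, MonoidHom.mul_apply, m1 ⟨x, hx.1⟩ hx.2,
      m1 ⟨_, hV.conj_mem _ hx.1 b⟩ (conj_mem (norm_C BD) hb.1 hx.2), mul_one, mul_one] at k
    have k1 := triv (D := D) inf_le_right hy (XV hy)
    have k2 := triv (D := D) inf_le_right (conj_mem (norm_comm (nV B) BD) hb.1 hy) (hV.conj_mem _ (XV hy) b)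
    have e1 : n = ⟨y, XV hy⟩ * ⟨x, hx.1⟩ := Subtype.ext e
    have e2 : (⟨b * n * b⁻¹, hV.conj_mem n n.2 b⟩ : V) =
        ⟨_, hV.conj_mem _ (XV hy) b⟩ * ⟨_, hV.conj_mem _ hx.1 b⟩ := Subtype.ext (by simp [e, mul_assoc])
    rw [e2, map_mul, k2, k]
    conv_rhs => rw [e1, map_mul, k1]⟩
  have e := eq_of_card_ge le (hl _ trivial)
  obtain ⟨y, hy, x, hx, rfl⟩ := c.exists_mul hg
  have k1 := triv (D := D) inf_le_right hy (XV hy)
  have k2 := triv (D := D) (e.ge.trans inf_le_right) hy (XV hy)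
  rw [MonoidHom.mul_apply, k1, one_mul] at k2
  exact m2 (by rw [show (⟨y * x, hg⟩ : V) = ⟨y, XV hy⟩ * ⟨x, hx.1⟩ from rfl, map_mul, k2, m1 ⟨x, hx.1⟩ hx.2, one_mul])

end H28.GdR
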