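import Cfsg.Agent.H5.Kernel
import Cfsg.Prelude.Def_Blocks

/-! Assembly of S4591 from the two inclusions. -/
set_option autoImplicit false
namespace H28.KpA
open Subgroup Cfsg H5

theorem asm {G : Type*} [Group G] [Finite G] (p : ℕ) (T : Subgroup G)
    (hX : ∀ χ : G → ℂ, IsIrrCharacter G χ → ¬ p ∣ charDegree χ → T.normalCore ≤ charKer χ)
    (hY : ∀ (K : Subgroup G) [K.Normal], (∀ χ : G → ℂ, IsIrrCharacter G χ → ¬ p ∣ charDegree χ → K ≤ charKer χ) → K ≤ T) :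
    {g : G | ∀ χ : IrrCharacter G, ¬ p ∣ charDegree (χ : G → ℂ) → (χ : G → ℂ) g = (χ : G → ℂ) 1} =
      (T.normalCore : Set G) := by
  let K : Subgroup G := ⨅ χ : {χ : IrrCharacter G // ¬ p ∣ charDegree (χ : G → ℂ)}, charKer (χ.1 : G → ℂ)
  haveI : K.Normal := ⟨fun n hn g => mem_iInf.2 fun χ =>
    (χ.1.2.isCharacter.normal_charKer).conj_mem n (mem_iInf.1 hn χ) g⟩
  have hK : K ≤ T.normalCore :=
    (normal_le_normalCore).2 (hY K fun χ hχ hd => iInf_le_of_le ⟨⟨χ, hχ⟩, hd⟩ le_rfl)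
  ext g
  constructor
  · intro hg
    exact hK (mem_iInf.2 fun χ => (χ.1.2.isCharacter.mem_charKer).2 (hg χ.1 χ.2))
  · intro hg χ hd
    exact apply_eq_of_mem_charKer (hX χ χ.2 hd hg)

end H28.KpA
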