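import Cfsg.Agent.H15.TC2

/-! Coset enumeration certificate VA (chain for the unitary group U5(2), step VA), complete. -/
set_option maxRecDepth 8000
set_option Elab.async false
namespace H28.VA
open H15 H15.TC

noncomputable def tT : BT := (.node (nat_lit 1) (.leaf (nat_lit 0x7d30000c6fadd51e48200353c76297500000eb31bd45c3c200350b7fab6ce0800d3f15ea9a340002e0b7b4e64b0000ea7a8d31828000262e9f4b5c90400e9b4a9496201003a5d27a45470400b8748e8d418200347b73a24c40800d17a1e8124410039fd4a8d4500800d479386103c100392d439e3ce0000e7791d3ce3410039cd3b903450800d1b8fe6cc2c20034cc12532ca0400e374be68a08200343e33992480800d2798c1081c00038ae5f481c10800d0b96e24614100395d1b031440000e3b87d14404100394d0b860c00800d06cdb2820010038bd06c70400000e2385d04000000384e0f82))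
 (.node (nat_lit 2) (.leaf (nat_lit 0xd6b0400ab76c1cf4a01002aeda5b0ce70800da32eab72982003672c836c6400003bc73d9708c2003645a8efbe20800d8deb5d6e841000b2d8931b6000009d6f4d86c7c100276d82f4add0800d7bb689aa7000032a6c35da5b0000bad31d7286420035aed65f9d90400ed35ac9e6601003b3d66e89570800d63257b2458200357b9bb28d60000ec723d5e2540003b0b93568540000a67afd5604c100316d53ae))
 (.leaf (nat_lit 0x0))
))
noncomputable def tP : BT := (.node (nat_lit 1) (.leaf (nat_lit 0x802000001000401a03001000000602001000401201000000401a03000000401201001000000000001000401000001000000201603000000201000000401201000000401201000000401000000000000201c0a000401000001000000201000000000000001000000201000000401000000000401a05001000000201000000401000000000401000805000000000001000401000000000000201605000000000001000000201000000401201001000000201001000000000001000000000000))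
 (.node (nat_lit 2) (.leaf (nat_lit 0xa02201603000a02201603000401c05001000401a03001000802201001000401a03001000401c05001000401201601000401201001000401201601000401000803000802201001000401201001000401000803000000201603000000201001000401a03001000401201000000000602001000000201001000802000001000a02201000))
 (.leaf (nat_lit 0x0))
))
noncomputable def tS : BT := (.node (nat_lit 1) (.leaf (nat_lit 0x0))
 (.node (nat_lit 2) (.leaf (nat_lit 0x0))
 (.leaf (nat_lit 0x0))
))
def rels : List (List ℕ) := [[nat_lit 0,nat_lit 0],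
  [nat_lit 1,nat_lit 1],
  [nat_lit 2,nat_lit 2],
  [nat_lit 0,nat_lit 1,nat_lit 0,nat_lit 1,nat_lit 0,nat_lit 1],
  [nat_lit 0,nat_lit 2,nat_lit 0,nat_lit 2,nat_lit 0,nat_lit 2],
  [nat_lit 1,nat_lit 2,nat_lit 1,nat_lit 2,nat_lit 1,nat_lit 2],
  [nat_lit 1,nat_lit 0,nat_lit 1,nat_lit 2,nat_lit 1,nat_lit 0,nat_lit 1,nat_lit 2,nat_lit 1,nat_lit 0,nat_lit 1,nat_lit 2]]
def subs : List (List ℕ) := []
noncomputable def row (v : ℕ) : ℕ := mkRow (BT.get tT) (nat_lit 32) (nat_lit 58) (nat_lit 0x400000000000000) v
noncomputable def DC (c r : ℕ) : List ℕ := ruleC (nat_lit 0xfc00000000000000000000000000000000000000000000000000000000000000000000000000000000000000000c2040) (nat_lit 58) rels c r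
noncomputable def D1 (r : ℕ) : List ℕ := rule (nat_lit 0xfc00000000000000000000000000000000000000000000000000000000000000000000000000000000000000000c2040) (rels ++ subs.map (List.cons 63)) r
noncomputable def chk (v : ℕ) : Bool := chkRow row (nat_lit 10) (nat_lit 1024) (nat_lit 64) (nat_lit 0xfc00000000000000000000000000000000000000000000000000000000000000000000000000000000000000000c2040) (nat_lit 3) (nat_lit 54) (nat_lit 54) (nat_lit 17) (nat_lit 131072) (nat_lit 3584) (nat_lit 40) (nat_lit 12) (nat_lit 4096) DC D1 [nat_lit 0,nat_lit 1,nat_lit 2]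
  (mkRow (BT.get tP) (nat_lit 32) (nat_lit 48) (nat_lit 0x1000000000000) v) (Nat.rec 0 (fun j _ => BT.get tS j) (Nat.succ (Nat.div v (nat_lit 32)))) (Nat.succ v)
theorem c0 : allB chk 11 0 = true := by decide +kernel
theorem g0 : ∀ i < 1, allB chk 11 (0 + i) = true := (fl (c := 0) fl0 c0)
theorem call : ∀ i < 1, allB chk 11 i = true := (fl_add (a := 0) (b := 1) fl0 g0)
theorem sd : side (row 0) (nat_lit 58) (nat_lit 0x400000000000000) (nat_lit 10) (nat_lit 64) (nat_lit 0xfc00000000000000000000000000000000000000000000000000000000000000000000000000000000000000000c2040) (nat_lit 3) (nat_lit 54) (nat_lit 54) (nat_lit 40) 11 1 rels subs [nat_lit 0,nat_lit 1,nat_lit 2] = true := by decide +kernel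
theorem idx {G : Type*} [Group G] (gen : ℕ → G) (hrel : ∀ w ∈ rels, ev gen w = 1) (H : Subgroup G)
    (hsub : ∀ w ∈ subs, ev gen w ∈ H) :
    H.relIndex (Subgroup.closure (gen '' Set.Iio 3)) ≠ 0 ∧ H.relIndex (Subgroup.closure (gen '' Set.Iio 3)) ≤ 54 :=
  TC.idx (by decide) (final (fun _ => rfl) (fun _ _ => rfl) (fun _ => rfl) (fun _ h => ⟨_, _, h⟩) sd call hrel hsub)
noncomputable def ok (w : List ℕ) : Bool := w.all (fun x => decide (x < (nat_lit 3))) && Nat.beq (walk row (nat_lit 10) (nat_lit 1024) (nat_lit 64) 0 w 1) 1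
theorem mem {G : Type*} [Group G] (gen : ℕ → G) (hrel : ∀ w ∈ rels, ev gen w = 1) (H : Subgroup G)
    (hsub : ∀ w ∈ subs, ev gen w ∈ H) {w : List ℕ} (hw : ok w = true) : ev gen w ∈ H :=
  TC.mem (final (fun _ => rfl) (fun _ _ => rfl) (fun _ => rfl) (fun _ h => ⟨_, _, h⟩) sd call hrel hsub) hw

end H28.VA
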