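import Cfsg.Agent.H14.Dw2

/-! Generated certificate (tools14/pkgen) for the permutation group QH of degree 24, order 432, base 0 3 4. -/
set_option autoImplicit false
set_option maxRecDepth 100000

namespace H28.QH
open H14

noncomputable def n0 : Net := (.cons (nat_lit 1) (nat_lit 0x550150)
(.cons (nat_lit 2) (nat_lit 0x212130)
(.cons (nat_lit 4) (nat_lit 0x50000)
(.cons (nat_lit 8) (nat_lit 0x29)
(.cons (nat_lit 16) (nat_lit 0xeb)
(.cons (nat_lit 8) (nat_lit 0xbe)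
(.cons (nat_lit 4) (nat_lit 0xd0303)
(.cons (nat_lit 2) (nat_lit 0x20333)
(.cons (nat_lit 1) (nat_lit 0x154055)
.nil)))))))))
theorem n0_ok : Net.ok 24 n0 = true := by decide +kernel
noncomputable def n1 : Net := (.cons (nat_lit 1) (nat_lit 0x551514)
(.cons (nat_lit 2) (nat_lit 0x230010)
(.cons (nat_lit 4) (nat_lit 0x100)
(.cons (nat_lit 8) (nat_lit 0x84)
(.cons (nat_lit 16) (nat_lit 0xcc)
(.cons (nat_lit 8) (nat_lit 0xc7)
(.cons (nat_lit 4) (nat_lit 0x40d02)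
(.cons (nat_lit 2) (nat_lit 0x210010)
(.cons (nat_lit 1) (nat_lit 0x150514)
.nil)))))))))
theorem n1_ok : Net.ok 24 n1 = true := by decide +kernel
noncomputable def n2 : Net := (.cons (nat_lit 1) (nat_lit 0x11100)
(.cons (nat_lit 2) (nat_lit 0x112000)
(.cons (nat_lit 4) (nat_lit 0xb0300)
(.cons (nat_lit 8) (nat_lit 0x4a)
(.cons (nat_lit 16) (nat_lit 0x7e)
(.cons (nat_lit 8) (nat_lit 0xe9)
(.cons (nat_lit 4) (nat_lit 0xb050f)
(.cons (nat_lit 2) (nat_lit 0x120000)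
(.cons (nat_lit 1) (nat_lit 0x104145)
.nil)))))))))
theorem n2_ok : Net.ok 24 n2 = true := by decide +kernel
noncomputable def n3 : Net := (.cons (nat_lit 1) (nat_lit 0x44404)
(.cons (nat_lit 2) (nat_lit 0x130100)
(.cons (nat_lit 4) (nat_lit 0x70600)
(.cons (nat_lit 8) (nat_lit 0x1c)
(.cons (nat_lit 16) (nat_lit 0x3c)
(.cons (nat_lit 8) (nat_lit 0x38)
(.cons (nat_lit 4) (nat_lit 0x50a04)
(.cons (nat_lit 2) (nat_lit 0x111122)
(.cons (nat_lit 1) (nat_lit 0x100545)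
.nil)))))))))
theorem n3_ok : Net.ok 24 n3 = true := by decide +kernel
noncomputable def n4 : Net := (.cons (nat_lit 1) (nat_lit 0x415104)
(.cons (nat_lit 2) (nat_lit 0x112210)
(.cons (nat_lit 4) (nat_lit 0xc00)
(.cons (nat_lit 8) (nat_lit 0x42)
(.cons (nat_lit 16) (nat_lit 0xc6)
(.cons (nat_lit 8) (nat_lit 0xf6)
(.cons (nat_lit 4) (nat_lit 0x20c04)
(.cons (nat_lit 2) (nat_lit 0x302032)
(.cons (nat_lit 1) (nat_lit 0x100014)
.nil)))))))))
theorem n4_ok : Net.ok 24 n4 = true := by decide +kernel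
noncomputable def n5 : Net := (.cons (nat_lit 1) (nat_lit 0x54500)
(.cons (nat_lit 2) (nat_lit 0x102100)
(.cons (nat_lit 4) (nat_lit 0x10c00)
(.cons (nat_lit 8) (nat_lit 0xf)
(.cons (nat_lit 16) (nat_lit 0xf)
(.cons (nat_lit 8) (nat_lit 0xdf)
(.cons (nat_lit 4) (nat_lit 0x10c00)
(.cons (nat_lit 2) (nat_lit 0x102100)
(.cons (nat_lit 1) (nat_lit 0x154500)
.nil)))))))))
theorem n5_ok : Net.ok 24 n5 = true := by decide +kernel
noncomputable def n6 : Net := (.cons (nat_lit 1) (nat_lit 0x404004)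
(.cons (nat_lit 2) (nat_lit 0x230300)
(.cons (nat_lit 4) (nat_lit 0x30800)
(.cons (nat_lit 8) (nat_lit 0xf)
(.cons (nat_lit 16) (nat_lit 0x9f)
(.cons (nat_lit 8) (nat_lit 0xf)
(.cons (nat_lit 4) (nat_lit 0x30800)
(.cons (nat_lit 2) (nat_lit 0x230302)
(.cons (nat_lit 1) (nat_lit 0x405004)
.nil)))))))))
theorem n6_ok : Net.ok 24 n6 = true := by decide +kernel
noncomputable def nets : List Net := [n0, n1, n2, n3, n4, n5, n6]
theorem nets_ok : netsOk 24 nets = true := List.all_eq_true.2 (fa_cons n0_ok (fa_cons n1_ok (fa_cons n2_ok (fa_cons n3_ok (fa_cons n4_ok (fa_cons n5_ok (fa_cons n6_ok (fa_nil))))))))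
noncomputable def ws3 : List Word := []
noncomputable def lev2 : Level := ⟨nat_lit 4,
[⟨[nat_lit 10], [], [],
[⟨nat_lit 0, [], nat_lit 1, [], []⟩,
⟨nat_lit 1, [], nat_lit 0, [], []⟩,
⟨nat_lit 2, [], nat_lit 3, [], []⟩,
⟨nat_lit 3, [], nat_lit 2, [], []⟩],
[]⟩,
⟨[nat_lit 12], [], [],
[⟨nat_lit 0, [], nat_lit 2, [], []⟩,
⟨nat_lit 1, [], nat_lit 3, [], []⟩,
⟨nat_lit 2, [], nat_lit 0, [], []⟩,
⟨nat_lit 3, [], nat_lit 1, [], []⟩],
[]⟩],
[⟨dw (nat_lit 0x01), (nat_lit 0x1000), [], .nil, []⟩,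
⟨dw (nat_lit 0x03), (nat_lit 0x40000), [], .nil, []⟩,
⟨dw (nat_lit 0x0301), (nat_lit 0x2000), [], .nil, []⟩]⟩
noncomputable def ex2 : List Word := []
noncomputable def ws2 : List Word := List.append ex2 (lev2.gens ws3)
noncomputable def rels2 : List (Word × Word) := List.append (lev2.rels ws3) (memRels (lev2.gens ws3) ex2 [])
noncomputable def lev1 : Level := ⟨nat_lit 3,
[⟨[nat_lit 8], [], [],
[⟨nat_lit 0, [], nat_lit 1, [], []⟩,
⟨nat_lit 1, [], nat_lit 2, [], []⟩,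
⟨nat_lit 2, [], nat_lit 3, [], []⟩,
⟨nat_lit 3, [], nat_lit 2, dw (nat_lit 0x01), dw (nat_lit 0x01)⟩,
⟨nat_lit 1, dw (nat_lit 0x01), nat_lit 3, dw (nat_lit 0x01), dw (nat_lit 0x0301)⟩,
⟨nat_lit 1, dw (nat_lit 0x03), nat_lit 0, [], dw (nat_lit 0x03)⟩,
⟨nat_lit 2, dw (nat_lit 0x01), nat_lit 1, dw (nat_lit 0x03), dw (nat_lit 0x0301)⟩,
⟨nat_lit 3, dw (nat_lit 0x01), nat_lit 1, dw (nat_lit 0x0301), dw (nat_lit 0x01)⟩,
⟨nat_lit 1, dw (nat_lit 0x0301), nat_lit 1, dw (nat_lit 0x01), dw (nat_lit 0x01)⟩],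
[]⟩],
[⟨dw (nat_lit 0x01), (nat_lit 0x43010), [dw (nat_lit 0x01), dw (nat_lit 0x03)], .nil, []⟩,
⟨dw (nat_lit 0x0101), (nat_lit 0x10100), [dw (nat_lit 0x01)], (.cons (nat_lit 4) [dw (nat_lit 0x0203)] [dw (nat_lit 0x01)]
.nil), [dw (nat_lit 0x0301)]⟩,
⟨dw (nat_lit 0x010101), (nat_lit 0x240), [dw (nat_lit 0x01)], (.cons (nat_lit 4) [dw (nat_lit 0x03)] [dw (nat_lit 0x01)]
.nil), [dw (nat_lit 0x03)]⟩]⟩
noncomputable def ex1 : List Word := []
noncomputable def ws1 : List Word := List.append ex1 (lev1.gens ws2)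
noncomputable def rels1 : List (Word × Word) := List.append (lev1.rels ws2) (memRels (lev1.gens ws2) ex1 [])
noncomputable def lev0 : Level := ⟨nat_lit 0,
[⟨[nat_lit 0], [dw (nat_lit 0x03), dw (nat_lit 0x05)], [dw (nat_lit 0x010105), dw (nat_lit 0x0205)],
[⟨nat_lit 0, [], nat_lit 1, [], []⟩,
⟨nat_lit 1, [], nat_lit 1, dw (nat_lit 0x0103), dw (nat_lit 0x0103)⟩,
⟨nat_lit 2, [], nat_lit 1, dw (nat_lit 0x0203), dw (nat_lit 0x010103)⟩,
⟨nat_lit 1, dw (nat_lit 0x02), nat_lit 2, [], []⟩,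
⟨nat_lit 1, dw (nat_lit 0x0103), nat_lit 0, [], dw (nat_lit 0x0302)⟩,
⟨nat_lit 1, dw (nat_lit 0x0203), nat_lit 1, dw (nat_lit 0x02), dw (nat_lit 0x010103)⟩],
[dw (nat_lit 0x01), dw (nat_lit 0x03)]⟩],
[⟨dw (nat_lit 0x01), (nat_lit 0x53358), [dw (nat_lit 0x01), dw (nat_lit 0x03), dw (nat_lit 0x01), dw (nat_lit 0x03)], (.cons (nat_lit 3) [dw (nat_lit 0x0205), dw (nat_lit 0x0104040105)] [dw (nat_lit 0x01), dw (nat_lit 0x03)]
.nil), [dw (nat_lit 0x05), dw (nat_lit 0x03)]⟩,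
⟨dw (nat_lit 0x010401), (nat_lit 0x6), [dw (nat_lit 0x01)], (.cons (nat_lit 3) [dw (nat_lit 0x0205), dw (nat_lit 0x0204020205)] [dw (nat_lit 0x01), dw (nat_lit 0x05), dw (nat_lit 0x03), dw (nat_lit 0x05)]
(.cons (nat_lit 4) [dw (nat_lit 0x03)] [dw (nat_lit 0x01)]
.nil)), [dw (nat_lit 0x03), dw (nat_lit 0x030205), dw (nat_lit 0x020203)]⟩]⟩
noncomputable def ex0 : List Word := [[nat_lit 2], [nat_lit 4], [nat_lit 6]]
noncomputable def ws0 : List Word := List.append ex0 (lev0.gens ws1)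
noncomputable def rels0 : List (Word × Word) := List.append (lev0.rels ws1) (memRels (lev0.gens ws1) ex0 [dw (nat_lit 0x01050405), dw (nat_lit 0x01040407), dw (nat_lit 0x0203020404)])
noncomputable def rels : List (Word × Word) := List.append rels0 (List.append rels1 (List.append rels2 ([])))
noncomputable def defs : List Word := [dw (nat_lit 0x08020308), dw (nat_lit 0x070503), dw (nat_lit 0x090c090b0a0a0a0b)]
noncomputable def relsD : List (Word × Word) := defRels defs 4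
noncomputable def relsO : List (Word × Word) := memRels ws0 (lets 4) [dw (nat_lit 0x010b090b), dw (nat_lit 0x01), dw (nat_lit 0x01090b09), dw (nat_lit 0x05)]
noncomputable def relsS : List (Word × Word) := []
noncomputable def allRels : List (Word × Word) := List.append rels (List.append relsD (List.append relsO relsS))
theorem chk2 : lev2.chk 24 nets ws3 1 4 = true := by decide +kernel
theorem chk1 : lev1.chk 24 nets ws2 4 36 = true := by decide +kernel
theorem chk0 : lev0.chk 24 nets ws1 36 432 = true := by decide +kernel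
theorem rc0 : relsChk 24 nets 5 (idArr 24 5 5 0) allRels = true := by decide +kernel
section
variable {Γ Ω : Type*} [Group Γ] [MulAction Γ Ω] (M : PM Γ Ω 24 nets)

theorem all_ok (hs : M.Sep 5 (idArr 24 5 5 0)) : Rels M.gen allRels := (M.rels_of_chk hs rc0)
theorem sep [FaithfulSMul Γ Ω] : M.Sep 5 (idArr 24 5 5 0) := M.sep_idArr (by decide)
theorem all_ok' [FaithfulSMul Γ Ω] : Rels M.gen allRels := all_ok M (sep M)
theorem rels_of_all {gen : ℕ → Γ} (h : Rels gen allRels) : Rels gen rels := Rels.left h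
theorem relsD_of_all {gen : ℕ → Γ} (h : Rels gen allRels) : Rels gen relsD := Rels.left (Rels.right h)
theorem relsO_of_all {gen : ℕ → Γ} (h : Rels gen allRels) : Rels gen relsO := Rels.left (Rels.right (Rels.right h))
theorem relsS_of_all {gen : ℕ → Γ} (h : Rels gen allRels) : Rels gen relsS := Rels.right (Rels.right (Rels.right h))
theorem card3 (_hR : Rels M.gen rels) : Nat.card (sub M.gen ws3) = 1 := M.card_nil
theorem fixw3 (_hR : Rels M.gen rels) : M.FixTriv ws3 [] := M.fixTriv_nil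
theorem r2 (hR : Rels M.gen rels) : Rels M.gen rels2 := (Rels.left (Rels.right (Rels.right hR)))
theorem res2 (hR : Rels M.gen rels) : M.LevelRes ws3 lev2 4 := M.level (card3 M hR) chk2 (Rels.left (r2 M hR))
theorem ext2 (hR : Rels M.gen rels) : sub M.gen ws2 = sub M.gen (lev2.gens ws3) := sub_extend (Rels.right (r2 M hR))
theorem card2 (hR : Rels M.gen rels) : Nat.card (sub M.gen ws2) = 4 := by rw [ext2 M hR]; exact (res2 M hR).card
theorem fix2 (hR : Rels M.gen rels) : M.FixTriv (lev2.gens ws3) [4] := (res2 M hR).fixTriv M (fixw3 M hR)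
theorem fixw2 (hR : Rels M.gen rels) : M.FixTriv ws2 [4] := fun g hg => fix2 M hR g (ext2 M hR ▸ hg)
theorem stab2 (hR : Rels M.gen rels) : sub M.gen ws2 ⊓ MulAction.stabilizer Γ (M.dec 4) = sub M.gen ws3 := by rw [ext2 M hR]; exact (res2 M hR).stab
theorem orb2 (hR : Rels M.gen rels) (y : Ω) : y ∈ M.S lev2.orb ↔ ∃ g ∈ sub M.gen ws2, g • M.dec 4 = y := by rw [ext2 M hR]; exact (res2 M hR).orb y
theorem r1 (hR : Rels M.gen rels) : Rels M.gen rels1 := (Rels.left (Rels.right hR))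
theorem res1 (hR : Rels M.gen rels) : M.LevelRes ws2 lev1 36 := M.level (card2 M hR) chk1 (Rels.left (r1 M hR))
theorem ext1 (hR : Rels M.gen rels) : sub M.gen ws1 = sub M.gen (lev1.gens ws2) := sub_extend (Rels.right (r1 M hR))
theorem card1 (hR : Rels M.gen rels) : Nat.card (sub M.gen ws1) = 36 := by rw [ext1 M hR]; exact (res1 M hR).card
theorem fix1 (hR : Rels M.gen rels) : M.FixTriv (lev1.gens ws2) [3, 4] := (res1 M hR).fixTriv M (fixw2 M hR)
theorem fixw1 (hR : Rels M.gen rels) : M.FixTriv ws1 [3, 4] := fun g hg => fix1 M hR g (ext1 M hR ▸ hg)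
theorem stab1 (hR : Rels M.gen rels) : sub M.gen ws1 ⊓ MulAction.stabilizer Γ (M.dec 3) = sub M.gen ws2 := by rw [ext1 M hR]; exact (res1 M hR).stab
theorem orb1 (hR : Rels M.gen rels) (y : Ω) : y ∈ M.S lev1.orb ↔ ∃ g ∈ sub M.gen ws1, g • M.dec 3 = y := by rw [ext1 M hR]; exact (res1 M hR).orb y
theorem r0 (hR : Rels M.gen rels) : Rels M.gen rels0 := (Rels.left hR)
theorem res0 (hR : Rels M.gen rels) : M.LevelRes ws1 lev0 432 := M.level (card1 M hR) chk0 (Rels.left (r0 M hR))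
theorem ext0 (hR : Rels M.gen rels) : sub M.gen ws0 = sub M.gen (lev0.gens ws1) := sub_extend (Rels.right (r0 M hR))
theorem card0 (hR : Rels M.gen rels) : Nat.card (sub M.gen ws0) = 432 := by rw [ext0 M hR]; exact (res0 M hR).card
theorem fix0 (hR : Rels M.gen rels) : M.FixTriv (lev0.gens ws1) [0, 3, 4] := (res0 M hR).fixTriv M (fixw1 M hR)
theorem fixw0 (hR : Rels M.gen rels) : M.FixTriv ws0 [0, 3, 4] := fun g hg => fix0 M hR g (ext0 M hR ▸ hg)
theorem stab0 (hR : Rels M.gen rels) : sub M.gen ws0 ⊓ MulAction.stabilizer Γ (M.dec 0) = sub M.gen ws1 := by rw [ext0 M hR]; exact (res0 M hR).stab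
theorem orb0 (hR : Rels M.gen rels) (y : Ω) : y ∈ M.S lev0.orb ↔ ∃ g ∈ sub M.gen ws0, g • M.dec 0 = y := by rw [ext0 M hR]; exact (res0 M hR).orb y
theorem orig_eq {gen : ℕ → Γ} (h : Rels gen allRels) : sub gen (lets 4) = sub gen ws0 :=
  sub_lets_eq_of_rels (ds := defs) (by decide +kernel) (relsD_of_all h) (by decide +kernel) (relsO_of_all h)
theorem gen_mem {gen : ℕ → Γ} (h : Rels gen allRels) {X : Subgroup Γ} (h0 : ∀ l < 4, gen l ∈ X) : sub gen ws0 ≤ X :=
  sub_le_of_wsIn (lo := 0) (gen_mem_of_defRels (ds := defs) (fun l _ hl => h0 l hl) (by decide +kernel) (relsD_of_all h)) (by decide +kernel)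

end

end H28.QH
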