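import Cfsg.Agent.H14.Dw2

/-! Generated certificate (tools14/pkgen) for the permutation group QL of degree 24, order 660, base 1 2 4. -/
set_option autoImplicit false
set_option maxRecDepth 100000

namespace H28.QL
open H14

noncomputable def n0 : Net := (.cons (nat_lit 1) (nat_lit 0x55410)
(.cons (nat_lit 2) (nat_lit 0x101300)
(.cons (nat_lit 4) (nat_lit 0x80700)
(.cons (nat_lit 8) (nat_lit 0x43)
(.cons (nat_lit 16) (nat_lit 0xc3)
(.cons (nat_lit 8) (nat_lit 0x19)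
(.cons (nat_lit 4) (nat_lit 0xc090a)
(.cons (nat_lit 2) (nat_lit 0x33112)
(.cons (nat_lit 1) (nat_lit 0x141454)
.nil)))))))))
theorem n0_ok : Net.ok 24 n0 = true := by decide +kernel
noncomputable def n1 : Net := (.cons (nat_lit 1) (nat_lit 0x154040)
(.cons (nat_lit 2) (nat_lit 0x232030)
(.cons (nat_lit 4) (nat_lit 0x70100)
(.cons (nat_lit 8) (nat_lit 0x74)
(.cons (nat_lit 16) (nat_lit 0xf4)
(.cons (nat_lit 8) (nat_lit 0xe2)
(.cons (nat_lit 4) (nat_lit 0x70e06)
(.cons (nat_lit 2) (nat_lit 0x201030)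
(.cons (nat_lit 1) (nat_lit 0x40054)
.nil)))))))))
theorem n1_ok : Net.ok 24 n1 = true := by decide +kernel
noncomputable def n2 : Net := (.cons (nat_lit 1) (nat_lit 0x154040)
(.cons (nat_lit 2) (nat_lit 0x232030)
(.cons (nat_lit 4) (nat_lit 0x70100)
(.cons (nat_lit 8) (nat_lit 0x74)
(.cons (nat_lit 16) (nat_lit 0xf4)
(.cons (nat_lit 8) (nat_lit 0xe2)
(.cons (nat_lit 4) (nat_lit 0x70e06)
(.cons (nat_lit 2) (nat_lit 0x201030)
(.cons (nat_lit 1) (nat_lit 0x40054)
.nil)))))))))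
theorem n2_ok : Net.ok 24 n2 = true := by decide +kernel
noncomputable def n3 : Net := (.cons (nat_lit 1) (nat_lit 0x141454)
(.cons (nat_lit 2) (nat_lit 0x100220)
(.cons (nat_lit 4) (nat_lit 0x90c00)
(.cons (nat_lit 8) (nat_lit 0x4)
(.cons (nat_lit 16) (nat_lit 0x96)
(.cons (nat_lit 8) (nat_lit 0xf4)
(.cons (nat_lit 4) (nat_lit 0x8070a)
(.cons (nat_lit 2) (nat_lit 0x32032)
(.cons (nat_lit 1) (nat_lit 0x55410)
.nil)))))))))
theorem n3_ok : Net.ok 24 n3 = true := by decide +kernel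
noncomputable def n4 : Net := (.cons (nat_lit 1) (nat_lit 0x150040)
(.cons (nat_lit 2) (nat_lit 0x23200)
(.cons (nat_lit 4) (nat_lit 0xa0100)
(.cons (nat_lit 8) (nat_lit 0x85)
(.cons (nat_lit 16) (nat_lit 0xf5)
(.cons (nat_lit 8) (nat_lit 0x85)
(.cons (nat_lit 4) (nat_lit 0xf0c08)
(.cons (nat_lit 2) (nat_lit 0x32320)
(.cons (nat_lit 1) (nat_lit 0x11454)
.nil)))))))))
theorem n4_ok : Net.ok 24 n4 = true := by decide +kernel
noncomputable def n5 : Net := (.cons (nat_lit 1) (nat_lit 0x150040)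
(.cons (nat_lit 2) (nat_lit 0x110200)
(.cons (nat_lit 4) (nat_lit 0xb0500)
(.cons (nat_lit 8) (nat_lit 0xb4)
(.cons (nat_lit 16) (nat_lit 0xf4)
(.cons (nat_lit 8) (nat_lit 0xcc)
(.cons (nat_lit 4) (nat_lit 0xf0008)
(.cons (nat_lit 2) (nat_lit 0x112200)
(.cons (nat_lit 1) (nat_lit 0x11050)
.nil)))))))))
theorem n5_ok : Net.ok 24 n5 = true := by decide +kernel
noncomputable def n6 : Net := (.cons (nat_lit 1) (nat_lit 0x450000)
(.cons (nat_lit 2) (nat_lit 0x312200)
(.cons (nat_lit 4) (nat_lit 0x20100)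
(.cons (nat_lit 8) (nat_lit 0x46)
(.cons (nat_lit 16) (nat_lit 0x46)
(.cons (nat_lit 8) (nat_lit 0x7e)
(.cons (nat_lit 4) (nat_lit 0x20100)
(.cons (nat_lit 2) (nat_lit 0x332200)
(.cons (nat_lit 1) (nat_lit 0x451000)
.nil)))))))))
theorem n6_ok : Net.ok 24 n6 = true := by decide +kernel
noncomputable def nets : List Net := [n0, n1, n2, n3, n4, n5, n6]
theorem nets_ok : netsOk 24 nets = true := List.all_eq_true.2 (fa_cons n0_ok (fa_cons n1_ok (fa_cons n2_ok (fa_cons n3_ok (fa_cons n4_ok (fa_cons n5_ok (fa_cons n6_ok (fa_nil))))))))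
noncomputable def ws3 : List Word := []
noncomputable def lev2 : Level := ⟨nat_lit 4,
[⟨[nat_lit 10], [], [],
[⟨nat_lit 0, [], nat_lit 1, [], []⟩,
⟨nat_lit 1, [], nat_lit 2, [], []⟩,
⟨nat_lit 2, [], nat_lit 0, [], []⟩,
⟨nat_lit 3, [], nat_lit 5, [], []⟩,
⟨nat_lit 4, [], nat_lit 3, [], []⟩,
⟨nat_lit 5, [], nat_lit 4, [], []⟩],
[]⟩,
⟨[nat_lit 12], [], [],
[⟨nat_lit 0, [], nat_lit 3, [], []⟩,
⟨nat_lit 1, [], nat_lit 4, [], []⟩,
⟨nat_lit 2, [], nat_lit 5, [], []⟩,
⟨nat_lit 3, [], nat_lit 0, [], []⟩,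
⟨nat_lit 4, [], nat_lit 1, [], []⟩,
⟨nat_lit 5, [], nat_lit 2, [], []⟩],
[]⟩],
[⟨dw (nat_lit 0x01), (nat_lit 0x2000), [], .nil, []⟩,
⟨dw (nat_lit 0x02), (nat_lit 0x10000), [], .nil, []⟩,
⟨dw (nat_lit 0x03), (nat_lit 0x100), [], .nil, []⟩,
⟨dw (nat_lit 0x0301), (nat_lit 0x1000), [], .nil, []⟩,
⟨dw (nat_lit 0x0302), (nat_lit 0x40000), [], .nil, []⟩]⟩
noncomputable def ex2 : List Word := []
noncomputable def ws2 : List Word := List.append ex2 (lev2.gens ws3)
noncomputable def rels2 : List (Word × Word) := List.append (lev2.rels ws3) (memRels (lev2.gens ws3) ex2 [])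
noncomputable def lev1 : Level := ⟨nat_lit 2,
[⟨[nat_lit 8], [dw (nat_lit 0x03)], [dw (nat_lit 0x0301)],
[⟨nat_lit 0, [], nat_lit 1, [], []⟩,
⟨nat_lit 1, [], nat_lit 2, [], []⟩,
⟨nat_lit 2, [], nat_lit 2, dw (nat_lit 0x0302), dw (nat_lit 0x0302)⟩,
⟨nat_lit 1, dw (nat_lit 0x02), nat_lit 0, [], dw (nat_lit 0x01)⟩,
⟨nat_lit 2, dw (nat_lit 0x01), nat_lit 2, dw (nat_lit 0x02), dw (nat_lit 0x0301)⟩,
⟨nat_lit 2, dw (nat_lit 0x02), nat_lit 1, dw (nat_lit 0x01), []⟩],
[dw (nat_lit 0x01)]⟩],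
[⟨dw (nat_lit 0x01), (nat_lit 0x248), [dw (nat_lit 0x01), dw (nat_lit 0x01)], (.cons (nat_lit 4) [dw (nat_lit 0x0203)] [dw (nat_lit 0x01)]
.nil), [dw (nat_lit 0x03)]⟩,
⟨dw (nat_lit 0x0101), (nat_lit 0x53110), [dw (nat_lit 0x01), dw (nat_lit 0x03), dw (nat_lit 0x01)], .nil, []⟩]⟩
noncomputable def ex1 : List Word := []
noncomputable def ws1 : List Word := List.append ex1 (lev1.gens ws2)
noncomputable def rels1 : List (Word × Word) := List.append (lev1.rels ws2) (memRels (lev1.gens ws2) ex1 [])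
noncomputable def lev0 : Level := ⟨nat_lit 1,
[⟨[nat_lit 4], [dw (nat_lit 0x040101), dw (nat_lit 0x05)], [dw (nat_lit 0x0401010504), dw (nat_lit 0x0203)],
[⟨nat_lit 0, [], nat_lit 1, [], []⟩,
⟨nat_lit 1, [], nat_lit 1, dw (nat_lit 0x04), dw (nat_lit 0x04010103)⟩,
⟨nat_lit 1, dw (nat_lit 0x01), nat_lit 1, dw (nat_lit 0x0501), dw (nat_lit 0x03010104)⟩,
⟨nat_lit 1, dw (nat_lit 0x030101), nat_lit 0, [], dw (nat_lit 0x020204)⟩],
[dw (nat_lit 0x03), dw (nat_lit 0x01), dw (nat_lit 0x03)]⟩],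
[⟨dw (nat_lit 0x01), (nat_lit 0x5335c), [dw (nat_lit 0x01), dw (nat_lit 0x05), dw (nat_lit 0x01), dw (nat_lit 0x03), dw (nat_lit 0x01)], (.cons (nat_lit 2) [dw (nat_lit 0x010105), dw (nat_lit 0x0202030204)] [dw (nat_lit 0x01), dw (nat_lit 0x03), dw (nat_lit 0x01)]
.nil), [dw (nat_lit 0x020203), dw (nat_lit 0x05)]⟩]⟩
noncomputable def ex0 : List Word := [[nat_lit 6]]
noncomputable def ws0 : List Word := List.append ex0 (lev0.gens ws1)
noncomputable def rels0 : List (Word × Word) := List.append (lev0.rels ws1) (memRels (lev0.gens ws1) ex0 [dw (nat_lit 0x0402050306)])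
noncomputable def prim0 : List (List Word) := [[dw (nat_lit 0x01), dw (nat_lit 0x0203), dw (nat_lit 0x05), dw (nat_lit 0x01), dw (nat_lit 0x01)]]
noncomputable def rels : List (Word × Word) := List.append rels0 (List.append rels1 (List.append rels2 ([])))
noncomputable def defs : List Word := [dw (nat_lit 0x03), dw (nat_lit 0x0401030203), dw (nat_lit 0x08060606070606), dw (nat_lit 0x050706080508080808), dw (nat_lit 0x0a0a0c090c0c09090c0c0a0c0909)]
noncomputable def relsD : List (Word × Word) := defRels defs 2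
noncomputable def relsO : List (Word × Word) := memRels ws0 (lets 2) [dw (nat_lit 0x02), dw (nat_lit 0x03)]
noncomputable def zc : Word := dw (nat_lit 0x010907)
noncomputable def relsS : List (Word × Word) := List.append [(powW [2 * 2] 11, [])] [([2 * (2 + 1)], conjW [2 * 2] (flat ws0 zc))]
noncomputable def allRels : List (Word × Word) := List.append rels (List.append relsD (List.append relsO relsS))
theorem chk2 : lev2.chk 24 nets ws3 1 6 = true := by decide +kernel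
theorem chk1 : lev1.chk 24 nets ws2 6 60 = true := by decide +kernel
theorem primc0 : PM.primChk nets ws1 lev0 lev0.sos prim0 = true := by decide +kernel
theorem chk0 : lev0.chk 24 nets ws1 60 660 = true := by decide +kernel
theorem rc0 : relsChk 24 nets 5 (idArr 24 5 5 0) allRels = true := by decide +kernel
section
variable {Γ Ω : Type*} [Group Γ] [MulAction Γ Ω] (M : PM Γ Ω 24 nets)

theorem all_ok (hs : M.Sep 5 (idArr 24 5 5 0)) : Rels M.gen allRels := (M.rels_of_chk hs rc0)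
theorem sep [FaithfulSMul Γ Ω] : M.Sep 5 (idArr 24 5 5 0) := M.sep_idArr (by decide)
theorem all_ok' [FaithfulSMul Γ Ω] : Rels M.gen allRels := all_ok M (sep M)
theorem rels_of_all {gen : ℕ → Γ} (h : Rels gen allRels) : Rels gen rels := Rels.left h
theorem relsD_of_all {gen : ℕ → Γ} (h : Rels gen allRels) : Rels gen relsD := Rels.left (Rels.right h)
theorem relsO_of_all {gen : ℕ → Γ} (h : Rels gen allRels) : Rels gen relsO := Rels.left (Rels.right (Rels.right h))
theorem relsS_of_all {gen : ℕ → Γ} (h : Rels gen allRels) : Rels gen relsS := Rels.right (Rels.right (Rels.right h))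
theorem card3 (_hR : Rels M.gen rels) : Nat.card (sub M.gen ws3) = 1 := M.card_nil
theorem fixw3 (_hR : Rels M.gen rels) : M.FixTriv ws3 [] := M.fixTriv_nil
theorem r2 (hR : Rels M.gen rels) : Rels M.gen rels2 := (Rels.left (Rels.right (Rels.right hR)))
theorem res2 (hR : Rels M.gen rels) : M.LevelRes ws3 lev2 6 := M.level (card3 M hR) chk2 (Rels.left (r2 M hR))
theorem ext2 (hR : Rels M.gen rels) : sub M.gen ws2 = sub M.gen (lev2.gens ws3) := sub_extend (Rels.right (r2 M hR))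
theorem card2 (hR : Rels M.gen rels) : Nat.card (sub M.gen ws2) = 6 := by rw [ext2 M hR]; exact (res2 M hR).card
theorem fix2 (hR : Rels M.gen rels) : M.FixTriv (lev2.gens ws3) [4] := (res2 M hR).fixTriv M (fixw3 M hR)
theorem fixw2 (hR : Rels M.gen rels) : M.FixTriv ws2 [4] := fun g hg => fix2 M hR g (ext2 M hR ▸ hg)
theorem stab2 (hR : Rels M.gen rels) : sub M.gen ws2 ⊓ MulAction.stabilizer Γ (M.dec 4) = sub M.gen ws3 := by rw [ext2 M hR]; exact (res2 M hR).stab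
theorem orb2 (hR : Rels M.gen rels) (y : Ω) : y ∈ M.S lev2.orb ↔ ∃ g ∈ sub M.gen ws2, g • M.dec 4 = y := by rw [ext2 M hR]; exact (res2 M hR).orb y
theorem r1 (hR : Rels M.gen rels) : Rels M.gen rels1 := (Rels.left (Rels.right hR))
theorem res1 (hR : Rels M.gen rels) : M.LevelRes ws2 lev1 60 := M.level (card2 M hR) chk1 (Rels.left (r1 M hR))
theorem ext1 (hR : Rels M.gen rels) : sub M.gen ws1 = sub M.gen (lev1.gens ws2) := sub_extend (Rels.right (r1 M hR))
theorem card1 (hR : Rels M.gen rels) : Nat.card (sub M.gen ws1) = 60 := by rw [ext1 M hR]; exact (res1 M hR).card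
theorem fix1 (hR : Rels M.gen rels) : M.FixTriv (lev1.gens ws2) [2, 4] := (res1 M hR).fixTriv M (fixw2 M hR)
theorem fixw1 (hR : Rels M.gen rels) : M.FixTriv ws1 [2, 4] := fun g hg => fix1 M hR g (ext1 M hR ▸ hg)
theorem stab1 (hR : Rels M.gen rels) : sub M.gen ws1 ⊓ MulAction.stabilizer Γ (M.dec 2) = sub M.gen ws2 := by rw [ext1 M hR]; exact (res1 M hR).stab
theorem orb1 (hR : Rels M.gen rels) (y : Ω) : y ∈ M.S lev1.orb ↔ ∃ g ∈ sub M.gen ws1, g • M.dec 2 = y := by rw [ext1 M hR]; exact (res1 M hR).orb y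
theorem r0 (hR : Rels M.gen rels) : Rels M.gen rels0 := (Rels.left hR)
theorem res0 (hR : Rels M.gen rels) : M.LevelRes ws1 lev0 660 := M.level (card1 M hR) chk0 (Rels.left (r0 M hR))
theorem ext0 (hR : Rels M.gen rels) : sub M.gen ws0 = sub M.gen (lev0.gens ws1) := sub_extend (Rels.right (r0 M hR))
theorem card0 (hR : Rels M.gen rels) : Nat.card (sub M.gen ws0) = 660 := by rw [ext0 M hR]; exact (res0 M hR).card
theorem fix0 (hR : Rels M.gen rels) : M.FixTriv (lev0.gens ws1) [1, 2, 4] := (res0 M hR).fixTriv M (fixw1 M hR)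
theorem fixw0 (hR : Rels M.gen rels) : M.FixTriv ws0 [1, 2, 4] := fun g hg => fix0 M hR g (ext0 M hR ▸ hg)
theorem stab0 (hR : Rels M.gen rels) : sub M.gen ws0 ⊓ MulAction.stabilizer Γ (M.dec 1) = sub M.gen ws1 := by rw [ext0 M hR]; exact (res0 M hR).stab
theorem orb0 (hR : Rels M.gen rels) (y : Ω) : y ∈ M.S lev0.orb ↔ ∃ g ∈ sub M.gen ws0, g • M.dec 1 = y := by rw [ext0 M hR]; exact (res0 M hR).orb y
theorem max0 (hR : Rels M.gen rels) (X : Subgroup Γ) (h1 : sub M.gen ws1 ≤ X) (h2 : X ≤ sub M.gen ws0) : X = sub M.gen ws1 ∨ X = sub M.gen ws0 := by rw [ext0 M hR] at h2 ⊢; exact (res0 M hR).max M primc0 X h1 h2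
theorem orig_eq {gen : ℕ → Γ} (h : Rels gen allRels) : sub gen (lets 2) = sub gen ws0 :=
  sub_lets_eq_of_rels (ds := defs) (by decide +kernel) (relsD_of_all h) (by decide +kernel) (relsO_of_all h)
theorem gen_mem {gen : ℕ → Γ} (h : Rels gen allRels) {X : Subgroup Γ} (h0 : ∀ l < 2, gen l ∈ X) : sub gen ws0 ≤ X :=
  sub_le_of_wsIn (lo := 0) (gen_mem_of_defRels (ds := defs) (fun l _ hl => h0 l hl) (by decide +kernel) (relsD_of_all h)) (by decide +kernel)
theorem simple (h : Rels M.gen allRels) : IsSimpleGroup (sub M.gen ws0) :=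
  (res0 M (rels_of_all h)).simple (ext0 M (rels_of_all h)) (card1 M (rels_of_all h)) (by decide) primc0 (fix0 M (rels_of_all h)) (by decide +kernel)
    (z := M.gen 2) (by rw [← ev_single M.gen 2]; exact ev_getL_mem M.gen ws0 1) (m := 11)
    (by rw [← ev_single M.gen 2]; exact pow_eq_one_of_rels (Rels.left (relsS_of_all h))) (by norm_num)
    (ncl_of_defRels (ds := defs.drop 2) (c := zc) (by decide +kernel) (defRels_drop defs 2 2 ▸ (relsD_of_all h).drop 2) (by decide +kernel) (Rels.right (relsS_of_all h)))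

end

end H28.QL
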