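import Cfsg.Agent.H28.SL2

/-! Abstract root subgroups (Timmesfeld II §1-2), part 1: TI property, members inside a rank one group, the commutator case,
lines `A ⁅A,B⁆`, nilpotency of `⟨A,B,C⟩` for a string of two commutator pairs; the tool `ucs` (upper central series of a subgroup). -/

set_option autoImplicit false

namespace H28
open Cfsg
open scoped commutatorElement

variable {G : Type*} [Group G]

/-! ### upper central series of a subgroup, in the ambient group -/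

def ucs (R : Subgroup G) (n : ℕ) : Subgroup G := (Subgroup.upperCentralSeries R n).map R.subtype

theorem ucs_zero (R : Subgroup G) : ucs R 0 = ⊥ := by simp [ucs]

theorem ucs_le (R : Subgroup G) (n : ℕ) : ucs R n ≤ R := Subgroup.map_subtype_le _

theorem ucs_mono (R : Subgroup G) {m n : ℕ} (h : m ≤ n) : ucs R m ≤ ucs R n :=
  Subgroup.map_mono (Subgroup.upperCentralSeries_mono R h)

theorem mem_ucs_succ {R : Subgroup G} {n : ℕ} {x : G} :
    x ∈ ucs R (n + 1) ↔ x ∈ R ∧ ∀ y ∈ R, ⁅x, y⁆ ∈ ucs R n := by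
  constructor
  · rintro ⟨x, hx, rfl⟩
    exact ⟨x.2, fun y hy => ⟨_, Subgroup.mem_upperCentralSeries_succ_iff.1 hx ⟨y, hy⟩, rfl⟩⟩
  · rintro ⟨hx, h⟩
    refine ⟨⟨x, hx⟩, Subgroup.mem_upperCentralSeries_succ_iff.2 fun y => ?_, rfl⟩
    obtain ⟨z, hz, e⟩ := h y y.2
    rwa [show ⁅(⟨x, hx⟩ : R), y⁆ = z from Subtype.ext e.symm]

theorem conj_mem_ucs {R : Subgroup G} {n : ℕ} {x y : G} (hx : x ∈ ucs R n) (hy : y ∈ R) : y * x * y⁻¹ ∈ ucs R n := by
  obtain ⟨x, hx, rfl⟩ := hx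
  exact ⟨_, (inferInstance : (Subgroup.upperCentralSeries R n).Normal).conj_mem x hx ⟨y, hy⟩, rfl⟩

theorem mem_ucs_succ_of_closure {T : Set G} {n : ℕ} {x : G} (hx : x ∈ Subgroup.closure T)
    (h : ∀ y ∈ T, ⁅x, y⁆ ∈ ucs (Subgroup.closure T) n) : x ∈ ucs (Subgroup.closure T) (n + 1) := by
  refine mem_ucs_succ.2 ⟨hx, fun y hy => ?_⟩
  induction hy using Subgroup.closure_induction with
  | mem y hy => exact h y hy
  | one => simp
  | mul y z hy hz ihy ihz =>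
    rw [show ⁅x, y * z⁆ = ⁅x, y⁆ * (y * ⁅x, z⁆ * y⁻¹) by simp only [commutatorElement_def]; group]
    exact mul_mem ihy (conj_mem_ucs ihz hy)
  | inv y hy ih =>
    rw [show ⁅x, y⁻¹⁆ = y⁻¹ * ⁅x, y⁆⁻¹ * y⁻¹⁻¹ by simp only [commutatorElement_def]; group]
    exact conj_mem_ucs (inv_mem ih) (inv_mem hy)

theorem sup_eq_closure (A B : Subgroup G) : A ⊔ B = Subgroup.closure ((A : Set G) ∪ B) := by
  rw [Subgroup.closure_union, Subgroup.closure_eq, Subgroup.closure_eq]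

theorem mem_ucs_succ_sup {A B : Subgroup G} {n : ℕ} {x : G} (hx : x ∈ A ⊔ B)
    (hA : ∀ y ∈ A, ⁅x, y⁆ ∈ ucs (A ⊔ B) n) (hB : ∀ y ∈ B, ⁅x, y⁆ ∈ ucs (A ⊔ B) n) : x ∈ ucs (A ⊔ B) (n + 1) := by
  rw [sup_eq_closure] at *
  exact mem_ucs_succ_of_closure hx fun y hy => hy.elim (hA y) (hB y)

theorem mem_ucs_succ_sup3 {A B C : Subgroup G} {n : ℕ} {x : G} (hx : x ∈ A ⊔ B ⊔ C)
    (hA : ∀ y ∈ A, ⁅x, y⁆ ∈ ucs (A ⊔ B ⊔ C) n) (hB : ∀ y ∈ B, ⁅x, y⁆ ∈ ucs (A ⊔ B ⊔ C) n)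
    (hC : ∀ y ∈ C, ⁅x, y⁆ ∈ ucs (A ⊔ B ⊔ C) n) : x ∈ ucs (A ⊔ B ⊔ C) (n + 1) := by
  have e : A ⊔ B ⊔ C = Subgroup.closure ((A : Set G) ∪ B ∪ C) := by
    rw [Subgroup.closure_union, Subgroup.closure_union, Subgroup.closure_eq, Subgroup.closure_eq, Subgroup.closure_eq]
  rw [e] at hx hA hB hC ⊢
  exact mem_ucs_succ_of_closure hx fun y hy => hy.elim (fun hy => hy.elim (hA y) (hB y)) (hC y)

theorem nilpotent_of_le_ucs {R : Subgroup G} {n : ℕ} (h : R ≤ ucs R n) : Group.IsNilpotent R := by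
  refine ⟨⟨n, eq_top_iff.2 fun x _ => ?_⟩⟩
  obtain ⟨y, hy, e⟩ := h x.2
  rwa [show x = y from Subtype.ext e.symm]

theorem comm_mem_of_commute {x y : G} (h : Commute x y) (U : Subgroup G) : ⁅x, y⁆ ∈ U := by
  rw [commutatorElement_eq_one_iff_commute.2 h]; exact U.one_mem

theorem commute_of_mem_ucs_one {R : Subgroup G} {x y : G} (hx : x ∈ ucs R 1) (hy : y ∈ R) : Commute x y := by
  have := (mem_ucs_succ.1 hx).2 y hy
  rw [ucs_zero, Subgroup.mem_bot] at this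
  exact commutatorElement_eq_one_iff_commute.1 this

theorem comm_swap_mem {x y : G} {U : Subgroup G} (h : ⁅x, y⁆ ∈ U) : ⁅y, x⁆ ∈ U := by
  rw [← commutatorElement_inv]; exact U.inv_mem h

theorem comm_bot_symm {A B : Subgroup G} (h : ⁅A, B⁆ = ⊥) : ⁅B, A⁆ = ⊥ := by rwa [Subgroup.commutator_comm]

theorem comm_commute {A B : Subgroup G} (h : ⁅A, B⁆ = ⊥) {a b : G} (ha : a ∈ A) (hb : b ∈ B) : Commute a b :=
  commutator_eq_bot_iff.1 h a ha b hb

theorem comm_bot_cj {A B : Subgroup G} (h : ⁅A, B⁆ = ⊥) (g : G) : ⁅cj g A, cj g B⁆ = ⊥ := by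
  rw [← cj_commutator, h, cj_bot]

theorem comm_bot_mono {A B A' B' : Subgroup G} (h : ⁅A, B⁆ = ⊥) (hA : A' ≤ A) (hB : B' ≤ B) : ⁅A', B'⁆ = ⊥ :=
  eq_bot_iff.2 (h ▸ Subgroup.commutator_mono hA hB)

theorem comm_bot_sup {A B C : Subgroup G} (hA : ⁅A, B⁆ = ⊥) (hB : ⁅A, C⁆ = ⊥) : ⁅A, B ⊔ C⁆ = ⊥ :=
  commutator_eq_bot_iff.2 fun _ ha => commute_sup (fun _ hb => comm_commute hA ha hb) (fun _ hb => comm_commute hB ha hb)

theorem sup_comm_bot {A B C : Subgroup G} (hA : ⁅A, C⁆ = ⊥) (hB : ⁅B, C⁆ = ⊥) : ⁅A ⊔ B, C⁆ = ⊥ :=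
  comm_bot_symm (comm_bot_sup (comm_bot_symm hA) (comm_bot_symm hB))

theorem comm_self_bot {A : Subgroup G} (h : IsMulCommutative A) : ⁅A, A⁆ = ⊥ :=
  commutator_eq_bot_iff.2 fun _ ha _ hb => commute_of_comm h ha hb

theorem cj_of_comm_bot {A B : Subgroup G} (h : ⁅A, B⁆ = ⊥) {a : G} (ha : a ∈ A) : cj a B = B :=
  cj_of_commute fun _ hb => comm_commute h ha hb

theorem mem_sup_of_comm {A B : Subgroup G} (h : ⁅A, B⁆ = ⊥) {x : G} (hx : x ∈ A ⊔ B) :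
    ∃ a ∈ A, ∃ b ∈ B, x = a * b := by
  have hx' : x ∈ ((A ⊔ B : Subgroup G) : Set G) := hx
  rw [Subgroup.coe_mul_of_left_le_normalizer_right A B
    (fun a ha => mem_normalizer_iff_cj.2 (cj_of_comm_bot h ha))] at hx'
  obtain ⟨a, ha, b, hb, rfl⟩ := hx'
  exact ⟨a, ha, b, hb, rfl⟩

/-! ### the commutator case -/

variable {S : Set (Subgroup G)} {A B C D E : Subgroup G}

theorem rc_symm (h : RootCommutatorCase S A B) : RootCommutatorCase S B A := by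
  obtain ⟨h1, h2, h3, h4⟩ := h
  have key : ∀ (T : Set G) (f g : G → G), (∀ x, g x = (f x)⁻¹) →
      Subgroup.closure (g '' T) = Subgroup.closure (f '' T) := by
    intro T f g hfg
    rw [← Subgroup.closure_inv (f '' T)]
    congr 1
    ext y
    simp only [Set.mem_image, Set.mem_inv, hfg]
    exact exists_congr fun x => and_congr_right fun _ => inv_eq_iff_eq_inv
  rw [Subgroup.commutator_comm] at h1 h2 h3 h4
  refine ⟨h1, by rwa [sup_comm], fun b hb hb1 => ?_, fun a ha ha1 => ?_⟩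
  · rw [← h4 b hb hb1]; exact key _ _ _ fun x => by group
  · rw [← h3 a ha ha1]; exact key _ _ _ fun x => by group

theorem rc_left (h : RootCommutatorCase S A B) : ⁅⁅A, B⁆, A⁆ = ⊥ :=
  commutator_eq_bot_iff.2 fun c hc a ha => h.2.1 c hc a (Subgroup.mem_sup_left ha)

theorem rc_right (h : RootCommutatorCase S A B) : ⁅⁅A, B⁆, B⁆ = ⊥ :=
  commutator_eq_bot_iff.2 fun c hc a ha => h.2.1 c hc a (Subgroup.mem_sup_right ha)

theorem rc_mul_right (h : RootCommutatorCase S A B) {a b b' : G} (ha : a ∈ A) (hb : b ∈ B) (hb' : b' ∈ B) :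
    ⁅a, b * b'⁆ = ⁅a, b⁆ * ⁅a, b'⁆ := by
  rw [show ⁅a, b * b'⁆ = ⁅a, b⁆ * (b * ⁅a, b'⁆ * b⁻¹) by simp only [commutatorElement_def]; group,
    ← (comm_commute (rc_right h) (Subgroup.commutator_mem_commutator ha hb') hb).eq, mul_inv_cancel_right]

theorem rc_surj (h : RootCommutatorCase S A B) {a c : G} (ha : a ∈ A) (ha1 : a ≠ 1) (hc : c ∈ ⁅A, B⁆) :
    ∃ b ∈ B, ⁅a, b⁆ = c := by
  rw [← h.2.2.1 a ha ha1] at hc
  induction hc using Subgroup.closure_induction with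
  | mem y hy => exact hy
  | one => exact ⟨1, B.one_mem, by simp⟩
  | mul y z _ _ ihy ihz =>
    obtain ⟨b, hb, rfl⟩ := ihy
    obtain ⟨b', hb', rfl⟩ := ihz
    exact ⟨b * b', B.mul_mem hb hb', rc_mul_right h ha hb hb'⟩
  | inv y _ ih =>
    obtain ⟨b, hb, rfl⟩ := ih
    refine ⟨b⁻¹, B.inv_mem hb, ?_⟩
    rw [eq_inv_iff_mul_eq_one, ← rc_mul_right h ha (B.inv_mem hb) hb]; simp

theorem rc_surj' (h : RootCommutatorCase S A B) {b c : G} (hb : b ∈ B) (hb1 : b ≠ 1) (hc : c ∈ ⁅A, B⁆) :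
    ∃ a ∈ A, ⁅a, b⁆ = c := by
  obtain ⟨a, ha, e⟩ := rc_surj (rc_symm h) hb hb1 (c := c⁻¹) (by rw [Subgroup.commutator_comm]; exact inv_mem hc)
  exact ⟨a, ha, by rw [← commutatorElement_inv, e, inv_inv]⟩

theorem cj_le_sup_comm {b : G} (hb : b ∈ B) : cj b A ≤ A ⊔ ⁅A, B⁆ := by
  rintro _ ⟨a, ha, rfl⟩
  show b * a * b⁻¹ ∈ _
  rw [show b * a * b⁻¹ = a * ⁅a⁻¹, b⁆ by simp only [commutatorElement_def]; group]
  exact mul_mem (Subgroup.mem_sup_left ha) (Subgroup.mem_sup_right (Subgroup.commutator_mem_commutator (A.inv_mem ha) hb))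

theorem rc_sup_cj (h : RootCommutatorCase S A B) {b : G} (hb : b ∈ B) (hb1 : b ≠ 1) : A ⊔ cj b A = A ⊔ ⁅A, B⁆ := by
  refine le_antisymm (sup_le le_sup_left (cj_le_sup_comm hb)) (sup_le le_sup_left fun c hc => ?_)
  obtain ⟨a, ha, rfl⟩ := rc_surj' h hb hb1 hc
  rw [show ⁅a, b⁆ = a * (b * a⁻¹ * b⁻¹) by simp only [commutatorElement_def]; group]
  exact mul_mem (Subgroup.mem_sup_left ha) (Subgroup.mem_sup_right (conj_mem_cj (A.inv_mem ha)))

/-- `A` is not isolated in the graph of rank one pairs -/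
def NI (S : Set (Subgroup G)) (A : Subgroup G) : Prop := ∃ B ∈ S, IsRankOnePair A B

theorem ni_iff (hA : A ∈ S) : ¬ IsIsolatedIn (FAdj S) S A ↔ NI S A := by
  constructor
  · intro h
    by_contra hn
    exact h ⟨hA, fun B => ⟨fun h => hn ⟨B, h.2.1, h.2.2⟩, fun h => hn ⟨B, h.1, r1_symm h.2.2⟩⟩⟩
  · rintro ⟨B, hB, h⟩ h2
    exact (h2.2 B).1 ⟨hA, hB, h⟩

section
variable (hS : IsRootSubgroupSet S)
include hS

theorem cj_mem (hA : A ∈ S) (g : G) : cj g A ∈ S := hS.conj_mem A hA g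

theorem NI.cj (h : NI S A) (g : G) : NI S (cj g A) := by
  obtain ⟨B, hB, h⟩ := h
  exact ⟨_, cj_mem hS hB g, r1_cj h g⟩

theorem self_comm (hA : A ∈ S) : ⁅A, A⁆ = ⊥ := comm_self_bot (hS.commutative A hA)

theorem Om_mem (hA : A ∈ S) (hB : B ∈ S) (hC : C ∈ Om A B) : C ∈ S := by
  rcases hC with rfl | ⟨a, -, rfl⟩
  · exact hA
  · exact cj_mem hS hB a

theorem rc_cj_comm (hA : A ∈ S) (h : RootCommutatorCase S A B) {b : G} (hb : b ∈ B) : ⁅A, cj b A⁆ = ⊥ :=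
  comm_bot_mono (comm_bot_sup (self_comm hS hA) (comm_bot_symm (rc_left h))) le_rfl (cj_le_sup_comm hb)

theorem mem_Om_of_acts (h : IsRankOnePair A B) (hB : B ∈ S) (hE : E ∈ S) {a e : G} (ha : a ∈ A) (ha1 : a ≠ 1)
    (he : e ∈ E) (hea : cj e B = cj a B) : IsRankOnePair E B ∧ E ∈ Om A B := by
  have he1 : e ≠ 1 := by rintro rfl; exact cj_ne_right h ha ha1 (by simpa using hea.symm)
  rcases hS.pair E hE B hB with h1 | h1 | h1
  · exact absurd (hea ▸ cj_of_comm_bot h1 he) (cj_ne_right h ha ha1)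
  · refine ⟨h1, ?_⟩
    obtain ⟨b, hb, -, e1⟩ := r1_exists h1 he he1
    obtain ⟨b', hb', -, e2⟩ := r1_exists h ha ha1
    rw [hea, ← e2, cj_eq_iff, ← cj_mul] at e1
    rw [e1]
    exact cj_mem_Om h (Subgroup.mem_sup_right (B.mul_mem (B.inv_mem hb) hb')) left_mem_Om
  · exact absurd (hea ▸ rc_cj_comm hS hB (rc_symm h1) he) (r1_commutator_ne_bot (r1_cj_right h ha ha1))

theorem eq_of_acts (h : IsRankOnePair A B) (hB : B ∈ S) (hE : E ∈ S) {a e : G} (ha : a ∈ A) (ha1 : a ≠ 1)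
    (he : e ∈ E) (hea : cj e B = cj a B) (heA : cj e A = A) : E = A := by
  have he1 : e ≠ 1 := by rintro rfl; exact cj_ne_right h ha ha1 (by simpa using hea.symm)
  exact eq_of_mem_Om h (mem_Om_of_acts hS h hB hE ha ha1 he hea).2 left_mem_Om he he1 heA

/-- `D(Σ) ∩ z A# = ∅` -/
theorem central_mul_not_root (h : IsRankOnePair A B) (hB : B ∈ S) (hE : E ∈ S) {a z : G} (ha : a ∈ A) (ha1 : a ≠ 1)
    (hzA : ∀ x ∈ A, Commute z x) (hzB : ∀ x ∈ B, Commute z x) (he : z * a ∈ E) : z = 1 := by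
  have := eq_of_acts hS h hB hE ha ha1 he
    (by rw [(hzA a ha).eq, cj_mul, cj_of_commute hzB]) (by rw [cj_mul, cj_of_mem ha, cj_of_commute hzA])
  subst this
  exact r1_not_commute h (by simpa using E.mul_mem he (E.inv_mem ha)) hzB

/-- TI property of non-isolated members -/
theorem NI.eq_of_mem (hA : NI S A) (hE : E ∈ S) {a : G} (ha : a ∈ A) (ha1 : a ≠ 1) (he : a ∈ E) : E = A := by
  obtain ⟨B, hB, h⟩ := hA
  exact eq_of_acts hS h hB hE ha ha1 he rfl (cj_of_mem ha)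

theorem NI.eq_of_le (hA : NI S A) (hE : E ∈ S) (h : E ≤ A) : E = A := by
  obtain ⟨e, he, he1⟩ := exists_ne_one (hS.ne_bot E hE)
  exact hA.eq_of_mem hS hE (h he) he1 he

theorem rc_ne_left (h : RootCommutatorCase S A B) : ⁅A, B⁆ ≠ A := by
  intro e
  apply hS.ne_bot _ h.1
  have := rc_right h
  rwa [e] at this

theorem rc_not_le_left (hA : NI S A) (h : RootCommutatorCase S A B) : ¬ ⁅A, B⁆ ≤ A :=
  fun e => rc_ne_left hS h (hA.eq_of_le hS h.1 e)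

theorem mem_Om_or_comm (h : IsRankOnePair A B) (hA : A ∈ S) (hB : B ∈ S) (hE : E ∈ S) (hle : E ≤ A ⊔ B) :
    E ∈ Om A B ∨ ⁅E, A ⊔ B⁆ = ⊥ := by
  have key : ∀ C ∈ Om A B, NI S C → E ∈ Om A B ∨ ⁅E, C⁆ = ⊥ := by
    intro C hC hNI
    rcases hS.pair E hE C (Om_mem hS hA hB hC) with h1 | h1 | h1
    · exact Or.inr h1
    · left
      obtain ⟨e, he, he1⟩ := exists_ne_one (hS.ne_bot E hE)
      obtain ⟨c, hc, -, e1⟩ := r1_exists h1 he he1
      rw [cj_eq_iff, ← cj_mul] at e1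
      rw [e1]
      exact cj_mem_Om h (mul_mem (inv_mem (le_sup_of_mem_Om hC hc)) (hle he)) hC
    · exfalso
      refine rc_not_le_left hS hNI (rc_symm h1) (Subgroup.commutator_le.2 fun c hc e he => ?_)
      have h2 : cj e C = C := by
        by_contra hne
        exact r1_commutator_ne_bot (r1_of_mem_Om h hC (cj_mem_Om h (hle he) hC) (Ne.symm hne))
          (rc_cj_comm hS (Om_mem hS hA hB hC) (rc_symm h1) he)
      rw [show ⁅c, e⁆ = c * (e * c⁻¹ * e⁻¹) by simp only [commutatorElement_def]; group]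
      exact C.mul_mem hc (h2.le (conj_mem_cj (C.inv_mem hc)))
  rcases key A left_mem_Om ⟨B, hB, h⟩ with h1 | h1
  · exact Or.inl h1
  rcases key B right_mem_Om ⟨A, hA, r1_symm h⟩ with h2 | h2
  · exact Or.inl h2
  exact Or.inr (comm_bot_sup h1 h2)

theorem r1_comm_not_mem (h : IsRankOnePair A B) (hA : A ∈ S) (hB : B ∈ S) : ⁅A, B⁆ ∉ S := by
  intro hC
  have hle : ⁅A, B⁆ ≤ A ⊔ B :=
    (Subgroup.commutator_mono le_sup_left le_sup_right).trans (Subgroup.commutator_le_self _)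
  rcases mem_Om_or_comm hS h hA hB hC hle with h1 | h1
  · have hn : ∀ x ∈ A ⊔ B, cj x ⁅A, B⁆ = ⁅A, B⁆ := fun x hx =>
      mem_normalizer_iff_cj.1 ((sup_le (Subgroup.normalizer_commutator_ge_left A B)
        (Subgroup.normalizer_commutator_ge_right A B) : A ⊔ B ≤ _) hx)
    obtain ⟨x, hx, e⟩ := exists_cj_of_mem_Om h h1
    obtain ⟨y, hy, e2, -⟩ := r1_exists_swap h
    have e3 : A = ⁅A, B⁆ := by rw [cj_eq_iff] at e; rw [hn _ (inv_mem hx)] at e; exact e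
    apply h.ne
    rw [← e2, e3, hn y hy]
  · obtain ⟨b, hb, hb1⟩ := exists_ne_one (hS.ne_bot B hB)
    refine r1_commutator_ne_bot (r1_cj_right (r1_symm h) hb hb1) ?_
    exact comm_bot_mono (comm_bot_sup (self_comm hS hA) (comm_bot_symm (comm_bot_mono h1 le_rfl le_sup_left))) le_rfl
      (cj_le_sup_comm hb)

theorem rc_of_mem (hA : A ∈ S) (hB : B ∈ S) (hC : ⁅A, B⁆ ∈ S) : RootCommutatorCase S A B := by
  rcases hS.pair A hA B hB with h | h | h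
  · exact absurd h (hS.ne_bot _ hC)
  · exact absurd hC (r1_comm_not_mem hS h hA hB)
  · exact h

theorem rc_comm_ne_one (hA : NI S A) (hAS : A ∈ S) (h : RootCommutatorCase S A B) {a b : G} (ha : a ∈ A) (ha1 : a ≠ 1)
    (hb : b ∈ B) (hb1 : b ≠ 1) : ⁅a, b⁆ ≠ 1 := by
  intro e
  have hc := commutatorElement_eq_one_iff_commute.1 e
  have h1 : cj b A = A := hA.eq_of_mem hS (cj_mem hS hAS b) ha ha1 (by
    have := conj_mem_cj (g := b) ha
    rwa [← hc.eq, mul_inv_cancel_right] at this)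
  apply rc_not_le_left hS hA h
  have := rc_sup_cj h hb hb1
  rw [h1, sup_idem] at this
  exact le_sup_right.trans this.ge

omit hS in
theorem rc_eq_of_comm_eq (h : RootCommutatorCase S A B) (hne : ∀ a ∈ A, a ≠ 1 → ∀ b ∈ B, b ≠ 1 → ⁅a, b⁆ ≠ 1) {a b b' : G}
    (ha : a ∈ A) (ha1 : a ≠ 1) (hb : b ∈ B) (hb' : b' ∈ B) (e : ⁅a, b⁆ = ⁅a, b'⁆) : b = b' := by
  by_contra hbb
  apply hne a ha ha1 (b⁻¹ * b') (B.mul_mem (B.inv_mem hb) hb') (fun h => hbb (inv_mul_eq_one.1 h))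
  rw [rc_mul_right h ha (B.inv_mem hb) hb', ← e, ← rc_mul_right h ha (B.inv_mem hb) hb]; simp

/-- in the commutator case, `⁅A,B⁆` does not commute with a rank one partner of `A` -/
theorem rc_not_comm_partner (hA : A ∈ S) (h : RootCommutatorCase S A B) (hD : D ∈ S) (hAD : IsRankOnePair A D)
    {c : G} (hc : c ∈ ⁅A, B⁆) (hcD : ∀ d ∈ D, Commute c d) : c = 1 := by
  obtain ⟨a, ha, ha1⟩ := exists_ne_one (hS.ne_bot A hA)
  obtain ⟨b, hb, e⟩ := rc_surj h ha ha1 (inv_mem hc)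
  refine central_mul_not_root hS hAD hD (cj_mem hS hA b) ha ha1 (fun x hx => comm_commute (rc_left h) hc hx) hcD ?_
  rw [← inv_inv c, ← e, show ⁅a, b⁆⁻¹ * a = b * a * b⁻¹ by simp only [commutatorElement_def]; group]
  exact conj_mem_cj ha

theorem rc_eq_of_le (hA : NI S A) (hAS : A ∈ S) (h : RootCommutatorCase S A B) (hE : E ∈ S) (hle : E ≤ ⁅A, B⁆) :
    E = ⁅A, B⁆ := by
  obtain ⟨D, hD, hAD⟩ := hA
  have hDN : NI S D := ⟨A, hAS, r1_symm hAD⟩
  obtain ⟨e, he, he1⟩ := exists_ne_one (hS.ne_bot E hE)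
  rcases hS.pair _ h.1 D hD with h1 | h1 | h1
  · exact absurd (rc_not_comm_partner hS hAS h hD hAD (hle he) fun d hd => comm_commute h1 (hle he) hd) he1
  · exact NI.eq_of_le hS ⟨D, hD, h1⟩ hE hle
  rcases hS.pair _ hE D hD with h2 | h2 | h2
  · exact absurd (rc_not_comm_partner hS hAS h hD hAD (hle he) fun d hd => comm_commute h2 he hd) he1
  · exact (NI.eq_of_mem hS ⟨D, hD, h2⟩ h.1 he he1 (hle he)).symm
  refine le_antisymm hle fun c hc => ?_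
  obtain ⟨d, hd, hd1⟩ := exists_ne_one (hS.ne_bot D hD)
  obtain ⟨d', hd', e1⟩ := rc_surj h1 (hle he) he1 (Subgroup.commutator_mem_commutator hc hd)
  obtain ⟨e', he', e2⟩ := rc_surj' h2 hd hd1 (Subgroup.commutator_mem_commutator he hd')
  have := rc_eq_of_comm_eq (rc_symm h1) (fun a ha ha1 b hb hb1 => rc_comm_ne_one hS hDN hD (rc_symm h1) ha ha1 hb hb1)
    hd hd1 hc (hle he') (by rw [← commutatorElement_inv c, ← e1, ← e2, commutatorElement_inv])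
  rwa [this]

omit hS in
theorem rc_mem_line (h : RootCommutatorCase S A B) {x : G} (hx : x ∈ A ⊔ ⁅A, B⁆) :
    x ∈ ⁅A, B⁆ ∨ ∃ b ∈ B, ∃ a ∈ A, a ≠ 1 ∧ x = b * a * b⁻¹ := by
  obtain ⟨a, ha, c, hc, rfl⟩ := mem_sup_of_comm (comm_bot_symm (rc_left h)) hx
  by_cases ha1 : a = 1
  · left; simpa [ha1] using hc
  · right
    obtain ⟨b, hb, e⟩ := rc_surj h (A.inv_mem ha) (inv_ne_one.2 ha1) hc
    exact ⟨b, hb, a, ha, ha1, by rw [← e]; simp only [commutatorElement_def]; group⟩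

theorem rc_membersIn (hA : NI S A) (hAS : A ∈ S) (h : RootCommutatorCase S A B) :
    membersIn S (A ⊔ ⁅A, B⁆) = (fun b : G => conjBy A b) '' (B : Set G) ∪ {⁅A, B⁆} := by
  ext E
  constructor
  · rintro ⟨hE, hle⟩
    by_cases h1 : E ≤ ⁅A, B⁆
    · exact Or.inr (rc_eq_of_le hS hA hAS h hE h1)
    · obtain ⟨e, he, he'⟩ := Set.not_subset.1 h1
      rcases rc_mem_line h (hle he) with h2 | ⟨b, hb, a, ha, ha1, rfl⟩
      · exact absurd h2 he'
      · exact Or.inl ⟨b, hb, ((hA.cj hS b).eq_of_mem hS hE (conj_mem_cj ha) (by simpa [conj_eq_one_iff] using ha1) he).symm⟩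
  · rintro (⟨b, hb, rfl⟩ | rfl)
    · exact ⟨cj_mem hS hAS b, cj_le_sup_comm hb⟩
    · exact ⟨h.1, le_sup_right⟩

theorem rc_partition (hA : NI S A) (hAS : A ∈ S) (h : RootCommutatorCase S A B) :
    IsSubgroupPartition (A ⊔ ⁅A, B⁆) (membersIn S (A ⊔ ⁅A, B⁆)) := by
  refine ⟨fun C hC => hC.2, fun x hx _ => ?_, fun C hC D hD hne => ?_⟩
  · rcases rc_mem_line h hx with h2 | ⟨b, hb, a, ha, -, rfl⟩
    · exact ⟨_, ⟨h.1, le_sup_right⟩, h2⟩
    · exact ⟨_, ⟨cj_mem hS hAS b, cj_le_sup_comm hb⟩, conj_mem_cj ha⟩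
  · rw [eq_bot_iff]
    intro x ⟨hxC, hxD⟩
    by_contra hx1
    have hC' := hC
    have hD' := hD
    rw [rc_membersIn hS hA hAS h] at hC' hD'
    rcases hC' with ⟨b, -, rfl⟩ | rfl
    · exact hne ((hA.cj hS b).eq_of_mem hS hD.1 hxC hx1 hxD).symm
    rcases hD' with ⟨b, -, rfl⟩ | rfl
    · exact hne ((hA.cj hS b).eq_of_mem hS hC.1 hxD hx1 hxC)
    · exact hne rfl

theorem rc_line_left (hA : NI S A) (hAS : A ∈ S) (h : RootCommutatorCase S A B) : A ∈ linePartners S ⁅A, B⁆ :=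
  ⟨⟨hAS, (rc_ne_left hS h).symm, rc_left h⟩, by rw [sup_comm]; exact rc_partition hS hA hAS h⟩

omit hS in
theorem line_symm (hA : A ∈ S) (h : B ∈ linePartners S A) : A ∈ linePartners S B :=
  ⟨⟨hA, h.1.2.1.symm, comm_bot_symm h.1.2.2⟩, by rw [sup_comm]; exact h.2⟩

/-! ### strings of two commutator pairs -/

theorem string_not_r1 (hA : A ∈ S) (hC : C ∈ S) (hAB : RootCommutatorCase S A B)
    (hAC : ⁅A, C⁆ = ⊥) {b : G} (hb : b ∈ B) (hb1 : b ≠ 1) : ¬ IsRankOnePair A (cj b C) := by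
  intro h
  obtain ⟨e, he, he1⟩ := exists_ne_one (hS.ne_bot _ hAB.1)
  obtain ⟨a, ha, rfl⟩ := rc_surj' hAB hb hb1 he
  have ha1 : a ≠ 1 := by rintro rfl; simp at he1
  have hz : b * a⁻¹ * b⁻¹ ∈ cj b A := conj_mem_cj (A.inv_mem ha)
  have c1 : ∀ x ∈ A, Commute (b * a⁻¹ * b⁻¹) x := fun x hx => (comm_commute (rc_cj_comm hS hA hAB hb) hx hz).symm
  have := central_mul_not_root hS h (cj_mem hS hC b) hAB.1 ha ha1 c1
    (fun x hx => comm_commute (comm_bot_cj hAC b) hz hx) (by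
      rw [(c1 a ha).eq]; convert he using 1; simp only [commutatorElement_def]; group)
  exact ha1 (by simpa [conj_eq_one_iff] using this)

theorem string_class_two (hA : A ∈ S) (hC : C ∈ S) (hAB : RootCommutatorCase S A B)
    (hAC : ⁅A, C⁆ = ⊥) {b : G} (hb : b ∈ B) (hb1 : b ≠ 1) :
    ⁅⁅A, cj b C⁆, A⁆ = ⊥ ∧ ⁅⁅A, cj b C⁆, cj b C⁆ = ⊥ := by
  rcases hS.pair A hA _ (cj_mem hS hC b) with h | h | h
  · rw [h]; simp
  · exact absurd h (string_not_r1 hS hA hC hAB hAC hb hb1)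
  · exact ⟨rc_left h, rc_right h⟩

omit hS in
theorem class_two_sup {X Y : Subgroup G} (hX : ⁅X, X⁆ = ⊥) (hY : ⁅Y, Y⁆ = ⊥) (h1 : ⁅⁅X, Y⁆, X⁆ = ⊥)
    (h2 : ⁅⁅X, Y⁆, Y⁆ = ⊥) : ⁅⁅X ⊔ Y, X ⊔ Y⁆, X ⊔ Y⁆ = ⊥ := by
  have k : ∀ c ∈ ⁅X, Y⁆, c ∈ ucs (X ⊔ Y) 1 := fun c hc =>
    mem_ucs_succ_sup ((Subgroup.commutator_mono le_sup_left le_sup_right).trans (Subgroup.commutator_le_self _) hc)
      (fun y hy => comm_mem_of_commute (comm_commute h1 hc hy) _)
      (fun y hy => comm_mem_of_commute (comm_commute h2 hc hy) _)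
  have k2 : X ⊔ Y ≤ ucs (X ⊔ Y) 2 := by
    refine sup_le (fun x hx => ?_) (fun x hx => ?_)
    · exact mem_ucs_succ_sup (Subgroup.mem_sup_left hx) (fun y hy => comm_mem_of_commute (comm_commute hX hx hy) _)
        (fun y hy => k _ (Subgroup.commutator_mem_commutator hx hy))
    · exact mem_ucs_succ_sup (Subgroup.mem_sup_right hx)
        (fun y hy => comm_swap_mem (k _ (Subgroup.commutator_mem_commutator hy hx)))
        (fun y hy => comm_mem_of_commute (comm_commute hY hx hy) _)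
  have k3 : ⁅X ⊔ Y, X ⊔ Y⁆ ≤ ucs (X ⊔ Y) 1 :=
    Subgroup.commutator_le.2 fun x hx y hy => (mem_ucs_succ.1 (k2 hx)).2 y hy
  exact commutator_eq_bot_iff.2 fun c hc y hy => commute_of_mem_ucs_one (k3 hc) hy

omit hS in
theorem class_two_sup' {X Y : Subgroup G} (hX : ⁅⁅X, X⁆, X⁆ = ⊥) (hY : ⁅⁅Y, Y⁆, Y⁆ = ⊥) (h : ⁅X, Y⁆ = ⊥) :
    ⁅⁅X ⊔ Y, X ⊔ Y⁆, X ⊔ Y⁆ = ⊥ := by
  have k2 : X ⊔ Y ≤ ucs (X ⊔ Y) 2 := by
    refine sup_le (fun x hx => ?_) (fun x hx => ?_)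
    · refine mem_ucs_succ_sup (Subgroup.mem_sup_left hx) (fun y hy => ?_)
        (fun y hy => comm_mem_of_commute (comm_commute h hx hy) _)
      have hc := Subgroup.commutator_mem_commutator hx hy
      exact mem_ucs_succ_sup (Subgroup.mem_sup_left (Subgroup.commutator_le_self _ hc))
        (fun z hz => comm_mem_of_commute (comm_commute hX hc hz) _)
        (fun z hz => comm_mem_of_commute (comm_commute h (Subgroup.commutator_le_self _ hc) hz) _)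
    · refine mem_ucs_succ_sup (Subgroup.mem_sup_right hx)
        (fun y hy => comm_mem_of_commute (comm_commute h hy hx).symm _) (fun y hy => ?_)
      have hc := Subgroup.commutator_mem_commutator hx hy
      exact mem_ucs_succ_sup (Subgroup.mem_sup_right (Subgroup.commutator_le_self _ hc))
        (fun z hz => comm_mem_of_commute (comm_commute h hz (Subgroup.commutator_le_self _ hc)).symm _)
        (fun z hz => comm_mem_of_commute (comm_commute hY hc hz) _)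
  have k3 : ⁅X ⊔ Y, X ⊔ Y⁆ ≤ ucs (X ⊔ Y) 1 :=
    Subgroup.commutator_le.2 fun x hx y hy => (mem_ucs_succ.1 (k2 hx)).2 y hy
  exact commutator_eq_bot_iff.2 fun c hc y hy => commute_of_mem_ucs_one (k3 hc) hy

theorem string_XY (hA : A ∈ S) (hC : C ∈ S) (hAB : RootCommutatorCase S A B) (hCB : RootCommutatorCase S C B)
    (hAC : ⁅A, C⁆ = ⊥) {b : G} (hb : b ∈ B) (hb1 : b ≠ 1) :
    ⁅⁅A ⊔ cj b C, A ⊔ cj b C⁆, A ⊔ cj b C⁆ = ⊥ ∧ ⁅A ⊔ cj b C, cj b A ⊔ C⁆ = ⊥ ∧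
      (A ⊔ cj b C) ⊔ (cj b A ⊔ C) = (A ⊔ ⁅A, B⁆) ⊔ (C ⊔ ⁅C, B⁆) := by
  obtain ⟨h1, h2⟩ := string_class_two hS hA hC hAB hAC hb hb1
  refine ⟨class_two_sup (self_comm hS hA) (self_comm hS (cj_mem hS hC b)) h1 h2, ?_, ?_⟩
  · exact sup_comm_bot (comm_bot_sup (rc_cj_comm hS hA hAB hb) hAC)
      (comm_bot_sup (comm_bot_cj (comm_bot_symm hAC) b) (comm_bot_symm (rc_cj_comm hS hC hCB hb)))
  · rw [← rc_sup_cj hAB hb hb1, ← rc_sup_cj hCB hb hb1]; ac_rfl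

theorem string_nilpotent (hA : A ∈ S) (hB : B ∈ S) (hC : C ∈ S) (hAB : RootCommutatorCase S A B)
    (hCB : RootCommutatorCase S C B) (hAC : ⁅A, C⁆ = ⊥) : Group.IsNilpotent ↥(A ⊔ B ⊔ C) := by
  obtain ⟨b, hb, hb1⟩ := exists_ne_one (hS.ne_bot B hB)
  obtain ⟨h1, h2, h3⟩ := string_XY hS hA hC hAB hCB hAC hb hb1
  obtain ⟨h1', -, -⟩ := string_XY hS hC hA hCB hAB (comm_bot_symm hAC) hb hb1
  rw [sup_comm C] at h1'
  have hW := class_two_sup' h1 h1' h2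
  rw [h3] at hW
  set W := (A ⊔ ⁅A, B⁆) ⊔ (C ⊔ ⁅C, B⁆)
  set R := A ⊔ B ⊔ C
  have hAW : A ≤ W := le_sup_left.trans le_sup_left
  have hCW : C ≤ W := le_sup_left.trans le_sup_right
  have hEW : ⁅A, B⁆ ≤ W := le_sup_right.trans le_sup_left
  have hFW : ⁅C, B⁆ ≤ W := le_sup_right.trans le_sup_right
  have hAR : A ≤ R := le_sup_left.trans le_sup_left
  have hBR : B ≤ R := le_sup_right.trans le_sup_left
  have hCR : C ≤ R := le_sup_right
  have cR : ∀ {x y}, x ∈ R → y ∈ R → ⁅x, y⁆ ∈ R := fun hx hy =>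
    Subgroup.commutator_le_self _ (Subgroup.commutator_mem_commutator hx hy)
  have hER : ⁅A, B⁆ ≤ R := Subgroup.commutator_le.2 fun x hx y hy => cR (hAR hx) (hBR hy)
  have hFR : ⁅C, B⁆ ≤ R := Subgroup.commutator_le.2 fun x hx y hy => cR (hCR hx) (hBR hy)
  have cW : ∀ {x y z}, x ∈ W → y ∈ W → z ∈ W → Commute ⁅x, y⁆ z := fun hx hy hz =>
    comm_commute hW (Subgroup.commutator_mem_commutator hx hy) hz
  have z1 : ∀ e ∈ ⁅A, B⁆, ∀ f ∈ ⁅C, B⁆, ⁅e, f⁆ ∈ ucs R 1 := fun e he f hf =>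
    mem_ucs_succ_sup3 (cR (hER he) (hFR hf)) (fun y hy => comm_mem_of_commute (cW (hEW he) (hFW hf) (hAW hy)) _)
      (fun y hy => by
        have c1 := comm_commute (rc_right hAB) he hy
        have c2 := comm_commute (rc_right hCB) hf hy
        exact comm_mem_of_commute (((c1.mul_left c2).mul_left c1.inv_left).mul_left c2.inv_left) _)
      (fun y hy => comm_mem_of_commute (cW (hEW he) (hFW hf) (hCW hy)) _)
  have z2 : ∀ (P Q : Subgroup G), P ≤ W → P ≤ R → ⁅P, B⁆ ≤ W → ⁅Q, B⁆ ≤ W → ⁅Q, B⁆ ≤ R → ⁅⁅Q, B⁆, B⁆ = ⊥ →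
      (∀ e ∈ ⁅P, B⁆, ∀ f ∈ ⁅Q, B⁆, ⁅e, f⁆ ∈ ucs R 1) → ∀ a ∈ P, ∀ f ∈ ⁅Q, B⁆, ⁅a, f⁆ ∈ ucs R 2 := by
    intro P Q hPW hPR hE hF hF' hQ hz a ha f hf
    refine mem_ucs_succ_sup3 (cR (hPR ha) (hF' hf)) (fun y hy => comm_mem_of_commute (cW (hPW ha) (hF hf) (hAW hy)) _)
      (fun y hy => ?_) (fun y hy => comm_mem_of_commute (cW (hPW ha) (hF hf) (hCW hy)) _)
    have he : ⁅y, a⁆ ∈ ⁅P, B⁆ := comm_swap_mem (Subgroup.commutator_mem_commutator ha hy)
    have c1 := comm_commute hQ hf hy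
    have c2 := cW (hPW ha) (hF hf) (hE he)
    apply comm_swap_mem
    have e1 : y * ⁅a, f⁆ * y⁻¹ = ⁅⁅y, a⁆ * a, f⁆ := by
      calc y * ⁅a, f⁆ * y⁻¹ = ⁅y * a * y⁻¹, y * f * y⁻¹⁆ := by simp only [commutatorElement_def]; group
        _ = _ := by rw [← c1.eq, mul_inv_cancel_right]; congr 1; simp only [commutatorElement_def]; group
    have e2 : ⁅⁅y, a⁆ * a, f⁆ = ⁅y, a⁆ * ⁅a, f⁆ * ⁅y, a⁆⁻¹ * ⁅⁅y, a⁆, f⁆ := by
      generalize ⁅y, a⁆ = e; simp only [commutatorElement_def]; group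
    rw [← c2.eq, mul_inv_cancel_right, (cW (hPW ha) (hF hf) (Subgroup.commutator_le_self _
      (Subgroup.commutator_mem_commutator (hE he) (hF hf)))).eq] at e2
    rw [commutatorElement_def y, e1, e2, mul_inv_cancel_right]
    exact hz _ he f hf
  have z2a := z2 A C hAW hAR hEW hFW hFR (rc_right hCB) z1
  have z2c := z2 C A hCW hCR hFW hEW hER (rc_right hAB) (fun f hf e he => comm_swap_mem (z1 e he f hf))
  have z3e : ⁅A, B⁆ ≤ ucs R 3 := fun e he =>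
    mem_ucs_succ_sup3 (hER he) (fun y hy => comm_mem_of_commute (comm_commute (rc_left hAB) he hy) _)
      (fun y hy => comm_mem_of_commute (comm_commute (rc_right hAB) he hy) _)
      (fun y hy => comm_swap_mem (z2c y hy e he))
  have z3f : ⁅C, B⁆ ≤ ucs R 3 := fun e he =>
    mem_ucs_succ_sup3 (hFR he) (fun y hy => comm_swap_mem (z2a y hy e he))
      (fun y hy => comm_mem_of_commute (comm_commute (rc_right hCB) he hy) _)
      (fun y hy => comm_mem_of_commute (comm_commute (rc_left hCB) he hy) _)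
  refine nilpotent_of_le_ucs (n := 4) (sup_le (sup_le (fun x hx => ?_) (fun x hx => ?_)) (fun x hx => ?_))
  · exact mem_ucs_succ_sup3 (hAR hx) (fun y hy => comm_mem_of_commute (comm_commute (self_comm hS hA) hx hy) _)
      (fun y hy => z3e (Subgroup.commutator_mem_commutator hx hy))
      (fun y hy => comm_mem_of_commute (comm_commute hAC hx hy) _)
  · exact mem_ucs_succ_sup3 (hBR hx) (fun y hy => comm_swap_mem (z3e (Subgroup.commutator_mem_commutator hy hx)))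
      (fun y hy => comm_mem_of_commute (comm_commute (self_comm hS hB) hx hy) _)
      (fun y hy => comm_swap_mem (z3f (Subgroup.commutator_mem_commutator hy hx)))
  · exact mem_ucs_succ_sup3 (hCR hx) (fun y hy => comm_mem_of_commute (comm_commute hAC hy hx).symm _)
      (fun y hy => z3f (Subgroup.commutator_mem_commutator hx hy))
      (fun y hy => comm_mem_of_commute (comm_commute (self_comm hS hC) hx hy) _)

end

end H28
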