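import Cfsg.Agent.H28.Root

/-! Abstract root subgroups (Timmesfeld II §2), part 2: components of `𝓕(Σ)` are conjugacy classes, points of a line relative
to an opposite point, quadratic modules `E⁅E,B⁆`, double transitivity on lines, specialness in the non-degenerate case. -/

set_option autoImplicit false

namespace H28
open Cfsg
open scoped commutatorElement

variable {G : Type*} [Group G] {S : Set (Subgroup G)} {A B C D E : Subgroup G}

theorem not_nilpotent_of_elem (h : IsRankOnePair A B) {U : Subgroup G} {a : G} (ha : a ∈ A) (ha1 : a ≠ 1) (haU : a ∈ U)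
    (hB : B ≤ U) : ¬ Group.IsNilpotent U :=
  r1_not_nilpotent (r1_cj_right h ha ha1) hB (cj_le_of_mem haU hB)

theorem fadj_symm (h : FAdj S A B) : FAdj S B A := ⟨h.2.1, h.1, r1_symm h.2.2⟩

theorem rtg_symm {α : Type*} {r : α → α → Prop} (hr : ∀ a b, r a b → r b a) {a b : α}
    (h : Relation.ReflTransGen r a b) : Relation.ReflTransGen r b a := by
  induction h with
  | refl => exact .refl
  | tail _ h ih => exact .head (hr _ _ h) ih

theorem fconn_symm (h : Relation.ReflTransGen (FAdj S) A B) : Relation.ReflTransGen (FAdj S) B A :=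
  rtg_symm (fun _ _ => fadj_symm) h

theorem iSup_induction {T : Set (Subgroup G)} {P : G → Prop} (mem : ∀ A ∈ T, ∀ a ∈ A, P a) (one : P 1)
    (mul : ∀ x y, P x → P y → P (x * y)) {g : G} (hg : g ∈ ⨆ A ∈ T, A) : P g := by
  rw [iSup_subtype'] at hg
  exact Subgroup.iSup_induction (fun A : T => (A : Subgroup G)) (C := P) hg (fun A a ha => mem A A.2 a ha) one mul

section
variable (hS : IsRootSubgroupSet S)
include hS

theorem root_induction {P : G → Prop} (mem : ∀ A ∈ S, ∀ a ∈ A, P a) (one : P 1)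
    (mul : ∀ x y, P x → P y → P (x * y)) (g : G) : P g :=
  iSup_induction mem one mul (hS.generates ▸ Subgroup.mem_top g)

theorem fconn_cj_both (h : Relation.ReflTransGen (FAdj S) A B) (g : G) :
    Relation.ReflTransGen (FAdj S) (cj g A) (cj g B) :=
  h.lift (cj g) fun _ _ h => ⟨cj_mem hS h.1 g, cj_mem hS h.2.1 g, r1_cj h.2.2 g⟩

theorem fconn_conj (h : Relation.ReflTransGen (FAdj S) A B) : ∃ g, B = cj g A := by
  induction h with
  | refl => exact ⟨1, by simp⟩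
  | tail _ h ih =>
    obtain ⟨g, rfl⟩ := ih
    obtain ⟨x, -, e, -⟩ := r1_exists_swap h.2.2
    exact ⟨x * g, by rw [cj_mul, e]⟩

/-- an element of a member in the commutator case with `B` does not act like an element of a partner of `B` -/
theorem rc_not_acts (h : IsRankOnePair A B) (hB : B ∈ S) (hE : RootCommutatorCase S E B) {a e : G} (ha : a ∈ A)
    (ha1 : a ≠ 1) (he : e ∈ E) : cj e B ≠ cj a B := fun hea =>
  r1_commutator_ne_bot (r1_cj_right h ha ha1) (hea ▸ rc_cj_comm hS hB (rc_symm hE) he)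

theorem fconn_cj_elem (hA : A ∈ S) (hN : NI S A) (hD : D ∈ S) {d : G} (hd : d ∈ D) :
    Relation.ReflTransGen (FAdj S) A (cj d A) := by
  by_cases hd1 : d = 1
  · subst hd1; simpa using Relation.ReflTransGen.refl
  rcases hS.pair A hA D hD with h | h | h
  · rw [cj_of_comm_bot (comm_bot_symm h) hd]
  · exact .single ⟨hA, cj_mem hS hA d, r1_cj_right (r1_symm h) hd hd1⟩
  obtain ⟨E, hE, hAE⟩ := hN
  have hdC : cj d ⁅A, D⁆ = ⁅A, D⁆ := cj_of_comm_bot (comm_bot_symm (rc_right h)) hd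
  obtain ⟨a, ha, ha1⟩ := exists_ne_one (hS.ne_bot A hA)
  have hc1 := rc_comm_ne_one hS ⟨E, hE, hAE⟩ hA h ha ha1 hd hd1
  have hc := Subgroup.commutator_mem_commutator ha hd
  rcases hS.pair _ h.1 E hE with h1 | h1 | h1
  · exact absurd (rc_not_comm_partner hS hA h hE hAE hc fun x hx => comm_commute h1 hc hx) hc1
  · have p1 : Relation.ReflTransGen (FAdj S) A ⁅A, D⁆ :=
      (Relation.ReflTransGen.single ⟨hA, hE, hAE⟩).tail ⟨hE, h.1, r1_symm h1⟩
    have p2 := fconn_cj_both hS p1 d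
    rw [hdC] at p2
    exact p1.trans (fconn_symm p2)
  rcases hS.pair _ (cj_mem hS hA d) E hE with h2 | h2 | h2
  · refine absurd ?_ (rc_not_acts hS hAE hE h1 ha ha1 hc)
    rw [show ⁅a, d⁆ = a * (d * a⁻¹ * d⁻¹) by simp only [commutatorElement_def]; group, cj_mul,
      cj_of_comm_bot h2 (conj_mem_cj (A.inv_mem ha))]
  · exact (Relation.ReflTransGen.single ⟨hA, hE, hAE⟩).tail ⟨hE, cj_mem hS hA d, r1_symm h2⟩
  · exfalso
    have hcomm : ⁅cj d A, ⁅A, D⁆⁆ = ⊥ := by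
      have := comm_bot_cj (comm_bot_symm (rc_left h)) d
      rwa [hdC] at this
    refine not_nilpotent_of_elem hAE ha ha1 ?_ (le_sup_right.trans le_sup_left)
      (string_nilpotent hS (cj_mem hS hA d) hE h.1 h2 h1 hcomm)
    have hm : ⁅a, d⁆ * (d * a * d⁻¹) ∈ cj d A ⊔ E ⊔ ⁅A, D⁆ :=
      mul_mem (Subgroup.mem_sup_right hc) (Subgroup.mem_sup_left (Subgroup.mem_sup_left (conj_mem_cj ha)))
    rwa [show ⁅a, d⁆ * (d * a * d⁻¹) = a by simp only [commutatorElement_def]; group] at hm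

theorem fconn_cj (g : G) : ∀ A ∈ S, NI S A → Relation.ReflTransGen (FAdj S) A (cj g A) := by
  refine root_induction hS (P := fun g => ∀ A ∈ S, NI S A → Relation.ReflTransGen (FAdj S) A (cj g A))
    (fun D hD d hd A hA hN => fconn_cj_elem hS hA hN hD hd) (fun A _ _ => by simpa using Relation.ReflTransGen.refl)
    (fun x y hx hy A hA hN => ?_) g
  rw [cj_mul]
  exact (hy A hA hN).trans (hx _ (cj_mem hS hA y) (hN.cj hS y))

omit hS in
theorem ni_of_fconn (h : Relation.ReflTransGen (FAdj S) A B) (hne : B ≠ A) : NI S A := by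
  rcases h.cases_head with rfl | ⟨C, h1, -⟩
  · exact absurd rfl hne
  · exact ⟨C, h1.2.1, h1.2.2⟩

omit hS in
theorem line_root (hC : C ∈ linePartners S A) {x : G} (hx : x ∈ A ⊔ C) (hx1 : x ≠ 1) : ∃ E ∈ S, E ≤ A ⊔ C ∧ x ∈ E := by
  obtain ⟨E, hE, h⟩ := hC.2.2.1 x hx hx1
  exact ⟨E, hE.1, hE.2, h⟩

omit hS in
theorem line_inf (hA : A ∈ S) (hC : C ∈ linePartners S A) {x : G} (hx : x ∈ A) (hx' : x ∈ C) : x = 1 := by
  have := hC.2.2.2 A ⟨hA, le_sup_left⟩ C ⟨hC.1.1, le_sup_right⟩ hC.1.2.1.symm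
  exact Subgroup.mem_bot.1 (this ▸ (⟨hx, hx'⟩ : x ∈ A ⊓ C))

theorem line_comm (hA : A ∈ S) (hC : C ∈ linePartners S A) : ⁅A ⊔ C, A ⊔ C⁆ = ⊥ :=
  sup_comm_bot (comm_bot_sup (self_comm hS hA) hC.1.2.2) (comm_bot_sup (comm_bot_symm hC.1.2.2) (self_comm hS hC.1.1))

/-- an element of a line through `A` outside `A` does not centralise a partner of `A` -/
theorem line_not_comm (hA : A ∈ S) (hC : C ∈ linePartners S A) (hB : B ∈ S) (h : IsRankOnePair A B) {e : G}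
    (he : e ∈ A ⊔ C) (heB : ∀ b ∈ B, Commute e b) : e = 1 := by
  obtain ⟨a, ha, ha1⟩ := exists_ne_one (hS.ne_bot A hA)
  have heA : ∀ x ∈ A, Commute e x := fun x hx => comm_commute (line_comm hS hA hC) he (Subgroup.mem_sup_left hx)
  by_cases hea : e * a = 1
  · exact r1_not_commute h (by rw [eq_inv_of_mul_eq_one_left hea]; exact A.inv_mem ha) heB
  obtain ⟨E, hE, -, h2⟩ := line_root hC (mul_mem he (Subgroup.mem_sup_left ha)) hea
  exact central_mul_not_root hS h hB hE ha ha1 heA heB h2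

/-- L1: a line through `A` has a point in the commutator case with a given partner of `A` -/
theorem line_exists_rc (hA : A ∈ S) (hC : C ∈ linePartners S A) (hB : B ∈ S) (h : IsRankOnePair A B) :
    ∃ E ∈ S, E ≤ A ⊔ C ∧ E ≠ A ∧ RootCommutatorCase S E B := by
  have notc : ∀ E ∈ S, E ≤ A ⊔ C → ⁅E, B⁆ ≠ ⊥ := fun E hE hle hc => by
    obtain ⟨e, he, he1⟩ := exists_ne_one (hS.ne_bot E hE)
    exact he1 (line_not_comm hS hA hC hB h (hle he) fun b hb => comm_commute hc he hb)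
  rcases hS.pair C hC.1.1 B hB with h1 | h1 | h1
  · exact absurd h1 (notc C hC.1.1 le_sup_right)
  · obtain ⟨b, hb, hb1⟩ := exists_ne_one (hS.ne_bot B hB)
    obtain ⟨a, ha, -, e1⟩ := r1_exists (r1_symm h) hb hb1
    obtain ⟨c, hc, hc1, e2⟩ := r1_exists (r1_symm h1) hb hb1
    have hx : a⁻¹ * c ∈ A ⊔ C := mul_mem (Subgroup.mem_sup_left (A.inv_mem ha)) (Subgroup.mem_sup_right hc)
    have hxA : a⁻¹ * c ∉ A := fun hm => hc1 (line_inf hA hC (by simpa using A.mul_mem ha hm) hc)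
    have hx1 : a⁻¹ * c ≠ 1 := fun h0 => hxA (h0 ▸ A.one_mem)
    obtain ⟨E, hE, hle, hxE⟩ := line_root hC hx hx1
    refine ⟨E, hE, hle, fun hEA => hxA (hEA ▸ hxE), ?_⟩
    rcases hS.pair E hE B hB with h2 | h2 | h2
    · exact absurd h2 (notc E hE hle)
    · exfalso
      apply r1_commutator_ne_bot (r1_cj_right h2 hxE hx1)
      have := comm_bot_cj (comm_bot_cj hC.1.2.2 b) a⁻¹
      rwa [← e1, ← e2, cj_inv_cj, ← cj_mul] at this
    · exact h2
  · exact ⟨C, hC.1.1, le_sup_right, hC.1.2.1, h1⟩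

/-- L2 -/
theorem rc_rc (hA : A ∈ S) (hB : B ∈ S) (hE : E ∈ S) (h : IsRankOnePair A B) (hEA : ⁅E, A⁆ = ⊥)
    (hEB : RootCommutatorCase S E B) : RootCommutatorCase S ⁅E, B⁆ A := by
  obtain ⟨b, hb, hb1⟩ := exists_ne_one (hS.ne_bot B hB)
  obtain ⟨e, he, he1⟩ := exists_ne_one (hS.ne_bot E hE)
  have hNB : NI S B := ⟨A, hA, r1_symm h⟩
  have hne : ∀ e ∈ E, e ≠ 1 → ∀ b ∈ B, b ≠ 1 → ⁅e, b⁆ ≠ 1 := fun e he he1 b hb hb1 h0 =>
    rc_comm_ne_one hS hNB hB (rc_symm hEB) hb hb1 he he1 (by rw [← commutatorElement_inv, h0, inv_one])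
  rcases hS.pair _ hEB.1 A hA with h1 | h1 | h1
  · exfalso
    have k1 : ⁅cj b E, A⁆ = ⊥ := comm_bot_mono (sup_comm_bot hEA h1) (cj_le_sup_comm hb) le_rfl
    have k2 := comm_bot_sup k1 (comm_bot_cj hEA b)
    rw [sup_eq_of_mem_Om h left_mem_Om (cj_mem_Om h (Subgroup.mem_sup_right hb) left_mem_Om)
      (cj_ne_right (r1_symm h) hb hb1).symm] at k2
    have k3 := comm_bot_cj (comm_bot_mono k2 le_rfl le_sup_right) b⁻¹
    rw [cj_inv_cj, cj_of_mem (B.inv_mem hb)] at k3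
    exact hS.ne_bot _ hEB.1 k3
  · exfalso
    have hf := Subgroup.commutator_mem_commutator (E.inv_mem he) hb
    refine he1 (central_mul_not_root hS h1 hA (cj_mem hS hE b) hf (hne _ (E.inv_mem he) (inv_ne_one.2 he1) b hb hb1)
      (fun x hx => (comm_commute (rc_left hEB) hx he).symm) (fun x hx => comm_commute hEA he hx) ?_)
    rw [show e * ⁅e⁻¹, b⁆ = b * e * b⁻¹ by simp only [commutatorElement_def]; group]
    exact conj_mem_cj he
  · exact h1

/-- the basic computation: `e · [a⁻¹, [e⁻¹, b]]` centralises `⟨A, B⟩` -/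
theorem rc_rc_elem (hA : A ∈ S) (hB : B ∈ S) (hE : E ∈ S) (h : IsRankOnePair A B) (hEA : ⁅E, A⁆ = ⊥)
    (hEB : RootCommutatorCase S E B) {a b e : G} (ha : a ∈ A) (hb : b ∈ B) (hab : cj b A = cj a B) (he : e ∈ E) :
    (∀ x ∈ A, Commute (e * ⁅a⁻¹, ⁅e⁻¹, b⁆⁆) x) ∧ (∀ x ∈ B, Commute (e * ⁅a⁻¹, ⁅e⁻¹, b⁆⁆) x) := by
  have h1 := rc_rc hS hA hB hE h hEA hEB
  have hf := Subgroup.commutator_mem_commutator (E.inv_mem he) hb
  have he1 : ⁅a⁻¹, ⁅e⁻¹, b⁆⁆ ∈ ⁅⁅E, B⁆, A⁆ := comm_swap_mem (Subgroup.commutator_mem_commutator hf (A.inv_mem ha))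
  refine ⟨fun x hx => (comm_commute hEA he hx).mul_left (comm_commute (rc_right h1) he1 hx), fun x hx => ?_⟩
  have k1 := comm_bot_cj (comm_bot_cj hEA b) a⁻¹
  rw [hab, cj_inv_cj] at k1
  have k2 := comm_commute k1 (conj_mem_cj (conj_mem_cj he)) hx
  have k3 := comm_commute (rc_right hEB) hf hx
  have k4 : e * ⁅a⁻¹, ⁅e⁻¹, b⁆⁆ = (a⁻¹ * (b * e * b⁻¹) * a⁻¹⁻¹) * ⁅e⁻¹, b⁆⁻¹ := by
    have c := (comm_commute hEA he ha).inv_right.eq
    calc e * ⁅a⁻¹, ⁅e⁻¹, b⁆⁆ = (e * a⁻¹) * ⁅e⁻¹, b⁆ * a * ⁅e⁻¹, b⁆⁻¹ := by rw [commutatorElement_def a⁻¹]; group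
      _ = _ := by rw [c, commutatorElement_def e⁻¹]; group
  rw [k4]
  exact k2.mul_left k3.inv_left

/-- L3 -/
theorem rc_rc_eq (hA : A ∈ S) (hB : B ∈ S) (hE : E ∈ S) (h : IsRankOnePair A B) (hEA : ⁅E, A⁆ = ⊥)
    (hEB : RootCommutatorCase S E B) (hroot : ∀ e ∈ E, ∀ a ∈ A, a ≠ 1 → ∃ T ∈ S, e * a ∈ T) : ⁅⁅E, B⁆, A⁆ = E := by
  have h1 := rc_rc hS hA hB hE h hEA hEB
  obtain ⟨a, ha, ha1⟩ := exists_ne_one (hS.ne_bot A hA)
  obtain ⟨b, hb, hb1, hab⟩ := r1_exists h ha ha1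
  have key : ∀ e ∈ E, e * ⁅a⁻¹, ⁅e⁻¹, b⁆⁆ = 1 := by
    intro e he
    obtain ⟨c1, c2⟩ := rc_rc_elem hS hA hB hE h hEA hEB ha hb hab he
    have hf := Subgroup.commutator_mem_commutator (E.inv_mem he) hb
    set f := ⁅e⁻¹, b⁆
    obtain ⟨T, hT, hT'⟩ := hroot e he _ (A.inv_mem ha) (inv_ne_one.2 ha1)
    have hfB : cj f B = B := cj_of_comm_bot (rc_right hEB) hf
    have r := r1_cj h f
    rw [hfB] at r
    have hz : cj f A ≤ A ⊔ ⁅A, ⁅E, B⁆⁆ := cj_le_sup_comm hf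
    have he1 : ⁅a⁻¹, f⁆ ∈ ⁅⁅E, B⁆, A⁆ := comm_swap_mem (Subgroup.commutator_mem_commutator hf (A.inv_mem ha))
    have hEE : ⁅E, ⁅A, ⁅E, B⁆⁆⁆ = ⊥ := by
      refine commutator_eq_bot_iff.2 fun x hx => ?_
      have : ⁅A, ⁅E, B⁆⁆ ≤ A ⊔ ⁅E, B⁆ :=
        (Subgroup.commutator_mono le_sup_left le_sup_right).trans (Subgroup.commutator_le_self _)
      exact fun y hy => comm_commute (comm_bot_sup hEA (comm_bot_symm (rc_left hEB))) hx (this hy)
    refine central_mul_not_root hS r hB hT (conj_mem_cj (A.inv_mem ha)) (by simpa [conj_eq_one_iff] using ha1)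
      (fun x hx => commute_sup c1 (fun y hy => ?_) x (hz hx)) c2 ?_
    · refine (comm_commute hEE he hy).mul_left (comm_commute (self_comm hS h1.1) he1 ?_)
      rwa [Subgroup.commutator_comm]
    · convert hT' using 1
      rw [commutatorElement_def a⁻¹]; group
  apply le_antisymm
  · intro x hx
    obtain ⟨f, hf, rfl⟩ := rc_surj (rc_symm h1) (A.inv_mem ha) (inv_ne_one.2 ha1) (c := x)
      (by rwa [Subgroup.commutator_comm])
    obtain ⟨e, he, rfl⟩ := rc_surj' hEB hb hb1 hf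
    have := key e⁻¹ (E.inv_mem he)
    rw [inv_inv, inv_mul_eq_one] at this
    rwa [← this]
  · intro e he
    have := key e⁻¹ (E.inv_mem he)
    rw [inv_inv, inv_mul_eq_one] at this
    rw [this]
    exact comm_swap_mem (Subgroup.commutator_mem_commutator (Subgroup.commutator_mem_commutator he hb) (A.inv_mem ha))

omit hS in
theorem line_hroot (hA : A ∈ S) (hC : C ∈ linePartners S A) (hE : E ≤ A ⊔ C) :
    ∀ e ∈ E, ∀ a ∈ A, a ≠ 1 → ∃ T ∈ S, e * a ∈ T := by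
  intro e he a ha _
  by_cases h : e * a = 1
  · exact ⟨A, hA, h ▸ A.one_mem⟩
  · obtain ⟨T, hT, -, h2⟩ := line_root hC (mul_mem (hE he) (Subgroup.mem_sup_left ha)) h
    exact ⟨T, hT, h2⟩

/-- L4: every line through `A` is of the form `A ⁅A, D⁆` -/
theorem line_exists_transv (hall : ∀ A ∈ S, NI S A) (hA : A ∈ S) (hC : C ∈ linePartners S A) :
    ∃ D ∈ S, RootCommutatorCase S A D ∧ A ⊔ ⁅A, D⁆ = A ⊔ C := by
  obtain ⟨B, hB, h⟩ := hall A hA
  obtain ⟨E, hE, hle, hne, hEB⟩ := line_exists_rc hS hA hC hB h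
  have hEA : ⁅E, A⁆ = ⊥ := comm_bot_mono (line_comm hS hA hC) hle le_sup_left
  have h1 := rc_symm (rc_rc hS hA hB hE h hEA hEB)
  have h2 := rc_rc_eq hS hA hB hE h hEA hEB (line_hroot hA hC hle)
  rw [Subgroup.commutator_comm] at h2
  refine ⟨_, hEB.1, h1, ?_⟩
  have hp := rc_partition hS (hall A hA) hA h1
  rw [h2] at hp ⊢
  refine le_antisymm (sup_le le_sup_left hle) (sup_le le_sup_left ?_)
  have : ¬ E ≤ A := fun h' => hne ((hall A hA).eq_of_le hS hE h')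
  obtain ⟨e, he, heA⟩ := Set.not_subset.1 this
  obtain ⟨a, ha, c, hc, rfl⟩ := mem_sup_of_comm hC.1.2.2 (hle he)
  have hc1 : c ≠ 1 := by rintro rfl; exact heA (by simpa using ha)
  have hc2 : c ∈ A ⊔ E := by
    simpa using (A ⊔ E).mul_mem (Subgroup.mem_sup_left (A.inv_mem ha)) (Subgroup.mem_sup_right he)
  obtain ⟨T, hT, hcT⟩ := hp.2.1 c hc2 hc1
  rw [← (hall C hC.1.1).eq_of_mem hS hT.1 hc hc1 hcT]
  exact hT.2

omit hS in
theorem rc_normalizes (h : RootCommutatorCase S A B) {x : G} (hx : x ∈ B) : cj x (A ⊔ ⁅A, B⁆) = A ⊔ ⁅A, B⁆ := by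
  have k : ∀ x ∈ B, cj x (A ⊔ ⁅A, B⁆) ≤ A ⊔ ⁅A, B⁆ := fun x hx => by
    rw [cj_sup, cj_of_comm_bot (comm_bot_symm (rc_right h)) hx]
    exact sup_le (cj_le_sup_comm hx) le_sup_right
  exact le_antisymm (k x hx) (by simpa using cj_mono (g := x) (k x⁻¹ (B.inv_mem hx)))

theorem rc_points (hA : NI S A) (hAS : A ∈ S) (h : RootCommutatorCase S A B) (hP : E ∈ S) (hle : E ≤ A ⊔ ⁅A, B⁆) :
    E = ⁅A, B⁆ ∨ ∃ b ∈ B, E = cj b A := by
  have : E ∈ membersIn S (A ⊔ ⁅A, B⁆) := ⟨hP, hle⟩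
  rw [rc_membersIn hS hA hAS h] at this
  rcases this with ⟨b, hb, rfl⟩ | rfl
  · exact Or.inr ⟨b, hb, rfl⟩
  · exact Or.inl rfl

theorem rc_cj (h : RootCommutatorCase S A B) (hA : A ∈ S) (hB : B ∈ S) (g : G) :
    RootCommutatorCase S (cj g A) (cj g B) :=
  rc_of_mem hS (cj_mem hS hA g) (cj_mem hS hB g) (by rw [← cj_commutator]; exact cj_mem hS h.1 g)

/-- for each point `P` of a line there is a member normalising the line, fixing `P`, transitive on the other points -/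
theorem line_transv_at (hall : ∀ A ∈ S, NI S A) (hA : A ∈ S) (hC : C ∈ linePartners S A) {P : Subgroup G} (hP : P ∈ S)
    (hPle : P ≤ A ⊔ C) : ∃ D ∈ S, (∀ d ∈ D, cj d (A ⊔ C) = A ⊔ C) ∧
      ∀ Q ∈ S, Q ≤ A ⊔ C → Q ≠ P → RootCommutatorCase S Q D ∧ ⁅Q, D⁆ = P ∧ Q ⊔ P = A ⊔ C := by
  have good : ∀ {A' D : Subgroup G}, A' ∈ S → D ∈ S → RootCommutatorCase S A' D → A' ⊔ ⁅A', D⁆ = A ⊔ C →
      (∀ d ∈ D, cj d (A ⊔ C) = A ⊔ C) ∧
      ∀ Q ∈ S, Q ≤ A ⊔ C → Q ≠ ⁅A', D⁆ → RootCommutatorCase S Q D ∧ ⁅Q, D⁆ = ⁅A', D⁆ ∧ Q ⊔ ⁅A', D⁆ = A ⊔ C := by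
    intro A' D hA' hD h e
    refine ⟨fun d hd => e ▸ rc_normalizes h hd, fun Q hQ hle hne => ?_⟩
    rcases rc_points hS (hall _ hA') hA' h hQ (e ▸ hle) with h1 | ⟨d, hd, rfl⟩
    · exact absurd h1 hne
    · have r := rc_cj hS h hA' hD d
      have e2 := cj_commutator d A' D
      have e3 := cj_of_comm_bot (comm_bot_symm (rc_right h)) hd
      rw [cj_of_mem hd] at r e2
      refine ⟨r, by rw [← e2, e3], ?_⟩
      rw [← e, ← rc_normalizes h hd, cj_sup, e3]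
  obtain ⟨D, hD, h1, e1⟩ := line_exists_transv hS hall hA hC
  obtain ⟨g1, g2⟩ := good hA hD h1 e1
  by_cases hPE : P = ⁅A, D⁆
  · subst hPE; exact ⟨D, hD, g1, g2⟩
  obtain ⟨D1, hD1, h2, e2⟩ := line_exists_transv hS hall h1.1 (rc_line_left hS (hall A hA) hA h1)
  rw [sup_comm _ A, e1] at e2
  have hE1le : ⁅⁅A, D⁆, D1⁆ ≤ A ⊔ C := e2 ▸ le_sup_right
  have hE1ne : ⁅⁅A, D⁆, D1⁆ ≠ ⁅A, D⁆ := rc_ne_left hS h2
  -- move `⁅⁅A,D⁆,D1⁆` to `P` by an element of `D`
  rcases rc_points hS (hall A hA) hA h1 hP (e1 ▸ hPle) with h3 | ⟨d, hd, rfl⟩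
  · exact absurd h3 hPE
  rcases rc_points hS (hall A hA) hA h1 h2.1 (e1 ▸ hE1le) with h3 | ⟨d', hd', e3⟩
  · exact absurd h3 hE1ne
  have hdd := D.mul_mem hd (D.inv_mem hd')
  have r := rc_cj hS h2 h1.1 hD1 (d * d'⁻¹)
  have e4 : ⁅cj (d * d'⁻¹) ⁅A, D⁆, cj (d * d'⁻¹) D1⁆ = cj d A := by rw [← cj_commutator, e3, cj_mul, cj_inv_cj]
  obtain ⟨k1, k2⟩ := good (cj_mem hS h1.1 _) (cj_mem hS hD1 _) r (by rw [← cj_commutator, ← cj_sup, e2, g1 _ hdd])
  rw [e4] at k2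
  exact ⟨_, cj_mem hS hD1 _, k1, k2⟩

theorem line_cj_of_ne (hall : ∀ A ∈ S, NI S A) {P Q Q' D : Subgroup G} (hQ : Q ∈ S) (hQ' : Q' ∈ S)
    (h : RootCommutatorCase S Q D) (e : ⁅Q, D⁆ = P) (hle : Q' ≤ Q ⊔ P) (hne : Q' ≠ P) : ∃ d ∈ D, Q' = cj d Q := by
  subst e
  exact (rc_points hS (hall Q hQ) hQ h hQ' hle).resolve_left hne

theorem line_point_line (hall : ∀ A ∈ S, NI S A) (hA : A ∈ S) (hC : C ∈ linePartners S A) {P Q : Subgroup G}
    (hP : P ∈ S) (hPle : P ≤ A ⊔ C) (hQ : Q ∈ S) (hQle : Q ≤ A ⊔ C) (hne : Q ≠ P) : Q ∈ linePartners S P := by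
  obtain ⟨D, -, -, h⟩ := line_transv_at hS hall hA hC hP hPle
  obtain ⟨h1, h2, -⟩ := h Q hQ hQle hne
  rw [← h2]; exact rc_line_left hS (hall Q hQ) hQ h1

/-- `S5036`, first part -/
theorem opp_r1 (hA : A ∈ S) (hB : B ∈ S) (hD : D ∈ S) (h1 : RootCommutatorCase S A B)
    (h2 : RootCommutatorCase S ⁅A, B⁆ D) (e : ⁅⁅A, B⁆, D⁆ = A) : IsRankOnePair B D := by
  have hAD : ⁅A, D⁆ = ⊥ := by have := rc_right h2; rwa [e] at this
  rcases hS.pair B hB D hD with h | h | h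
  · exfalso
    apply hS.ne_bot A hA
    rw [← e]
    refine Subgroup.commutator_commutator_eq_bot_of_rotate ?_ ?_
    · rw [h]; simp
    · rw [comm_bot_symm hAD]; simp
  · exact h
  · exfalso
    have hn := string_nilpotent hS hA hB hD h1 (rc_symm h) hAD
    set R := A ⊔ B ⊔ D
    have hAR : A ≤ R := le_sup_left.trans le_sup_left
    have hBR : B ≤ R := le_sup_right.trans le_sup_left
    have key : ∀ n, A ≤ R.lowerCentralSeries n := by
      intro n
      induction n with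
      | zero => exact hAR
      | succ n ih =>
        rw [← e, Subgroup.lowerCentralSeries_succ]
        refine Subgroup.commutator_mono ?_ le_sup_right
        exact (Subgroup.commutator_mono ih hBR).trans (by
          rw [← Subgroup.lowerCentralSeries_succ]; exact Subgroup.lowerCentralSeries_antitone _ (Nat.le_succ n))
    obtain ⟨n, hn⟩ := (Subgroup.isNilpotent_iff_lowerCentralSeries R).1 hn
    exact hS.ne_bot A hA (eq_bot_iff.2 (hn ▸ key n))

/-- for a commutator pair `(A, C)` there is a partner of `A` commuting with `C` -/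
theorem rc_exists_partner (hall : ∀ A ∈ S, NI S A) (hA : A ∈ S) (hC : C ∈ S) (h : RootCommutatorCase S C A) :
    ∃ D ∈ S, IsRankOnePair A D ∧ RootCommutatorCase S ⁅C, A⁆ D ∧ ⁅⁅C, A⁆, D⁆ = C := by
  have hl := line_symm h.1 (rc_line_left hS (hall C hC) hC h)
  obtain ⟨D, hD, -, h2⟩ := line_transv_at hS hall hC hl hC le_sup_left
  obtain ⟨h3, h4, -⟩ := h2 _ h.1 le_sup_right (rc_ne_left hS h)
  exact ⟨D, hD, opp_r1 hS hC hA hD h h3 h4, h3, h4⟩

open scoped IsMulCommutative in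
/-- a rank one pair normalising an abelian group on which `A` is quadratic and nontrivial in the strong sense is special -/
theorem special_of_normalized (h : IsRankOnePair A B) {N : Subgroup G} (hN : IsMulCommutative N)
    (hA : ∀ a ∈ A, cj a N = N) (hB : ∀ a ∈ B, cj a N = N) (hq : ⁅⁅N, A⁆, A⁆ = ⊥) (hX : ⁅⁅N, A⁆, B⁆ ≠ ⊥) :
    IsSpecialRankOnePair A B := by
  have hle : A ⊔ B ≤ Subgroup.normalizer (N : Set G) :=
    sup_le (fun a ha => mem_normalizer_iff_cj.2 (hA a ha)) (fun a ha => mem_normalizer_iff_cj.2 (hB a ha))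
  let φ : ↥(A ⊔ B) →* MulAut N := N.normalizerMonoidHom.comp (Subgroup.inclusion hle)
  let ρ : ↥(A ⊔ B) →* AddMonoid.End (Additive N) :=
    { toFun := fun x => MonoidHom.toAdditive (φ x).toMonoidHom
      map_one' := by rw [map_one]; rfl
      map_mul' := fun x y => by rw [map_mul]; rfl }
  have key : ∀ (x y : ↥(A ⊔ B)) (n : N), ((((ρ y - 1) * (ρ x - 1)) (Additive.ofMul n)).toMul : G) =
      ⁅(y : G), ⁅(x : G), (n : G)⁆⁆ := by
    intro x y n
    show ((ρ y (ρ x (Additive.ofMul n) - Additive.ofMul n) - (ρ x (Additive.ofMul n) - Additive.ofMul n)).toMul : G) = _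
    rw [toMul_sub, Subgroup.coe_div, div_eq_mul_inv]
    have e1 : ∀ (z : ↥(A ⊔ B)) (m : Additive N), ((ρ z m).toMul : G) = z * m.toMul * z⁻¹ := fun z m => rfl
    rw [e1, toMul_sub, Subgroup.coe_div, e1]
    simp [commutatorElement_def, div_eq_mul_inv]
  rw [← special_subgroupOf (U := A ⊔ B) le_sup_left le_sup_right]
  refine special_of_quadratic (r1Group_subgroupOf h) ρ (fun a ha a' ha' => ?_) ?_
  · refine AddMonoidHom.ext fun n => Additive.toMul.injective (Subtype.ext ?_)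
    refine (key a a' n.toMul).trans ?_
    exact commutatorElement_eq_one_iff_commute.2
      (comm_commute hq (comm_swap_mem (Subgroup.commutator_mem_commutator n.toMul.2 ha)) ha').symm
  · by_contra hc
    push Not at hc
    apply hX
    have : ⁅N, A⁆ ≤ Subgroup.centralizer (B : Set G) := Subgroup.commutator_le.2 fun n hn a ha => by
      refine comm_swap_mem (Subgroup.mem_centralizer_iff.2 fun b hb => ?_)
      have := key ⟨a, Subgroup.mem_sup_left ha⟩ ⟨b, Subgroup.mem_sup_right hb⟩ ⟨n, hn⟩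
      rw [hc] at this
      exact commutatorElement_eq_one_iff_commute.1 this.symm
    exact Subgroup.commutator_eq_bot_iff_le_centralizer.2 this

theorem special_of_rc (hA : A ∈ S) (hB : B ∈ S) (hE : E ∈ S) (h : IsRankOnePair A B) (hEA : ⁅E, A⁆ = ⊥)
    (hEB : RootCommutatorCase S E B) (e : ⁅⁅E, B⁆, A⁆ = E) : IsSpecialRankOnePair A B := by
  have h1 := rc_rc hS hA hB hE h hEA hEB
  have hc : ⁅E ⊔ ⁅E, B⁆, E ⊔ ⁅E, B⁆⁆ = ⊥ := sup_comm_bot (comm_bot_sup (self_comm hS hE) (comm_bot_symm (rc_left hEB)))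
    (comm_bot_sup (rc_left hEB) (self_comm hS hEB.1))
  have hn : ∀ a ∈ A, cj a (E ⊔ ⁅E, B⁆) = E ⊔ ⁅E, B⁆ := fun a ha => by
    have := rc_normalizes h1 ha
    rwa [e, sup_comm] at this
  have hNA : ⁅E ⊔ ⁅E, B⁆, A⁆ = E := by
    refine le_antisymm (Subgroup.commutator_le.2 fun x hx a ha => ?_)
      (by conv_lhs => rw [← e]
          exact Subgroup.commutator_mono le_sup_right le_rfl)
    obtain ⟨y, hy, f, hf, rfl⟩ := mem_sup_of_comm (comm_bot_symm (rc_left hEB)) hx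
    have h2 : ⁅f, a⁆ ∈ E := e ▸ Subgroup.commutator_mem_commutator hf ha
    rw [show ⁅y * f, a⁆ = y * ⁅f, a⁆ * y⁻¹ * ⁅y, a⁆ by simp only [commutatorElement_def]; group]
    exact E.mul_mem (E.mul_mem (E.mul_mem hy h2) (E.inv_mem hy)) (comm_mem_of_commute (comm_commute hEA hy ha) _)
  exact special_of_normalized hS h (comm_of_commute (commutator_eq_bot_iff.1 hc)) hn (fun b hb => rc_normalizes hEB hb)
    (by rw [hNA, hEA]) (by rw [hNA]; exact hS.ne_bot _ hEB.1)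

omit hS in
/-- L5: two commuting subgroups with a common partner are swapped by an element -/
theorem exists_swap_of_common (hAC : ⁅A, C⁆ = ⊥) (hAD : IsRankOnePair A D) (hCD : IsRankOnePair C D) :
    ∃ g, cj g A = C ∧ cj g C = A := by
  obtain ⟨d, hd, hd1⟩ := exists_ne_one (r1_ne_bot (r1_symm hAD))
  obtain ⟨a, ha, ha1, e1⟩ := r1_exists (r1_symm hAD) hd hd1
  obtain ⟨c, hc, hc1, e2⟩ := r1_exists (r1_symm hCD) hd hd1
  obtain ⟨d', hd', -, e3⟩ := r1_exists hCD (C.inv_mem hc) (inv_ne_one.2 hc1)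
  obtain ⟨d'', hd'', -, e4⟩ := r1_exists hAD (A.inv_mem ha) (inv_ne_one.2 ha1)
  have hac := comm_commute hAC ha hc
  have k1 : ⁅cj a D, cj c D⁆ = ⊥ := by rw [e1, e2]; exact comm_bot_cj hAC d
  have k2 := comm_bot_cj k1 (a * c)⁻¹
  rw [← cj_mul, ← cj_mul, show (a * c)⁻¹ * a = c⁻¹ by group, show (a * c)⁻¹ * c = a⁻¹ by rw [hac.eq]; group,
    ← e3, ← e4] at k2
  have k3 := comm_bot_cj k2 d''⁻¹
  rw [cj_inv_cj, ← cj_mul] at k3
  have hdd := D.mul_mem (D.inv_mem hd'') hd'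
  have k4 : d''⁻¹ * d' = 1 := by
    by_contra hne
    have := comm_bot_sup hAC (comm_bot_symm k3)
    rw [sup_eq_of_mem_Om hCD left_mem_Om (cj_mem_Om hCD (Subgroup.mem_sup_right hdd) left_mem_Om)
      (cj_ne_right (r1_symm hCD) hdd hne).symm] at this
    exact r1_commutator_ne_bot hAD (comm_bot_mono this le_rfl le_sup_right)
  rw [inv_mul_eq_one] at k4
  subst k4
  refine ⟨d⁻¹ * (a * c) * d'', ?_, ?_⟩
  · rw [cj_mul, cj_mul, e4, ← cj_mul (a * c), show a * c * a⁻¹ = c by rw [hac.eq]; group, e2, cj_inv_cj]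
  · rw [cj_mul, cj_mul, e3, ← cj_mul (a * c), show a * c * c⁻¹ = a by group, e1, cj_inv_cj]

theorem all_ni (hcl : IsConjClassOfSubgroups S) (hA : A ∈ S) (h : NI S A) : ∀ B ∈ S, NI S B := by
  intro B hB
  obtain ⟨g, rfl⟩ := hcl.2 A hA B hB
  exact h.cj hS g

theorem line_cj (hC : C ∈ linePartners S A) (g : G) : cj g C ∈ linePartners S (cj g A) := by
  obtain ⟨⟨h1, h2, h3⟩, h4, h5, h6⟩ := hC
  have key : ∀ T, T ∈ membersIn S (cj g A ⊔ cj g C) → cj g⁻¹ T ∈ membersIn S (A ⊔ C) := fun T hT =>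
    ⟨cj_mem hS hT.1 _, by have := cj_mono (g := g⁻¹) hT.2; rwa [← cj_sup, cj_inv_cj] at this⟩
  refine ⟨⟨cj_mem hS h1 g, fun h => h2 (cj_inj.1 h), comm_bot_cj h3 g⟩, fun T hT => hT.2, fun x hx hx1 => ?_,
    fun T hT T' hT' hne => ?_⟩
  · rw [← cj_sup, mem_cj] at hx
    obtain ⟨T, hT, hxT⟩ := h5 _ hx (fun h => hx1 (by
      have : x = g * (g⁻¹ * x * g) * g⁻¹ := by group
      rw [this, h]; group))
    exact ⟨cj g T, ⟨cj_mem hS hT.1 g, by rw [← cj_sup]; exact cj_mono hT.2⟩, mem_cj.2 hxT⟩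
  · have := h6 _ (key T hT) _ (key T' hT') (fun h => hne (cj_inj.1 h))
    rwa [← cj_inf, cj_eq_bot] at this

theorem exists_line (hcl : IsConjClassOfSubgroups S) (hall : ∀ A ∈ S, NI S A)
    (hrc : ∃ A ∈ S, ∃ B ∈ S, RootCommutatorCase S A B) (hA : A ∈ S) : ∃ C, C ∈ linePartners S A := by
  obtain ⟨P, hP, Q, -, h⟩ := hrc
  obtain ⟨g, rfl⟩ := hcl.2 _ h.1 A hA
  exact ⟨_, line_cj hS (rc_line_left hS (hall P hP) hP h) g⟩

theorem nondeg_special (hcl : IsConjClassOfSubgroups S) (hrc : ∃ A ∈ S, ∃ B ∈ S, RootCommutatorCase S A B)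
    (hA : A ∈ S) (hB : B ∈ S) (h : IsRankOnePair A B) :
    (∃ E ∈ linePartners S A, RootCommutatorCase S E B) ∧ IsSpecialRankOnePair A B := by
  have hall := all_ni hS hcl hA ⟨B, hB, h⟩
  obtain ⟨C, hC⟩ := exists_line hS hcl hall hrc hA
  obtain ⟨E, hE, hle, hne, hEB⟩ := line_exists_rc hS hA hC hB h
  have hEA : ⁅E, A⁆ = ⊥ := comm_bot_mono (line_comm hS hA hC) hle le_sup_left
  exact ⟨⟨E, line_point_line hS hall hA hC hA le_sup_left hE hle hne, hEB⟩,
    special_of_rc hS hA hB hE h hEA hEB (rc_rc_eq hS hA hB hE h hEA hEB (line_hroot hA hC hle))⟩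

theorem econn_cj (hcl : IsConjClassOfSubgroups S) (hall : ∀ A ∈ S, NI S A)
    (hrc : ∃ A ∈ S, ∃ B ∈ S, RootCommutatorCase S A B) (g : G) :
    ∀ A ∈ S, Relation.ReflTransGen (EAdj S S) A (cj g A) := by
  have easy : ∀ A ∈ S, ∀ D ∈ S, RootCommutatorCase S A D → ∀ d ∈ D, Relation.ReflTransGen (EAdj S S) A (cj d A) := by
    intro A hA D _ h d hd
    by_cases e : cj d A = A
    · rw [e]
    · exact .single ⟨hA, cj_mem hS hA d, line_point_line hS hall hA (line_symm h.1 (rc_line_left hS (hall A hA) hA h))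
        hA le_sup_left (cj_mem hS hA d) (cj_le_sup_comm hd) e⟩
  refine root_induction hS (P := fun g => ∀ A ∈ S, Relation.ReflTransGen (EAdj S S) A (cj g A))
    (fun D hD d hd A hA => ?_) (fun A _ => by simpa using Relation.ReflTransGen.refl)
    (fun x y hx hy A hA => ?_) g
  · rcases hS.pair A hA D hD with h | h | h
    · rw [cj_of_comm_bot (comm_bot_symm h) hd]
    · obtain ⟨⟨E, hE, h1⟩, -⟩ := nondeg_special hS hcl hrc hA hD h
      exact (Relation.ReflTransGen.head ⟨hA, hE.1.1, hE⟩ (easy E hE.1.1 D hD h1 d hd)).tail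
        ⟨cj_mem hS hE.1.1 d, cj_mem hS hA d, line_cj hS (line_symm hA hE) d⟩
    · exact easy A hA D hD h d hd
  · rw [cj_mul]
    exact (hy A hA).trans (hx _ (cj_mem hS hA y))

theorem econn (hcl : IsConjClassOfSubgroups S) (hnd : IsNondegenerateRootSet S) : IsConnectedFamily (EAdj S S) S := by
  obtain ⟨-, ⟨P, hP, Q, hQ, h⟩, hrc⟩ := hnd
  intro A hA B hB
  obtain ⟨g, rfl⟩ := hcl.2 A hA B hB
  exact econn_cj hS hcl (all_ni hS hcl hP ⟨Q, hQ, h⟩) hrc g A hA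

theorem line_gen (hcl : IsConjClassOfSubgroups S) (hnd : IsNondegenerateRootSet S) (hA : A ∈ S) (hB : B ∈ S)
    (h : IsRankOnePair A B) {H : Subgroup G} (hH : ∀ C ∈ linePartners S A, C ≤ H) (hBH : B ≤ H) : H = ⊤ := by
  have hall := all_ni hS hcl hA ⟨B, hB, h⟩
  have hrc := hnd.2.2
  -- for a line through `A`, a member commuting with `A` and transitive on the other points
  have tr : ∀ C ∈ linePartners S A, ∃ D ∈ linePartners S A, ⁅C, D⁆ = A ∧
      ∀ Q ∈ S, Q ≤ A ⊔ C → Q ≠ A → ∃ d ∈ D, Q = cj d C := by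
    intro C hC
    obtain ⟨D, hD, -, h2⟩ := line_transv_at hS hall hA hC hA le_sup_left
    obtain ⟨h3, h4, h5⟩ := h2 C hC.1.1 le_sup_right hC.1.2.1
    refine ⟨D, ?_, h4, fun Q hQ hle hne => line_cj_of_ne hS hall hC.1.1 hQ h3 h4 (h5 ▸ hle) hne⟩
    have := rc_line_left hS (hall D hD) hD (rc_symm h3)
    rwa [Subgroup.commutator_comm, h4] at this
  have hAH : A ≤ H := by
    obtain ⟨C, hC⟩ := exists_line hS hcl hall hrc hA
    obtain ⟨D, hD, e, -⟩ := tr C hC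
    rw [← e]
    exact (Subgroup.commutator_mono (hH C hC) (hH D hD)).trans (Subgroup.commutator_le_self _)
  have step : ∀ C ∈ linePartners S A, ∃ x ∈ H, C = cj x A := by
    intro C hC
    obtain ⟨D, hD, -, h2⟩ := tr C hC
    obtain ⟨E, hE, hle, hne, hEB⟩ := line_exists_rc hS hA hC hB h
    have hEA : ⁅E, A⁆ = ⊥ := comm_bot_mono (line_comm hS hA hC) hle le_sup_left
    have hEl := line_point_line hS hall hA hC hA le_sup_left hE hle hne
    have h1 := rc_symm (rc_rc hS hA hB hE h hEA hEB)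
    have h3 := rc_rc_eq hS hA hB hE h hEA hEB (line_hroot hA hC hle)
    rw [Subgroup.commutator_comm] at h3
    obtain ⟨f, hf, hf1⟩ := exists_ne_one (hS.ne_bot _ hEB.1)
    have hfH : f ∈ H := (Subgroup.commutator_mono (hH E hEl) hBH).trans (Subgroup.commutator_le_self _) hf
    have hne2 : cj f A ≠ A := fun e => by
      have := rc_sup_cj h1 hf hf1
      rw [e, sup_idem] at this
      exact rc_not_le_left hS (hall A hA) h1 (le_sup_right.trans this.ge)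
    obtain ⟨d, hd, e⟩ := h2 _ (cj_mem hS hA f) ((cj_le_sup_comm hf).trans (by rw [h3]; exact sup_le le_sup_left hle)) hne2
    exact ⟨d⁻¹ * f, H.mul_mem (H.inv_mem (hH D hD hd)) hfH, by rw [cj_mul, e, cj_inv_cj]⟩
  have all : ∀ E, Relation.ReflTransGen (EAdj S S) A E → ∃ x ∈ H, E = cj x A := by
    intro E hE
    induction hE with
    | refl => exact ⟨1, H.one_mem, by simp⟩
    | tail _ h2 ih =>
      obtain ⟨x, hx, rfl⟩ := ih
      have := line_cj hS h2.2.2 x⁻¹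
      rw [cj_inv_cj] at this
      obtain ⟨y, hy, e⟩ := step _ this
      exact ⟨x * y, H.mul_mem hx hy, by rw [cj_mul, ← e, cj_cj_inv]⟩
  rw [eq_top_iff, ← hS.generates]
  refine iSup₂_le fun E hE => ?_
  obtain ⟨x, hx, rfl⟩ := all E (econn hS hcl hnd A hA E hE)
  exact cj_le_of_mem hx hAH

end

end H28
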