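import Cfsg.Agent.H7.SqB
/-! Direct squares of Suzuki groups, piece `PA`, 1: action of a section `Sz(q)` on abelian normal subgroups. -/

set_option autoImplicit false
universe u

namespace H28.SqA
open Cfsg H18 H1 Subgroup H4.Sq H28.SS
open scoped commutatorElement

/-- primes outside the classes `0, 1` -/
def RR (m : ℕ) : Set ℕ := {p | ¬ p ∣ cm m 0 ∧ ¬ p ∣ cm m 1}

def Frob (m : ℕ) (L : Type*) [Group L] : Prop := ∀ (G : Type u) [Group G] [Finite G] (φ : G →* L) (Y : Subgroup G),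
  H4.Sq.Ok m G → Y.map φ = ⊤ → PiGrp {2}ᶜ ⁅Y, Y ⊓ φ.ker⁆ → ∃ P ≤ Y, PiGrp {2} P ∧ P ≠ ⊥ ∧ P ⊓ φ.ker = ⊥ ∧
    ∃ g ∈ Y, g ∈ N(P) ∧ orderOf g = cm m 1 ∧ orderOf (φ g) = cm m 1

structure SD (m : ℕ) (L : Type*) [Group L] : Prop where
  hm : 1 ≤ m
  simple : IsSimpleGroup L
  perf : ⁅(⊤ : Subgroup L), (⊤ : Subgroup L)⁆ = ⊤
  cit : ∀ a b : L, PiElt {2} a → PiElt {2}ᶜ b → a * b = b * a → a = 1 ∨ b = 1
  ex : ∀ i, ∃ x : L, orderOf x = cm m i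
  f2 : ∃ a x : L, orderOf a = cm m 2 ∧ orderOf x = 4 ∧ x ∈ N(zpowers a)
  fr : Frob.{u} m L

variable {G : Type u} {L : Type*} [Group G] [Group L] [Finite G] [Finite L] {φ : G →* L} {Y V U : Subgroup G} {m : ℕ}

theorem d2 : 2 ∣ cm m 0 := (by decide : 2 ∣ 4)

theorem cl0 {p : ℕ} (hp : p.Prime) (d : p ∣ cm m 0) : p = 2 :=
  (Nat.prime_dvd_prime_iff_eq hp Nat.prime_two).1 (hp.dvd_of_dvd_pow (n := 2) d)

theorem two_R : 2 ∉ RR m := fun c => c.1 d2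

theorem ex_pr (hm : 1 ≤ m) (i : Fin 4) : ∃ p, p.Prime ∧ p ∣ cm m i := Nat.exists_prime_and_dvd (by
  have a : 2 ^ (m + 2) ≤ 2 ^ (2 * m + 1) := Nat.pow_le_pow_right two_pos (by omega)
  have b : 2 ^ 1 ≤ 2 ^ m := Nat.pow_le_pow_right two_pos hm
  rw [pow_succ, pow_succ] at a
  fin_cases i
  · show 4 ≠ 1; decide
  · show 2 ^ (2 * m + 1) - 1 ≠ 1; omega
  · show 2 ^ (2 * m + 1) + 2 ^ (m + 1) + 1 ≠ 1; omega
  · show 2 ^ (2 * m + 1) - 2 ^ (m + 1) + 1 ≠ 1; rw [pow_succ 2 m]; omega)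

theorem odd_R (h : PiGrp (RR m) Y) : PiGrp {2}ᶜ Y := h.p' two_R

omit [Finite G] [Finite L] in
theorem SD.top (hL : SD.{u} m L) (φ : G →* L) {D : Subgroup G} (hY : Y.map φ = ⊤) (hn : Y ≤ N(D))
    {c : G} (hc : c ∈ D) (h1 : φ c ≠ 1) : D.map φ = ⊤ := by
  have := hL.simple
  have n : (D.map φ).Normal := ⟨by
    rintro _ ⟨d, hd, rfl⟩ g
    obtain ⟨y, hy, rfl⟩ : g ∈ Y.map φ := hY ▸ mem_top g
    exact ⟨y * d * y⁻¹, conj_mem hn hy hd, by simp⟩⟩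
  exact n.eq_bot_or_eq_top.resolve_left fun e => h1 (mem_bot.1 (e ▸ mem_map_of_mem φ hc))

theorem SD.ord (hL : SD.{u} m L) (hY : Y.map φ = ⊤) {p : ℕ} (hp : p.Prime) {i : Fin 4} (d : p ∣ cm m i) :
    ∃ y ∈ Y, orderOf y = p := by
  obtain ⟨x, hx⟩ := hL.ex i
  obtain ⟨a, -, e⟩ := cauchy (H := zpowers x) hp (by rw [card_zpowers', hx]; exact d)
  exact ex_ord φ hY hp ⟨a, e⟩

omit [Finite G] in
theorem SD.sr (hL : SD.{u} m L) {P : Subgroup G} (hP : PiGrp {2} P) (hk : P ⊓ φ.ker = ⊥) {g : G}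
    (og : orderOf (φ g) = cm m 1) {i : ℕ} (h1 : φ g ^ i ≠ 1) {f : G} (hf : f ∈ P) (e : g ^ i * f = f * g ^ i) :
    f = 1 := eq_one_of_eq_bot hk ⟨hf, (hL.cit (φ f) (φ g ^ i) ((hP.elt hf).of_dvd (orderOf_map_dvd _ _))
      (PiElt.pow' (H7.SqB.piNat_two_compl.2 (og ▸ odd_cm1)) i) (by simpa using congrArg φ e.symm)).resolve_right h1⟩

theorem N1 (h : H4.Sq.Ok m G) (hL : SD.{u} m L) (hY : Y.map φ = ⊤) (hR : PiGrp {2}ᶜ ⁅Y, Y ⊓ φ.ker⁆) (hV : Abel V)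
    {p : ℕ} (pV : PiGrp {p} V) (d : p ∣ cm m 1) (nV : Y ≤ N(V)) : ∃ c ∈ Y ⊓ C(V), φ c ≠ 1 := by
  obtain ⟨P, PY, hP, P1, hk, g, gY, gN, og, og'⟩ := hL.fr G φ Y h hY hR
  obtain ⟨k, e⟩ : ∃ k, cm m 1 = k + 1 := ⟨cm m 1 - 1, by have := odd_cm1 (m := m) |>.pos; omega⟩
  have p2 : p ≠ 2 := by rintro rfl; exact (Nat.not_even_iff_odd.2 odd_cm1) (even_iff_two_dvd.2 d)
  have pg : PiElt {s | s ∣ cm m 1} g := fun s _ c => og ▸ c
  have : P ≤ C(V) := NL (m := k) hV (PY.trans nV) (nV gY) gN (fun i i0 i1 f hf c =>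
      hL.sr hP hk og' (pow_ne_one_of_lt_orderOf i0.ne' (og' ▸ e ▸ i1)) hf c)
    (hP.coprime (pV.p'_of_ne p2)) fun v hv => by
      rw [← e, ← og, pow_orderOf_eq_one, og, ← orderOf_dvd_iff_pow_eq_one]
      exact h.over dvd_rfl ((PiGrp.sup_norm' (pV.of_p (π := {s | s ∣ cm m 1}) d) pg.zpowers
        (zpowers_le.2 (nV gY))).elt (mul_mem_sup' hv (mem_zpowers g)))
  obtain ⟨c, hc, c1⟩ := exists_mem_ne_one' P1
  exact ⟨c, ⟨PY hc, this hc⟩, fun e => c1 (eq_one_of_eq_bot hk ⟨hc, e⟩)⟩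

theorem N2 (h : H4.Sq.Ok m G) (hL : SD.{u} m L) (hY : Y.map φ = ⊤) (hV : Abel V) (pV : PiGrp {2} V)
    (nV : Y ≤ N(V)) : ∃ c ∈ Y ⊓ C(V), φ c ≠ 1 := by
  classical
  obtain ⟨a0, x, oa0, ox, hx0⟩ := hL.f2
  obtain ⟨t, ht, dt⟩ := ex_pr hL.hm 2
  have t2 : t ≠ 2 := by rintro rfl; exact absurd (cls_eq ht dt d2) (by decide)
  obtain ⟨P0, hP0⟩ := exists_sylow ht (zpowers a0)
  have c0 : Cyc (zpowers a0) := inferInstance
  obtain ⟨a, rfl⟩ := (c0.of_le hP0.le).gen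
  have hx : x ∈ N(zpowers a) := c0.N_le hP0.le hx0
  have a1 : a ≠ 1 := fun c => hP0.ne_bot_p ht (by rwa [card_zpowers', oa0]) (zpowers_eq_bot.2 c)
  have ea : ∀ y : G, PiElt {t} y → y ^ orderOf a = 1 := fun y hy => by
    rw [← orderOf_dvd_iff_pow_eq_one, ← card_zpowers' (x := a)]
    exact hP0.dvd_of_piNat hy (by
      rw [card_zpowers', oa0]; exact h.over dvd_rfl fun s hs d => (show s = t from hy s hs d) ▸ dt)
  have p4 : ∀ y : G, PiElt {2} y → y ^ 4 = 1 := fun y hy => orderOf_dvd_iff_pow_eq_one.1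
    (h.over (i := 0) dvd_rfl fun s hs d => (show s = 2 from hy s hs d) ▸ d2)
  have px : PiElt {2} x := by
    rw [PiElt, ox]; exact piNat_pow_self Nat.prime_two 2
  obtain ⟨P, PY, hP, e, g, gY, gN, hg, rfl⟩ := lift φ hY ht hP0.pi hx px
  have g4 := p4 g hg
  obtain ⟨j, hj⟩ : ∃ j : ℕ, (φ g * a * (φ g)⁻¹) ^ j = a := by
    have h1 : zpowers (φ g * a * (φ g)⁻¹) = zpowers a := by rw [← cj_zpowers, cj_eq_self hx]
    obtain ⟨j, hj⟩ := (mem_zpowers_iff_mem_range_orderOf).1 (h1 ▸ mem_zpowers a)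
      |> Finset.mem_image.1
    exact ⟨j, hj.2⟩
  let S := {y : G // y ∈ P ∧ φ y = a}
  let σ : S → S := fun y => ⟨(g * y * g⁻¹) ^ j, pow_mem (conj_mem_N gN y.2.1) j, by
    rw [map_pow, map_mul, map_mul, map_inv, y.2.2, hj]⟩
  have hσ : ∀ k, ∀ y : S, ((σ^[k] y : S) : G) = (g ^ k * y * (g ^ k)⁻¹) ^ j ^ k := fun k y => by
    induction k with
    | zero => simp
    | succ k ih =>
      rw [Function.iterate_succ_apply']
      show (g * ((σ^[k] y : S) : G) * g⁻¹) ^ j = _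
      rw [ih, ← conj_pow, ← pow_mul, ← pow_succ, pow_succ' g]
      congr 1; group
  have h4 : σ^[4] = id := funext fun y => Subtype.ext (by
    have e1 := hσ 4 y
    rw [g4, one_mul, inv_one, mul_one] at e1
    have e2 := (σ^[4] y).2.2
    rw [e1, map_pow, y.2.2] at e2
    have e3 : j ^ 4 ≡ 1 [MOD orderOf a] := by
      rw [← pow_eq_pow_iff_modEq, e2, pow_one]
    rw [e1, pow_eq_pow_of_modEq e3 (ea _ (hP.elt y.2.1))]; simp)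
  have cS : Nat.card S = Nat.card ↥(P ⊓ φ.ker) := by
    obtain ⟨y0, hy0, e0⟩ : a ∈ P.map φ := e ▸ mem_zpowers a
    exact Nat.card_congr ⟨fun y => ⟨y0⁻¹ * y, P.mul_mem (P.inv_mem hy0) y.2.1, by
        simp [MonoidHom.mem_ker, e0, y.2.2]⟩,
      fun z => ⟨y0 * z, P.mul_mem hy0 z.2.1, by rw [map_mul, e0, z.2.2, mul_one]⟩,
      fun y => by simp, fun z => by simp⟩
  have := Fintype.ofFinite S
  have : Fact (Nat.Prime 2) := ⟨Nat.prime_two⟩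
  let τ : Equiv.Perm S := ⟨σ, σ^[3], fun y => congrFun h4 y, fun y => by
    rw [← Function.iterate_succ_apply' σ 3 y]; exact congrFun h4 y⟩
  obtain ⟨y, hy⟩ := Equiv.Perm.exists_fixed_point_of_prime (p := 2) (n := 2) (σ := τ) (by
    rw [← Nat.card_eq_fintype_card, cS]
    exact (hP.inf_left (B := φ.ker)).not_dvd Nat.prime_two t2.symm) (by
      ext1 y; rw [Equiv.Perm.coe_pow]; exact congrFun h4 y)
  have hy : (g * y * g⁻¹) ^ j = y := congrArg Subtype.val hy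
  have gy : g ∈ N(zpowers (y : G)) := by
    rw [mem_N_iff_cj, cj_zpowers]
    refine (eq_of_card_eq (zpowers_le.2 (mem_zpowers_iff.2 ⟨j, by rw [zpow_natCast, hy]⟩)) ?_).symm
    rw [card_zpowers', card_zpowers', orderOf_conj]
  have py := (hP.elt y.2.1).zpowers
  have : zpowers (y : G) ≤ C(V) := NL (m := 3) hV ((zpowers_le.2 (PY y.2.1)).trans nV) (nV gY) gy
    (fun i i0 i1 f hf e => by
      have f1 : φ f = 1 := (hL.cit (φ g ^ i) (φ f) (px.pow' i)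
        (((py.elt hf).p'_of_ne t2).of_dvd (orderOf_map_dvd _ _)) (by simpa using congrArg φ e)).resolve_left
        (pow_ne_one_of_lt_orderOf i0.ne' (ox ▸ i1))
      obtain ⟨k, rfl⟩ := hf
      rw [map_zpow, y.2.2, ← orderOf_dvd_iff_zpow_eq_one] at f1
      exact orderOf_dvd_iff_zpow_eq_one.1 ((Int.natCast_dvd_natCast.2
        (orderOf_dvd_of_pow_eq_one (ea _ (hP.elt y.2.1)))).trans f1))
    (py.coprime (pV.p'_of_ne t2.symm)) fun v hv => by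
      rw [g4]
      exact p4 _ ((pV.sup_norm' hg.zpowers (zpowers_le.2 (nV gY))).elt (mul_mem_sup' hv (mem_zpowers g)))
  exact ⟨y, ⟨PY y.2.1, this (mem_zpowers _)⟩, fun c => a1 (y.2.2.symm.trans c)⟩

/-- an involution that inverts no invariant abelian group without being trivial on it -/
theorem F2 (h : H4.Sq.Ok m G) (hL : SD.{u} m L) (hY : Y.map φ = ⊤) (hR : PiGrp {2}ᶜ ⁅Y, Y ⊓ φ.ker⁆) :
    ∃ x ∈ Y, orderOf x = 2 ∧ ∀ U : Subgroup G, Abel U → Y ≤ N(U) → U ⊓ C1(x) = ⊥ → (Y ⊓ C(U)).map φ = ⊤ := by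
  obtain ⟨P, PY, hP, P1, hk, g, gY, gN, og, og'⟩ := hL.fr G φ Y h hY hR
  obtain ⟨x, hx, ox⟩ := cauchy Nat.prime_two (hP.dvd_card P1)
  refine ⟨x, PY hx, ox, fun U hU nU h0 => ?_⟩
  have x2 : x * x = 1 := by rw [← pow_two, ← ox, pow_orderOf_eq_one]
  have xi : x⁻¹ = x := inv_eq_of_mul_eq_one_right x2
  have inv : ∀ u ∈ U, x * u * x⁻¹ = u⁻¹ := fun u hu => by
    have h1 := conj_mem nU (PY hx) hu
    refine (inv_eq_of_mul_eq_one_right (eq_one_of_eq_bot h0 ⟨U.mul_mem hu h1, mem_C1.2 ?_⟩)).symm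
    calc _ = x * u * x⁻¹ * u * x := by rw [comm_of_cent hU hu h1]
      _ = x * u * (x * u * x⁻¹) := by rw [xi]; group
      _ = _ := by group
  have cP : g * x * g⁻¹ * x⁻¹ ∈ P := P.mul_mem (conj_mem_N gN hx) (P.inv_mem hx)
  refine hL.top φ hY (nml_cent nU).norm (c := g * x * g⁻¹ * x⁻¹) ⟨PY cP, mem_C.2 fun u hu => ?_⟩ fun c => ?_
  · have h1 := inv _ (conj_mem' nU gY (conj_mem' nU (PY hx) hu))
    have h2 := inv _ (conj_mem' nU (PY hx) hu)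
    calc _ = (g * (g⁻¹ * (x * (x⁻¹ * u * x) * x⁻¹)⁻¹ * g)⁻¹ * g⁻¹) * (g * x * g⁻¹ * x⁻¹) := by group
      _ = (g * (x * (g⁻¹ * (x⁻¹ * u * x) * g) * x⁻¹)⁻¹⁻¹ * g⁻¹) * (g * x * g⁻¹ * x⁻¹) := by
        rw [h1, h2]; group
      _ = _ := by group
  · have := eq_one_of_eq_bot hk ⟨cP, c⟩
    rw [mul_inv_eq_one, mul_inv_eq_iff_eq_mul] at this
    obtain ⟨s, hs, ds⟩ := ex_pr hL.hm 1
    have := hL.sr hP hk og' (i := 1) (by
      rw [pow_one]; intro c; rw [c, orderOf_one] at og'; exact hs.ne_one (Nat.dvd_one.1 (og' ▸ ds))) hx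
      (by simpa using this)
    rw [this] at ox; simp at ox

theorem F1 (h : H4.Sq.Ok m G) (hL : SD.{u} m L) (hY : Y.map φ = ⊤) (hR : PiGrp {2}ᶜ ⁅Y, Y ⊓ φ.ker⁆) {p s : ℕ}
    (hp : p ∈ RR m) (hs : s.Prime) (ds : s ∣ cm m 1) (pU : PiGrp {p} U) (U1 : U ≠ ⊥) (nU : Y ≤ N(U)) :
    ∃ x ∈ Y, orderOf x = s ∧ U ⊓ C1(x) ≠ ⊥ := by
  classical
  obtain ⟨P, PY, hP, P1, hk, g, gY, gN, og, og'⟩ := hL.fr G φ Y h hY hR
  obtain ⟨x, hx, ox⟩ := cauchy (H := zpowers g) hs (by rwa [card_zpowers', og])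
  have xY : x ∈ Y := zpowers_le.2 gY hx
  by_cases h0 : U ⊓ C1(x) = ⊥
  · have : P ≤ C(U) := H9.Tri.fr pU (hP.p'_of_ne fun e => two_R (e ▸ hp))
      ((pie ox hs).zpowers.p'_of_ne fun e => hp.2 (e ▸ ds))
      (zpowers_le.2 (zpowers_le.2 gN hx)) (fun z hz z1 => eq_bot_iff.2 fun f hf => mem_bot.2 (by
        obtain ⟨i, -, rfl⟩ := Finset.mem_image.1 (mem_zpowers_iff_mem_range_orderOf.1 (zpowers_le.2 hx hz))
        refine hL.sr hP hk og' (fun c => z1 ?_) hf.1 (mem_C1.1 hf.2).symm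
        rw [← orderOf_dvd_iff_pow_eq_one] at c ⊢
        rwa [og, ← og']))
      (PY.trans nU) (zpowers_le.2 (nU xY)) (by rwa [C_zpowers])
    obtain ⟨c, hc, c1⟩ := exists_mem_ne_one' P1
    obtain ⟨z, hz, oz⟩ := hL.ord (hL.top φ hY (nml_cent nU).norm (c := c) ⟨PY hc, this hc⟩
      fun e => c1 (eq_one_of_eq_bot hk ⟨hc, e⟩)) hs ds
    exact ⟨z, hz.1, oz, by rwa [inf_eq_left.2 (le_C1_iff.2 hz.2)]⟩
  · exact ⟨x, xY, ox, h0⟩

theorem F3 (h : H4.Sq.Ok m G) (hL : SD.{u} m L) (hY : Y.map φ = ⊤) {R : Subgroup G} [R.Normal] (RK : R ≤ φ.ker)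
    (hR : PiGrp (RR m) R) (le : ⁅Y, Y ⊓ φ.ker⁆ ≤ R) {p t : ℕ} (hp : p.Prime) (d : p ∣ Nat.card ↥(Y ⊓ R))
    (ht : t.Prime) (dt : t ∣ cm m 0 ∨ t ∣ cm m 1) :
    ∃ x ∈ Y, ∃ u ∈ Y, orderOf x = t ∧ orderOf u = p ∧ u * x = x * u := by
  obtain ⟨P, hP⟩ := exists_sylow hp (Y ⊓ R)
  have nk : Y ⊓ R ⊴ Y := nml_inf_of_norm norm_of_normal
  have e := frattini_arg hp nk hP
  have hY1 : (Y ⊓ N(P)).map φ = ⊤ := by
    rw [← hY]
    nth_rewrite 2 [← e]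
    rw [Subgroup.map_sup, (Subgroup.map_eq_bot_iff _).2 (inf_le_right.trans RK), bot_sup_eq]
  have hk1 : PiGrp {2}ᶜ ⁅Y ⊓ N(P), Y ⊓ N(P) ⊓ φ.ker⁆ :=
    (odd_R hR).of_le ((commutator_mono inf_le_left (inf_le_inf_right _ inf_le_left)).trans le)
  have Z1 : Z(P) ≠ ⊥ := hP.pi.nil.Z_ne_bot (hP.ne_bot_p hp d)
  have pZ : PiGrp {p} Z(P) := hP.pi.inf_left
  have nZ : Y ⊓ N(P) ≤ N(Z(P)) := norm_Z inf_le_right
  obtain ⟨x, hx, ox, h0⟩ : ∃ x ∈ Y ⊓ N(P), orderOf x = t ∧ Z(P) ⊓ C1(x) ≠ ⊥ := by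
    rcases dt with dt | dt
    · obtain rfl := cl0 ht dt
      obtain ⟨x, hx, ox, k⟩ := F2 h hL hY1 hk1
      by_cases h0 : Z(P) ⊓ C1(x) = ⊥
      · obtain ⟨z, hz, oz⟩ := hL.ord (k _ abel_Z nZ h0) ht dt
        exact ⟨z, hz.1, oz, by rwa [inf_eq_left.2 (le_C1_iff.2 hz.2)]⟩
      · exact ⟨x, hx, ox, h0⟩
    · exact F1 h hL hY1 hk1 (hR.inf_right p hp d) ht dt pZ Z1 nZ
  obtain ⟨u, hu, ou⟩ := ex_p pZ h0
  exact ⟨x, hx.1, u, (hP.le hu.1.1).1, ox, ou, mem_C1.1 hu.2⟩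

end H28.SqA
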