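import Cfsg.Agent.H28.SqA1
import Cfsg.Agent.H28.SzSq4
import Cfsg.Agent.H13.SqA1
/-! Direct squares of Suzuki groups, piece `PA`, 2: a solvable-by-`Sz(q)` group whose radical meets three classes. -/

set_option autoImplicit false
universe u

namespace H28.SqA
open Cfsg H18 H1 H13 Subgroup H4.Sq H28.SS
open scoped commutatorElement

variable {L : Type*} [Group L] [Finite L] {m : ℕ}

theorem le_of_cov {G : Type*} [Group G] [Finite G] {φ : G →* L} {M D : Subgroup G} [D.Normal] (so : Solv φ.ker)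
    (pf : ⁅M, M⁆ = M) (t : (M ⊓ D).map φ = ⊤) : M ≤ D := by
  have s : Solv (φ.ker.map (QuotientGroup.mk' D)) :=
    Group.isSolvable_of_surjective ((QuotientGroup.mk' D).subgroupMap_surjective φ.ker)
  have := (s.of_le (K := M.map (QuotientGroup.mk' D)) (by
    rintro _ ⟨x, -, rfl⟩
    obtain ⟨d, hd, e⟩ : φ x ∈ (M ⊓ D).map φ := t ▸ mem_top _
    exact ⟨d⁻¹ * x, by simp [MonoidHom.mem_ker, e], by
      simp [(QuotientGroup.eq_one_iff _).2 hd.2]⟩)).eq_bot_of_le_der (by rw [← map_commutator, pf])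
  rwa [Subgroup.map_eq_bot_iff, QuotientGroup.ker_mk'] at this

theorem LB (hL : SD.{u} m L) (n : ℕ) : ∀ (X : Type u) [Group X] [Finite X] (φ : X →* L) (M : Subgroup X),
    Nat.card φ.ker = n → H4.Sq.Ok m X → M.Normal → M.map φ = ⊤ → ⁅M, M⁆ = M → Solv φ.ker →
    PiGrp (RR m) ⁅M, φ.ker⁆ := by
  induction' n using Nat.strong_induction_on with n ih
  intro X _ _ φ M e h nM t pf so
  have RK : ⁅M, φ.ker⁆ ≤ φ.ker := commutator_le_right _ _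
  have RM : ⁅M, φ.ker⁆ ≤ M := commutator_le_left _ _
  have q : ∀ W : Subgroup X, W.Normal → W ≠ ⊥ → W ≤ ⁅M, φ.ker⁆ → PiNat (RR m) (W.relIndex ⁅M, φ.ker⁆) :=
    fun W _ W1 hW => by
      have := ih _ (e ▸ ql_lt W1) _ (ql φ W (hW.trans RK)) (M.map (QuotientGroup.mk' W)) rfl (h.quot W)
        (nM.map _ (QuotientGroup.mk'_surjective W)) (by rw [map_map]; exact t) (by rw [← map_commutator, pf])
        (ql_solv so)
      rwa [ql_ker, ← map_commutator, PiGrp, ← relIndex_ker, QuotientGroup.ker_mk'] at this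
  by_cases h0 : O[RR m](⁅M, φ.ker⁆) = ⊥
  swap
  · exact piGrp_of_relIndex pcore_le pcore_pi
      (q _ (norm_top_iff.1 (norm_pcore norm_of_normal)) h0 pcore_le)
  by_cases k1 : ⁅M, φ.ker⁆ = ⊥
  · rw [k1]; exact PiGrp.bot
  obtain ⟨p, V, pp, eV, V1, nV, nV'⟩ := exists_elem_nml (so.of_le RK) k1 (A := ⊤) norm_of_normal
  have hq := q V (norm_top_iff.1 nV') V1 nV.le
  have pV := eV.pi' pp
  have pR : p ∉ RR m := fun c => V1 (le_bot_iff.1 (h0 ▸ le_pcore nV (pV.of_p c)))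
  obtain ⟨c, hc, c1⟩ : ∃ c ∈ M ⊓ C(V), φ c ≠ 1 := by
    by_cases e : p = 2
    · subst e; exact N2 h hL t eV.abel pV (le_top.trans nV')
    · exact N1 h hL t ((piGrp_of_relIndex nV.le (pV.p'_of_ne e) (hq.p' two_R)).of_le
        (commutator_mono le_rfl inf_le_right)) eV.abel pV (by_contra fun c => pR ⟨fun d => e (cl0 pp d), c⟩)
        (le_top.trans nV')
  have : C(V).Normal := norm_top_iff.1 (norm_C nV')
  have c := le_of_cov so pf (hL.top φ t (nml_cent (le_top.trans nV')).norm hc c1)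
  obtain ⟨W, hW⟩ := exists_sd nV (pV.coprime (hq.p' pR))
  have W0 : W = ⊥ := le_bot_iff.1 (h0 ▸ le_pcore ⟨hW.sup ▸ le_sup_right, hW.sup ▸ sup_le
    (cent_norm (cent_symm (((hW.sup ▸ le_sup_right : W ≤ _).trans RM).trans c))) le_N⟩
    (by rw [PiGrp, ← hW.relIndex]; exact hq))
  have kV : ⁅M, φ.ker⁆ = V := by rw [← hW.sup, W0, sup_bot_eq]
  have z : ⁅⁅M, φ.ker⁆, M⁆ = ⊥ := by rw [kV]; exact comm_eq_bot_iff.2 (cent_symm c)
  exact absurd (pf ▸ three_subgroup z (by rwa [commutator_comm φ.ker])) k1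

variable {G : Type u} [Group G] [Finite G]

theorem cne {p q : ℕ} {i j : Fin 4} (hp : p.Prime) (a : p ∣ cm m i) (b : q ∣ cm m j) (n : i ≠ j) : p ≠ q :=
  fun e => n (cls_eq hp a (e ▸ b))

theorem tri2 (h : H4.Sq.Ok m G) {p q r : ℕ} {i j k : Fin 4} (hp : p.Prime) (hq : q.Prime) (hr : r.Prime)
    (h1 : p ∣ cm m i) (h2 : q ∣ cm m j) (h3 : r ∣ cm m k) (ij : i ≠ j) (ik : i ≠ k) (jk : j ≠ k) {x y z : G}
    (ox : orderOf x = p) (oy : orderOf y = q) (oz : orderOf z = r) (xy : x * y = y * x) (xz : x * z = z * x)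
    (yz : y * z = z * y) : False := by
  subst ox oy oz
  exact h.tri' hp hq hr h1 h2 h3 ij ik jk xy xz yz

structure KD (m : ℕ) (φ : G →* L) (M : Subgroup G) : Prop where
  hL : SD.{u} m L
  ok : H4.Sq.Ok m G
  so : Solv φ.ker
  nM : M.Normal
  top : M.map φ = ⊤
  pf : ⁅M, M⁆ = M
  pE : PiGrp (RR m) ⁅M, φ.ker⁆

namespace KD
variable {φ : G →* L} {M : Subgroup G} (c : KD m φ M)
include c

theorem RK : ⁅M, φ.ker⁆ ≤ φ.ker := commutator_le_right _ _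

theorem RM : ⁅M, φ.ker⁆ ≤ M := have := c.nM; commutator_le_left _ _

theorem cov {k : G} (hk : k ∈ φ.ker) (co : (orderOf k).Coprime (Nat.card ↥⁅M, φ.ker⁆)) :
    (M ⊓ C1(k)).map φ = ⊤ := by
  have := c.nM
  have cm : ∀ m ∈ M, m * k * m⁻¹ * k⁻¹ ∈ ⁅M, φ.ker⁆ := fun m hm => commutator_mem_commutator hm hk
  rw [eq_top_iff, ← c.top]
  rintro _ ⟨m, hm, rfl⟩
  obtain ⟨n, hn, h1⟩ := exists_mul_of_mem_normalizer_sup (A := zpowers k) (N := ⁅M, φ.ker⁆) (g := m)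
    norm_of_normal (by rwa [card_zpowers']) (.inl abel_zpowers.solv) (by
      rw [mem_N_iff_cj, cj_sup, cj_eq_self (norm_of_normal (mem_top m)), cj_zpowers]
      refine le_antisymm (sup_le le_sup_left (zpowers_le.2 ?_)) (sup_le le_sup_left (zpowers_le.2 ?_))
      · have := mul_mem_sup' (cm m hm) (mem_zpowers k)
        rwa [inv_mul_cancel_right] at this
      · have := mul_mem_sup' (inv_mem (cm m hm)) (mem_zpowers (m * k * m⁻¹))
        rwa [show (m * k * m⁻¹ * k⁻¹)⁻¹ * (m * k * m⁻¹) = k by group] at this)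
  have h2 : n * m ∈ M := M.mul_mem (c.RM hn) hm
  refine ⟨n * m, ⟨h2, mem_C1.2 ?_⟩, by rw [map_mul, c.RK hn, one_mul]⟩
  have := eq_one_of_eq_bot (inf_eq_bot_of_coprime' (A := zpowers k) (B := ⁅M, φ.ker⁆) (by rwa [card_zpowers']))
    ⟨(zpowers k).mul_mem (conj_mem_N h1 (mem_zpowers k)) ((zpowers k).inv_mem (mem_zpowers k)), cm _ h2⟩
  rwa [mul_inv_eq_one, mul_inv_eq_iff_eq_mul] at this

theorem adj {k : G} (hk : k ∈ φ.ker) {p q : ℕ} {i j : Fin 4} (hp : p.Prime) (hq : q.Prime) (di : p ∣ cm m i)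
    (dj : q ∣ cm m j) (ij : i ≠ j) (ok : orderOf k = p * q) (h1 : ¬ p ∣ Nat.card ↥⁅M, φ.ker⁆)
    (h2 : ¬ q ∣ Nat.card ↥⁅M, φ.ker⁆) : False := by
  obtain ⟨l, a, b⟩ : ∃ l, l ≠ i ∧ l ≠ j := (by decide : ∀ i j : Fin 4, ∃ l, l ≠ i ∧ l ≠ j) i j
  obtain ⟨r, hr, dr⟩ := ex_pr c.hL.hm l
  obtain ⟨u, hu, ou⟩ := c.hL.ord (c.cov hk (ok ▸ Nat.Coprime.mul_left (hp.coprime_iff_not_dvd.2 h1)
    (hq.coprime_iff_not_dvd.2 h2))) hr dr
  obtain ⟨x, hx, y, hy, ox, oy, e⟩ := split hp hq (cne hp di dj ij) ok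
  have k : ∀ z ∈ zpowers k, u * z = z * u := fun z hz => mem_C.1 (C_zpowers (x := k) ▸ hu.2) z hz |>.symm
  exact tri2 c.ok hr hp hq dr di dj a b ij ou ox oy (k x hx) (k y hy) e

theorem cl {p : ℕ} (hp : p.Prime) (d : p ∣ Nat.card ↥⁅M, φ.ker⁆) {i : Fin 4} (di : p ∣ cm m i) : i ≠ 0 ∧ i ≠ 1 :=
  ⟨fun e => (c.pE p hp d).1 (e ▸ di), fun e => (c.pE p hp d).2 (e ▸ di)⟩

theorem fp {k : G} (hk : k ∈ φ.ker) {s p : ℕ} {i j : Fin 4} (hs : s.Prime) (hp : p.Prime) (di : p ∣ cm m i)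
    (dj : s ∣ cm m j) (ij : i ≠ j) (ok : orderOf k = s) (h1 : ¬ s ∣ Nat.card ↥⁅M, φ.ker⁆) {u : G}
    (hu : u ∈ ⁅M, φ.ker⁆) (ou : orderOf u = p) (cu : u * k = k * u) : False := by
  have := c.nM
  have t := c.cov hk (ok ▸ hs.coprime_iff_not_dvd.2 h1)
  have pR := c.cl hp (ou ▸ orderOf_dvd_card hu) di
  have d : p ∣ Nat.card ↥(M ⊓ C1(k) ⊓ ⁅M, φ.ker⁆) := ou ▸ orderOf_dvd_card ⟨⟨c.RM hu, mem_C1.2 cu⟩, hu⟩
  obtain ⟨l, lj, hl⟩ : ∃ l : Fin 4, j ≠ l ∧ (l = 0 ∨ l = 1) :=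
    (by decide : ∀ j : Fin 4, ∃ l : Fin 4, j ≠ l ∧ (l = 0 ∨ l = 1)) j
  obtain ⟨r, hr, dr⟩ := ex_pr c.hL.hm l
  obtain ⟨x, hx, v, hv, ox, ov, e⟩ := F3 c.ok c.hL t c.RK c.pE (commutator_mono inf_le_left inf_le_right) hp d hr
    (by rcases hl with rfl | rfl; exacts [.inl dr, .inr dr])
  exact tri2 c.ok hp hs hr di dj dr ij (by rcases hl with rfl | rfl; exacts [pR.1, pR.2]) lj ov ok ox
    (mem_C1.1 hv.2) e (mem_C1.1 hx.2).symm

theorem fin (nE : Nil ⁅M, φ.ker⁆) {p s t : ℕ} {i j k : Fin 4} (hp : p.Prime) (hs : s.Prime) (ht : t.Prime)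
    (di : p ∣ cm m i) (dj : s ∣ cm m j) (dk : t ∣ cm m k) (ij : i ≠ j) (ik : i ≠ k) (jk : j ≠ k)
    (dp : p ∣ Nat.card ↥⁅M, φ.ker⁆) (ds : s ∣ Nat.card φ.ker) (dt : t ∣ Nat.card φ.ker)
    (ns : ¬ s ∣ Nat.card ↥⁅M, φ.ker⁆) (nt : ¬ t ∣ Nat.card ↥⁅M, φ.ker⁆) : False := by
  have := c.nM
  obtain ⟨H, hH⟩ := H2.hall_exists c.so {s, t}
  set V := O[{p}](⁅M, φ.ker⁆)
  have nV : H ≤ N(V) := norm_pcore norm_of_normal
  have VK : V ⊔ H ≤ φ.ker := sup_le (pcore_le.trans c.RK) hH.le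
  have ps := cne hp di dj ij
  have pt := cne hp di dk ik
  have pH : p ∉ ({s, t} : Set ℕ) := by simp [ps, pt]
  have hV : Hall {p} V (V ⊔ H) := hall_of_sup pcore_pi (hH.pi.p' pH) (.inr nV)
  have key : ∀ {r : ℕ} {l : Fin 4}, r.Prime → r ∣ cm m l → i ≠ l → ¬ r ∣ Nat.card ↥⁅M, φ.ker⁆ → ∀ g ∈ V ⊔ H,
      orderOf g = p * r → False := fun hr dr pr nr g hg og => by
    obtain ⟨a, ha, b, hb, oa, ob, e⟩ := split hp hr (cne hp di dr pr) og
    exact c.fp (VK (zpowers_le.2 hg hb)) hr hp di dr pr ob nr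
      (pcore_le (hV.mem_of_nml (nml_sup_left nV).norm (zpowers_le.2 hg ha) (pie oa hp))) oa e
  obtain ⟨g, hg, h | h | h⟩ := K1D.three (c.so.of_le VK) hp hs ht ps pt (cne hs dj dk jk)
    ((nE.pcore_hall.dvd_card_p hp dp).trans (card_dvd le_sup_left))
    ((hH.dvd_card hs (by simp) ds).trans (card_dvd le_sup_right))
    ((hH.dvd_card ht (by simp) dt).trans (card_dvd le_sup_right))
  exacts [key hs dj ij ns g hg h, key ht dk ik nt g hg h, c.adj (VK hg) hs ht dj dk jk h ns nt]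

theorem false {p q r : ℕ} {i j k : Fin 4} (hp : p.Prime) (hq : q.Prime) (hr : r.Prime) (di : p ∣ cm m i)
    (dj : q ∣ cm m j) (dk : r ∣ cm m k) (ij : i ≠ j) (ik : i ≠ k) (jk : j ≠ k) (dp : p ∣ Nat.card φ.ker)
    (dq : q ∣ Nat.card φ.ker) (dr : r ∣ Nat.card φ.ker) : False := by
  have := c.nM
  by_cases E1 : ⁅M, φ.ker⁆ = ⊥
  · have n : ∀ {t : ℕ}, t.Prime → ¬ t ∣ Nat.card ↥⁅M, φ.ker⁆ := fun ht => by
      rw [E1, card_bot, Nat.dvd_one]; exact ht.ne_one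
    obtain ⟨g, hg, h | h | h⟩ := K1D.three c.so hp hq hr (cne hp di dj ij) (cne hp di dk ik) (cne hq dj dk jk) dp dq dr
    exacts [c.adj hg hp hq di dj ij h (n hp) (n hq), c.adj hg hp hr di dk ik h (n hp) (n hr),
      c.adj hg hq hr dj dk jk h (n hq) (n hr)]
  have cls : ∀ {t : ℕ}, t.Prime → t ∣ Nat.card ↥⁅M, φ.ker⁆ → ∃ l, t ∣ cm m l := fun ht d =>
    let ⟨u, _, ou⟩ := cauchy ht d
    c.ok.cls ht (g := u) (by rw [ou])
  have nE : Nil ⁅M, φ.ker⁆ := by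
    obtain ⟨s, l, hs, dl, ds, hl⟩ : ∃ s l, s.Prime ∧ s ∣ cm m l ∧ s ∣ Nat.card φ.ker ∧ (l = 0 ∨ l = 1) := by
      have : (i = 0 ∨ i = 1) ∨ (j = 0 ∨ j = 1) ∨ (k = 0 ∨ k = 1) := by omega
      rcases this with a | a | a
      exacts [⟨p, i, hp, di, dp, a⟩, ⟨q, j, hq, dj, dq, a⟩, ⟨r, k, hr, dk, dr, a⟩]
    obtain ⟨k, hk, ok⟩ := cauchy hs ds
    refine H23.thompson_prime (R := zpowers k) norm_of_normal (by rwa [card_zpowers', ok]) ?_
    by_contra h0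
    obtain ⟨u, hu, pu⟩ := exists_prime_order h0
    have d := orderOf_dvd_card hu.1
    obtain ⟨l', dl'⟩ := cls pu d
    have a := c.cl pu d dl'
    exact c.fp hk hs pu dl' dl (by omega) ok (fun e => by have := c.cl hs e dl; omega) hu.1 rfl
      (mem_C1.1 (C_zpowers (x := k) ▸ hu.2))
  have both : ∀ {p q : ℕ} {i j : Fin 4}, p.Prime → q.Prime → p ∣ cm m i → q ∣ cm m j → i ≠ j →
      p ∣ Nat.card ↥⁅M, φ.ker⁆ → ¬ q ∣ Nat.card ↥⁅M, φ.ker⁆ := fun hp hq di dj ij d1 d3 => by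
    obtain ⟨x, hx, ox, f⟩ := F2 c.ok c.hL c.top ((odd_R c.pE).of_le (commutator_mono le_rfl inf_le_right))
    have k : ∀ {q : ℕ}, q.Prime → q ∣ Nat.card ↥⁅M, φ.ker⁆ →
        ∃ u ∈ ⁅M, φ.ker⁆, orderOf u = q ∧ u * x = x * u := fun {q} hq d => by
      have n : ⊤ ≤ N(O[{q}](Z(⁅M, φ.ker⁆))) := norm_pcore (norm_Z norm_of_normal)
      have : C(O[{q}](Z(⁅M, φ.ker⁆))).Normal := norm_top_iff.1 (norm_C n)
      obtain ⟨u, hu, ou⟩ := ex_p (D := C1(x)) pcore_pi fun h0 => nE.pcore_Z_ne_bot hq d (by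
        rwa [inf_eq_left.2 (le_C1_iff.2 (le_of_cov c.so c.pf
          (f _ (abel_Z.mono pcore_le) (le_top.trans n) h0) hx))] at h0)
      exact ⟨u, (pcore_le hu.1).1, ou, mem_C1.1 hu.2⟩
    obtain ⟨u, hu, ou, e1⟩ := k hp d1
    obtain ⟨v, hv, ov, e2⟩ := k hq d3
    exact tri2 c.ok hp hq Nat.prime_two di dj d2 ij (c.cl hp d1 di).1 (c.cl hq d3 dj).1 ou ov ox
      (comm_of_cent (nE.cent_coprime (zpowers_le.2 hu) (zpowers_le.2 hv) (by
        rw [card_zpowers', card_zpowers', ou, ov]; exact (Nat.coprime_primes hp hq).2 (cne hp di dj ij)))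
        (mem_zpowers u) (mem_zpowers v)) e1 e2
  obtain ⟨s, hs, ds⟩ := H18.exists_prime_dvd_card E1
  obtain ⟨l, dl⟩ := cls hs ds
  have : (l ≠ i ∧ l ≠ j) ∨ (l ≠ i ∧ l ≠ k) ∨ (l ≠ j ∧ l ≠ k) := by omega
  rcases this with ⟨a, b⟩ | ⟨a, b⟩ | ⟨a, b⟩
  exacts [c.fin nE hs hp hq dl di dj a b ij ds dp dq (both hs hp dl di a ds) (both hs hq dl dj b ds),
    c.fin nE hs hp hr dl di dk a b ik ds dp dr (both hs hp dl di a ds) (both hs hr dl dk b ds),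
    c.fin nE hs hq hr dl dj dk a b jk ds dq dr (both hs hq dl dj a ds) (both hs hr dl dk b ds)]

end KD

theorem sd {F : Type*} [Field F] [Fintype F] [hF : H13.Sz.IsSz F m] (fr : Frob.{u} m (Cfsg.Sz F m)) :
    SD.{u} m (Cfsg.Sz F m) where
  hm := hF.hm
  simple := inferInstance
  perf := H13.Sz.commutator_eq_top
  cit := (H7.SqB.dSz F m).cit
  ex := ord_ex
  f2 := by
    have e := H13.Sz.ell_t1 (F := F) (m := m)
    obtain ⟨c, hc, c4, c2⟩ := e.exists_order_four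
    obtain ⟨a, ha⟩ := Cyc.gen e.isCyclic
    haveI := Fact.mk Nat.prime_two
    refine ⟨a, c, ?_, orderOf_eq_prime_pow (p := 2) (n := 1) (by simpa [pow_two] using c2) c4, ha ▸ hc⟩
    rw [← card_zpowers', ha]
    exact (H13.Sz.card_T1 (F := F) (m := m)).trans (by rw [hF.card]; rfl)
  fr := fr

theorem pA_of (fr : ∀ (F : Type) [Field F] [Fintype F] (m : ℕ) [H13.Sz.IsSz F m], Frob.{u} m (Cfsg.Sz F m)) :
    PA.{u} := by
  intro F _ _ m _ G _ _ h φ hs so p q r i j k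
  have hL := sd (fr F m)
  obtain ⟨M, -, ⟨nM, t⟩, mn⟩ := exists_minimal_sub (fun M : Subgroup G => M.Normal ∧ M.map φ = ⊤)
    (A := ⊤) ⟨inferInstance, map_top_of_surjective _ hs⟩
  have pf : ⁅M, M⁆ = M := mn _ ⟨inferInstance, by rw [map_commutator, t, hL.perf]⟩ der_le
  exact KD.false ⟨hL, h, so, nM, t, pf, LB hL _ G φ M rfl h nM t pf so⟩

theorem pA : PA.{u} := pA_of fun _ _ _ _ _ _ _ _ φ Y h a b => H13.SqA.frob φ Y h a b

end H28.SqA
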