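import Cfsg.Agent.H4.Sq1
import Cfsg.Agent.H13.SzTori
import Cfsg.Agent.S2904
import Cfsg.Agent.S3814
/-! Direct squares of Suzuki groups, piece `PC`: not all components are proper subfield groups. -/

set_option autoImplicit false
universe u

namespace H28.SqC
open Cfsg H13.Sz H4.Sq Subgroup

theorem exD {F : Type*} [Field F] [Fintype F] {m : ℕ} [IsSz F m] {t : ℕ} (ht : t.Prime) (t2 : t ≠ 2) :
    ∃ D : Subgroup (Cfsg.Sz F m), Group.IsSolvable D ∧
      ∀ x : Cfsg.Sz F m, orderOf x ∣ 2 ∨ orderOf x ∣ t → ∃ k, k * x * k⁻¹ ∈ D := by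
  have := Fact.mk ht
  obtain ⟨P⟩ : Nonempty (Sylow t (Cfsg.Sz F m)) := inferInstance
  obtain ⟨z, hz, Pz⟩ : ∃ z : Cfsg.Sz F m, Tor z ∧ (P : Subgroup _) ≤ centralizer {z} := by
    by_cases h : (P : Subgroup (Cfsg.Sz F m)) = ⊥
    · obtain ⟨s, hs⟩ := exists_unit_ne_one (F := F)
      exact ⟨_, tor_h hs, h ▸ bot_le⟩
    obtain ⟨z, z1⟩ := ne_bot_iff_exists_ne_one.1 h
    have := isCyclic_of_isPGroup t2 P.isPGroup'
    obtain ⟨k, hk⟩ := IsPGroup.iff_orderOf.1 P.isPGroup' z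
    refine ⟨z, ⟨by simpa using z1, by rw [orderOf_coe, hk]; exact (ht.odd_of_ne_two t2).pow⟩,
      fun y hy => mem_centralizer_singleton_iff.2 ?_⟩
    exact congrArg Subtype.val (IsCyclic.isMulCommutative.is_comm.comm (⟨y, hy⟩ : P) z)
  obtain ⟨i, hi⟩ := exists_prime_orderOf_dvd_card' (G := normalizer (centralizer {z} : Set (Cfsg.Sz F m))) 2 (by
    rcases hz.cases with h | ⟨k, s, hs, rfl⟩
    · rw [h.card_normalizer]; exact Dvd.dvd.mul_right (by norm_num) _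
    · rw [card_normalizer_conj_h k hs]; exact dvd_mul_right _ _)
  have k2 : ∀ x : Cfsg.Sz F m, orderOf x = 2 → IsConj (u m 0 (1 : F)) x := fun x ox => by
    have e : x * x = 1 := by rw [← pow_two, ← ox, pow_orderOf_eq_one]
    exact (isConj_of_pow_four (by rintro rfl; simp at ox) (pow_four_of_mul_self e)).elim (·.2) (absurd e ·.1)
  refine ⟨_, hz.isSolvable_normalizer, fun x hx => ?_⟩
  rcases hx with hx | hx
  · rcases (Nat.dvd_prime Nat.prime_two).1 hx with h | h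
    · exact ⟨1, by simp [orderOf_eq_one_iff.1 h]⟩
    · obtain ⟨k, hk⟩ := isConj_iff.1 ((k2 x h).symm.trans (k2 i (by rw [orderOf_coe, hi])))
      exact ⟨k, hk ▸ i.2⟩
  · obtain ⟨Q, hQ⟩ := IsPGroup.exists_le_sylow (P := zpowers x) (p := t)
      (IsPGroup.of_card_dvd_pow (n := 1) (by rwa [Nat.card_zpowers, pow_one]))
    obtain ⟨k, rfl⟩ := MulAction.exists_smul_eq (Cfsg.Sz F m) Q P
    exact ⟨k, le_normalizer (Pz ⟨x, hQ (mem_zpowers x), rfl⟩)⟩

theorem conj_inj {F : Type*} [Field F] [Fintype F] {m : ℕ} [IsSz F m] :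
    Function.Injective (MulAut.conj : Cfsg.Sz F m →* _) := by
  refine (MonoidHom.ker_eq_bot_iff _).1 ((inferInstance : (MonoidHom.ker _).Normal).eq_bot_or_eq_top.resolve_right
    fun e => ?_)
  have := Group.isSolvable_of_comm (G := Cfsg.Sz F m) fun a b => mul_inv_eq_iff_eq_mul.1
    (DFunLike.congr_fun (e ▸ mem_top a : a ∈ (MulAut.conj : Cfsg.Sz F m →* _).ker) b)
  exact (Group.IsSolvable.commutator_lt_top_of_nontrivial _).ne (commutator_eq_top (F := F) (m := m))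

theorem pi_solv {ι : Type*} [Finite ι] {H : ι → Type*} [∀ i, Group (H i)] [h : ∀ i, Group.IsSolvable (H i)] :
    Group.IsSolvable (∀ i, H i) := by
  choose n hn using fun i => (h i).solvable
  obtain ⟨N, hN⟩ := (Set.finite_range n).bddAbove
  refine ⟨N, eq_bot_iff.2 fun x hx => funext fun i => ?_⟩
  have := map_derivedSeries_le_derivedSeries (Pi.evalMonoidHom H i) N ⟨x, hx, rfl⟩
  exact mem_bot.1 (hn i ▸ derivedSeries_antitone _ (hN ⟨i, rfl⟩) this)

theorem dvd_of_eq {o a b p : ℕ} (ha : a.Prime) (hb : b.Prime) (ne : a ≠ b) (d : o ∣ a * b)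
    (h : ∀ q, q.Prime → q ∣ o → q = p) : o ∣ p := by
  have k : ∀ {c : ℕ}, c.Prime → c ≠ p → o.Coprime c := fun hc n =>
    (hc.coprime_iff_not_dvd.2 fun e => n (h _ hc e)).symm
  by_cases e : a = p
  · exact e ▸ (k hb (e ▸ ne.symm)).dvd_of_dvd_mul_right d
  by_cases f : b = p
  · exact f ▸ (k ha e).dvd_of_dvd_mul_left d
  rw [(Nat.Coprime.mul_right (k ha e) (k hb f)).eq_one_of_dvd d]
  exact one_dvd _

theorem odd_cm {m : ℕ} {j : Fin 4} (h : j ≠ 0) : ¬ 2 ∣ cm m j := fun d =>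
  h (cls_eq Nat.prime_two d (show 2 ∣ 4 by norm_num))

theorem cm_dvd {m p : ℕ} (hp : p.Prime) (p2 : p ≠ 2) {j : Fin 4} (d : p ∣ cm m j) : p ∣ 2 ^ (4 * (2 * m + 1)) - 1 := by
  have e : 2 ^ (4 * (2 * m + 1)) - 1 = (2 ^ (2 * (2 * m + 1)) + 1) * (2 ^ (2 * (2 * m + 1)) - 1) := by
    rw [← Nat.sq_sub_sq, ← pow_mul]; congr 2; ring
  have e2 : cm m 2 * cm m 3 ∣ 2 ^ (4 * (2 * m + 1)) - 1 := by
    rw [e, cm23, ← pow_mul, mul_comm (2 * m + 1)]; exact dvd_mul_right _ _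
  fin_cases j
  · exact absurd ((Nat.prime_dvd_prime_iff_eq hp Nat.prime_two).1 (hp.dvd_of_dvd_pow (n := 2) d)) p2
  · exact d.trans (Nat.pow_sub_one_dvd_pow_sub_one 2 (dvd_mul_left _ _))
  · exact (d.mul_right _).trans e2
  · exact (d.mul_left _).trans e2

/-- a Zsigmondy prime -/
theorem zs {N : ℕ} (h1 : 1 < N) (h6 : N ≠ 6) (h2 : N ≠ 2) : ∃ r : ℕ, r.Prime ∧ r ≠ 2 ∧ N < r ∧ r ∣ 2 ^ N - 1 ∧
    ∀ k, r ∣ 2 ^ k - 1 → N ∣ k := by
  obtain ⟨r, hr, d, h⟩ := Cfsg.Agent.S2904.result 2 N one_lt_two h1 (fun c => h6 c.2) fun c => h2 c.1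
  have r2 : r ≠ 2 := by
    rintro rfl
    obtain ⟨n, rfl⟩ : ∃ n, N = n + 1 := ⟨N - 1, by omega⟩
    have := Nat.two_pow_pos n
    rw [pow_succ] at d; omega
  have k : ∀ k, r ∣ 2 ^ k - 1 → N ∣ k := fun k e => by
    have := Nat.dvd_gcd d e
    rw [Nat.pow_sub_one_gcd_pow_sub_one] at this
    by_contra c
    exact h _ (Nat.gcd_pos_of_pos_left _ (by omega)) (lt_of_le_of_ne (Nat.gcd_le_left _ (by omega))
      fun f => c (f ▸ Nat.gcd_dvd_right _ _)) this
  have := Nat.le_of_dvd (by have := hr.two_le; omega) (k (r - 1) (by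
    have := Nat.ModEq.pow_totient ((Nat.coprime_primes Nat.prime_two hr).2 r2.symm)
    rw [Nat.totient_prime hr] at this
    exact (Nat.modEq_iff_dvd' Nat.one_le_two_pow).1 this.symm))
  exact ⟨r, hr, r2, by have := hr.two_le; omega, d, k⟩

theorem good {r A N : ℕ} (hr : r.Prime) (d : r ∣ A) (n : ¬ r ∣ N) : r * Nat.gcd N A ∣ A :=
  Nat.Coprime.mul_dvd_of_dvd_of_dvd (hr.coprime_iff_not_dvd.2 fun e => n (e.trans (Nat.gcd_dvd_left _ _))) d
    (Nat.gcd_dvd_right _ _)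

theorem good2 {A N : ℕ} (h0 : 0 < N) (h : N < A) : ∃ r, r.Prime ∧ r * Nat.gcd N A ∣ A := by
  obtain ⟨c, hc⟩ := Nat.gcd_dvd_right N A
  obtain ⟨r, hr, d⟩ := Nat.exists_prime_and_dvd (n := c) (by
    rintro rfl
    have := Nat.gcd_le_left A h0
    omega)
  exact ⟨r, hr, by rw [mul_comm]; nth_rewrite 2 [hc]; exact Nat.mul_dvd_mul_left _ d⟩

theorem primes {m : ℕ} (hm : 1 ≤ m) : ∃ r : Fin 4 → ℕ, ∃ t : ℕ, t.Prime ∧ t ≠ 2 ∧ ∀ i, (r i).Prime ∧
    r i * Nat.gcd (2 * m + 1) (cm m i) ∣ cm m i ∧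
    (r i = 2 ∨ r i = t ∨ ∀ n, 2 * n + 1 ∣ 2 * m + 1 → n ≠ m → ∀ j, ¬ r i ∣ cm n j) := by
  obtain ⟨r1, p1, n1, l1, d1, k1⟩ := zs (N := 2 * m + 1) (by omega) (by omega) (by omega)
  obtain ⟨r2, p2, n2, l2, d2, k2⟩ := zs (N := 4 * (2 * m + 1)) (by omega) (by omega) (by omega)
  have g0 : 2 * Nat.gcd (2 * m + 1) (cm m 0) ∣ cm m 0 := good Nat.prime_two (show 2 ∣ 4 by norm_num) (by omega)
  have g1 : r1 * Nat.gcd (2 * m + 1) (cm m 1) ∣ cm m 1 := good p1 d1 (Nat.not_dvd_of_pos_of_lt (by omega) l1)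
  have z1 : ∀ n, 2 * n + 1 ∣ 2 * m + 1 → n ≠ m → ∀ j, ¬ r1 ∣ cm n j := fun n a b j d => by
    have := Nat.dvd_antisymm a ((Nat.Coprime.pow_right 2 (Nat.coprime_two_right.2 (odd_two_mul_add_one m))).dvd_of_dvd_mul_left
      (k1 _ (cm_dvd p1 n1 d)))
    omega
  have z2 : ∀ n, 2 * n + 1 ∣ 2 * m + 1 → n ≠ m → ∀ j, ¬ r2 ∣ cm n j := fun n a b j d => by
    have := Nat.dvd_antisymm a (Nat.dvd_of_mul_dvd_mul_left (by norm_num) (k2 _ (cm_dvd p2 n2 d)))
    omega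
  have nd : ¬ r2 ∣ 2 * m + 1 := Nat.not_dvd_of_pos_of_lt (by omega) (by omega)
  have d3 : r2 ∣ cm m 2 * cm m 3 := by
    have e : 2 ^ (4 * (2 * m + 1)) - 1 = (2 ^ (2 * (2 * m + 1)) + 1) * (2 ^ (2 * (2 * m + 1)) - 1) := by
      rw [← Nat.sq_sub_sq, ← pow_mul]; congr 2; ring
    rw [cm23, ← pow_mul, mul_comm (2 * m + 1)]
    refine (p2.dvd_mul.1 (e ▸ d2)).resolve_right fun c => ?_
    have := Nat.le_of_dvd (by omega) (k2 _ c)
    omega
  have l : 2 * m + 1 < cm m 3 ∧ 2 * m + 1 < cm m 2 := by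
    have a : m < 2 ^ m := Nat.lt_two_pow_self
    have b : 2 ^ (m + 2) ≤ 2 ^ (2 * m + 1) := Nat.pow_le_pow_right two_pos (by omega)
    rw [cm2, cm3]
    rw [pow_succ, pow_succ] at b
    rw [pow_succ 2 m]
    omega
  rcases p2.dvd_mul.1 d3 with d | d
  · obtain ⟨t, ht, g⟩ := good2 (by omega) l.1
    refine ⟨![2, r1, r2, t], t, ht, fun e => odd_cm (m := m) (j := 3) (by decide) (e ▸ (dvd_mul_right _ _).trans g),
      fun i => ?_⟩
    fin_cases i
    exacts [⟨Nat.prime_two, g0, .inl rfl⟩, ⟨p1, g1, .inr (.inr z1)⟩, ⟨p2, good p2 d nd, .inr (.inr z2)⟩,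
      ⟨ht, g, .inr (.inl rfl)⟩]
  · obtain ⟨t, ht, g⟩ := good2 (by omega) l.2
    refine ⟨![2, r1, t, r2], t, ht, fun e => odd_cm (m := m) (j := 2) (by decide) (e ▸ (dvd_mul_right _ _).trans g),
      fun i => ?_⟩
    fin_cases i
    exacts [⟨Nat.prime_two, g0, .inl rfl⟩, ⟨p1, g1, .inr (.inr z1)⟩, ⟨ht, g, .inr (.inl rfl)⟩,
      ⟨p2, good p2 d nd, .inr (.inr z2)⟩]

theorem pC : PC.{u} := by
  intro m G _ _ ι _ F _ _ n _ hm ok fu φ so sj hn
  obtain ⟨r, t, ht, t2, hr⟩ := primes hm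
  have rd : ∀ i, r i ∣ cm m i := fun i => (dvd_mul_right _ _).trans (hr i).2.1
  have rne : ∀ {i j}, r i = r j → i = j := fun e => cls_eq (hr _).1 (rd _) (e ▸ rd _)
  choose D sD hD using fun i => exD (F := F i) (m := n i) ht t2
  let E := fun i => (D i).map (MulAut.conj : Cfsg.Sz (F i) (n i) →* _)
  have sE : ∀ i, Group.IsSolvable (E i) := fun i =>
    Group.isSolvable_of_surjective (MonoidHom.subgroupMap_surjective _ _)
  let X : Subgroup G := ⨅ i, (E i).comap (φ i)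
  have sX : Group.IsSolvable X := by
    have := pi_solv (H := fun i => E i)
    have le : (⨅ i, (φ i).ker : Subgroup G) ≤ X := iInf_mono fun i x hx => by
      rw [mem_comap, show φ i x = 1 from hx]; exact one_mem _
    refine Group.isSolvable_of_ker_le_range (inclusion le)
      (MonoidHom.pi fun i => ((φ i).comp X.subtype).codRestrict (E i) fun x => mem_iInf.1 x.2 i) fun x hx => ?_
    exact ⟨⟨x, mem_iInf.2 fun i => congrArg Subtype.val (congrFun hx i)⟩, rfl⟩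
  refine Cfsg.Agent.S3814.result (G := X) (Finset.univ.image r) (by
    rw [Finset.card_image_of_injective _ fun _ _ => rne]; simp) (by simpa using fun i => (hr i).1) ?_ ?_ sX
  · simp only [Finset.mem_image, Finset.mem_univ, true_and, forall_exists_index, forall_apply_eq_imp_iff]
    intro a b ne
    obtain ⟨g, og⟩ := fu a b fun e => ne (e ▸ rfl)
    have d : r a * r b ∣ orderOf (g ^ (2 * m + 1)) := by
      rw [orderOf_pow' _ (by omega), Nat.dvd_div_iff_mul_dvd (Nat.gcd_dvd_left _ _), og, Nat.gcd_comm]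
      refine (Nat.mul_dvd_mul_right (_root_.gcd_mul_dvd_mul_gcd _ _ _) _).trans ?_
      rw [mul_comm, mul_mul_mul_comm]
      exact mul_dvd_mul (hr a).2.1 (hr b).2.1
    have oy := orderOf_pow_orderOf_div (orderOf_pos _).ne' d
    set y := (g ^ (2 * m + 1)) ^ (orderOf (g ^ (2 * m + 1)) / (r a * r b))
    have inn : ∀ i, ∃ s, MulAut.conj s = φ i y := fun i => by
      have : φ i g ^ (2 * m + 1) ∈ Inn (Cfsg.Sz (F i) (n i)) := by
        rw [← QuotientGroup.eq_one_iff, QuotientGroup.mk_pow, ← orderOf_dvd_iff_pow_eq_one]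
        exact (_root_.orderOf_dvd_natCard _).trans (card_out (F := F i) (m := n i) ▸ (hn i).1)
      simp only [y, map_pow]
      exact pow_mem this _
    choose s hs using inn
    have cv : ∀ i, ∃ k, k * s i * k⁻¹ ∈ D i := fun i => hD i _ (by
      have d : orderOf (s i) ∣ r a * r b := by
        rw [← orderOf_injective _ conj_inj, hs, ← oy]; exact orderOf_map_dvd _ _
      obtain ⟨j, hj⟩ := ord_dvd (s i)
      have k : ∀ q, q.Prime → q ∣ orderOf (s i) → q = 2 ∨ q = t := fun q hq e => by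
        obtain ⟨c, rfl⟩ : ∃ c, q = r c := (hq.dvd_mul.1 (e.trans d)).elim
          (fun x => ⟨a, (Nat.prime_dvd_prime_iff_eq hq (hr a).1).1 x⟩)
          fun x => ⟨b, (Nat.prime_dvd_prime_iff_eq hq (hr b).1).1 x⟩
        exact (hr c).2.2.imp_right fun x => x.resolve_right fun x => x _ (hn i).1 (hn i).2 j (e.trans hj)
      by_cases j0 : j = 0
      · subst j0
        exact .inl (dvd_of_eq (hr a).1 (hr b).1 ne d fun q hq e =>
          (Nat.prime_dvd_prime_iff_eq hq Nat.prime_two).1 (hq.dvd_of_dvd_pow (n := 2) (e.trans hj)))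
      · exact .inr (dvd_of_eq (hr a).1 (hr b).1 ne d fun q hq e =>
          (k q hq e).resolve_left fun x => odd_cm j0 (x ▸ e.trans hj)))
    choose k hk using cv
    obtain ⟨w, hw⟩ := sj k
    refine ⟨⟨w * y * w⁻¹, mem_iInf.2 fun i => ⟨_, hk i, ?_⟩⟩, ?_⟩
    · simp only [map_mul, map_inv, hw, hs]
    · rw [orderOf_mk, ← oy]; exact (MulAut.conj w).orderOf_eq y
  · simp only [Finset.mem_image, Finset.mem_univ, true_and, forall_exists_index, forall_apply_eq_imp_iff]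
    intro a b c ab bc ac g og
    rw [← orderOf_coe] at og
    exact ok.tri (hr a).1 (hr b).1 (hr c).1 (rd a) (rd b) (rd c) (fun e => ab (e ▸ rfl)) (fun e => ac (e ▸ rfl))
      (fun e => bc (e ▸ rfl)) (og ▸ (dvd_mul_right _ _).mul_right _) (og ▸ (dvd_mul_left _ _).mul_right _)
      (og ▸ dvd_mul_left _ _)

end H28.SqC
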