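import Cfsg.Agent.H28.T24B0
import Cfsg.Agent.H28.T24B1
import Cfsg.Agent.H28.T24B2

/-! Coset enumeration certificate T24 (Y542 with l = (abcdefh)^9 and the spider relation, subgroup centralising l), definitions. -/
set_option maxRecDepth 8000
set_option Elab.async false
namespace H28.T24
open H15 H15.TC

noncomputable def tT : BT := (.node (nat_lit 1600) (.node (nat_lit 800) (.node (nat_lit 400) tT_0 tT_400) (.node (nat_lit 1200) tT_800 tT_1200)) (.node (nat_lit 2400) (.node (nat_lit 2000) tT_1600 tT_2000) (.node (nat_lit 2800) tT_2400 tT_2800)))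
noncomputable def tP : BT := (.node (nat_lit 1600) (.node (nat_lit 800) tP_0 tP_800) (.node (nat_lit 2400) tP_1600 tP_2400))
noncomputable def tS : BT := tS_0
def rels : List (List ℕ) := [[nat_lit 0,nat_lit 0],
  [nat_lit 1,nat_lit 1],
  [nat_lit 2,nat_lit 2],
  [nat_lit 3,nat_lit 3],
  [nat_lit 4,nat_lit 4],
  [nat_lit 5,nat_lit 5],
  [nat_lit 6,nat_lit 6],
  [nat_lit 7,nat_lit 7],
  [nat_lit 8,nat_lit 8],
  [nat_lit 9,nat_lit 9],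
  [nat_lit 10,nat_lit 10],
  [nat_lit 11,nat_lit 11],
  [nat_lit 0,nat_lit 1,nat_lit 0,nat_lit 1,nat_lit 0,nat_lit 1],
  [nat_lit 0,nat_lit 2,nat_lit 0,nat_lit 2],
  [nat_lit 0,nat_lit 3,nat_lit 0,nat_lit 3],
  [nat_lit 0,nat_lit 4,nat_lit 0,nat_lit 4],
  [nat_lit 0,nat_lit 5,nat_lit 0,nat_lit 5],
  [nat_lit 0,nat_lit 6,nat_lit 0,nat_lit 6],
  [nat_lit 0,nat_lit 7,nat_lit 0,nat_lit 7],
  [nat_lit 0,nat_lit 8,nat_lit 0,nat_lit 8],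
  [nat_lit 0,nat_lit 9,nat_lit 0,nat_lit 9],
  [nat_lit 0,nat_lit 10,nat_lit 0,nat_lit 10],
  [nat_lit 0,nat_lit 11,nat_lit 0,nat_lit 11],
  [nat_lit 1,nat_lit 2,nat_lit 1,nat_lit 2,nat_lit 1,nat_lit 2],
  [nat_lit 1,nat_lit 3,nat_lit 1,nat_lit 3],
  [nat_lit 1,nat_lit 4,nat_lit 1,nat_lit 4],
  [nat_lit 1,nat_lit 5,nat_lit 1,nat_lit 5],
  [nat_lit 1,nat_lit 6,nat_lit 1,nat_lit 6],
  [nat_lit 1,nat_lit 7,nat_lit 1,nat_lit 7],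
  [nat_lit 1,nat_lit 8,nat_lit 1,nat_lit 8],
  [nat_lit 1,nat_lit 9,nat_lit 1,nat_lit 9],
  [nat_lit 1,nat_lit 10,nat_lit 1,nat_lit 10],
  [nat_lit 1,nat_lit 11,nat_lit 1,nat_lit 11],
  [nat_lit 2,nat_lit 3,nat_lit 2,nat_lit 3,nat_lit 2,nat_lit 3],
  [nat_lit 2,nat_lit 4,nat_lit 2,nat_lit 4],
  [nat_lit 2,nat_lit 5,nat_lit 2,nat_lit 5],
  [nat_lit 2,nat_lit 6,nat_lit 2,nat_lit 6],
  [nat_lit 2,nat_lit 7,nat_lit 2,nat_lit 7],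
  [nat_lit 2,nat_lit 8,nat_lit 2,nat_lit 8],
  [nat_lit 2,nat_lit 9,nat_lit 2,nat_lit 9],
  [nat_lit 2,nat_lit 10,nat_lit 2,nat_lit 10],
  [nat_lit 2,nat_lit 11,nat_lit 2,nat_lit 11],
  [nat_lit 3,nat_lit 4,nat_lit 3,nat_lit 4,nat_lit 3,nat_lit 4],
  [nat_lit 3,nat_lit 5,nat_lit 3,nat_lit 5],
  [nat_lit 3,nat_lit 6,nat_lit 3,nat_lit 6],
  [nat_lit 3,nat_lit 7,nat_lit 3,nat_lit 7],
  [nat_lit 3,nat_lit 8,nat_lit 3,nat_lit 8],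
  [nat_lit 3,nat_lit 9,nat_lit 3,nat_lit 9],
  [nat_lit 3,nat_lit 10,nat_lit 3,nat_lit 10],
  [nat_lit 3,nat_lit 11,nat_lit 3,nat_lit 11],
  [nat_lit 4,nat_lit 5,nat_lit 4,nat_lit 5,nat_lit 4,nat_lit 5],
  [nat_lit 4,nat_lit 6,nat_lit 4,nat_lit 6],
  [nat_lit 4,nat_lit 7,nat_lit 4,nat_lit 7],
  [nat_lit 4,nat_lit 8,nat_lit 4,nat_lit 8],
  [nat_lit 4,nat_lit 9,nat_lit 4,nat_lit 9],
  [nat_lit 4,nat_lit 10,nat_lit 4,nat_lit 10],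
  [nat_lit 4,nat_lit 11,nat_lit 4,nat_lit 11],
  [nat_lit 5,nat_lit 6,nat_lit 5,nat_lit 6,nat_lit 5,nat_lit 6],
  [nat_lit 5,nat_lit 7,nat_lit 5,nat_lit 7],
  [nat_lit 5,nat_lit 8,nat_lit 5,nat_lit 8],
  [nat_lit 5,nat_lit 9,nat_lit 5,nat_lit 9],
  [nat_lit 5,nat_lit 10,nat_lit 5,nat_lit 10,nat_lit 5,nat_lit 10],
  [nat_lit 5,nat_lit 11,nat_lit 5,nat_lit 11],
  [nat_lit 6,nat_lit 7,nat_lit 6,nat_lit 7,nat_lit 6,nat_lit 7],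
  [nat_lit 6,nat_lit 8,nat_lit 6,nat_lit 8],
  [nat_lit 6,nat_lit 9,nat_lit 6,nat_lit 9],
  [nat_lit 6,nat_lit 10,nat_lit 6,nat_lit 10],
  [nat_lit 6,nat_lit 11,nat_lit 6,nat_lit 11],
  [nat_lit 7,nat_lit 8,nat_lit 7,nat_lit 8,nat_lit 7,nat_lit 8],
  [nat_lit 7,nat_lit 9,nat_lit 7,nat_lit 9],
  [nat_lit 7,nat_lit 10,nat_lit 7,nat_lit 10],
  [nat_lit 7,nat_lit 11,nat_lit 7,nat_lit 11],
  [nat_lit 8,nat_lit 9,nat_lit 8,nat_lit 9,nat_lit 8,nat_lit 9],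
  [nat_lit 8,nat_lit 10,nat_lit 8,nat_lit 10],
  [nat_lit 8,nat_lit 11,nat_lit 8,nat_lit 11],
  [nat_lit 9,nat_lit 10,nat_lit 9,nat_lit 10],
  [nat_lit 9,nat_lit 11,nat_lit 9,nat_lit 11],
  [nat_lit 10,nat_lit 11,nat_lit 10,nat_lit 11,nat_lit 10,nat_lit 11],
  [nat_lit 0,nat_lit 2,nat_lit 3,nat_lit 4,nat_lit 5,nat_lit 6,nat_lit 7,nat_lit 10,nat_lit 2,nat_lit 3,nat_lit 4,nat_lit 5,nat_lit 6,nat_lit 7,nat_lit 10,nat_lit 2,nat_lit 3,nat_lit 4,nat_lit 5,nat_lit 6,nat_lit 7,nat_lit 10,nat_lit 2,nat_lit 3,nat_lit 4,nat_lit 5,nat_lit 6,nat_lit 7,nat_lit 10,nat_lit 2,nat_lit 3,nat_lit 4,nat_lit 5,nat_lit 6,nat_lit 7,nat_lit 10,nat_lit 2,nat_lit 3,nat_lit 4,nat_lit 5,nat_lit 6,nat_lit 7,nat_lit 10,nat_lit 2,nat_lit 3,nat_lit 4,nat_lit 5,nat_lit 6,nat_lit 7,nat_lit 10,nat_lit 2,nat_lit 3,nat_lit 4,nat_lit 5,nat_lit 6,nat_lit 7,nat_lit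 10,nat_lit 2,nat_lit 3,nat_lit 4,nat_lit 5,nat_lit 6,nat_lit 7,nat_lit 10],
  [nat_lit 5,nat_lit 4,nat_lit 3,nat_lit 5,nat_lit 6,nat_lit 7,nat_lit 5,nat_lit 10,nat_lit 11,nat_lit 5,nat_lit 4,nat_lit 3,nat_lit 5,nat_lit 6,nat_lit 7,nat_lit 5,nat_lit 10,nat_lit 11,nat_lit 5,nat_lit 4,nat_lit 3,nat_lit 5,nat_lit 6,nat_lit 7,nat_lit 5,nat_lit 10,nat_lit 11,nat_lit 5,nat_lit 4,nat_lit 3,nat_lit 5,nat_lit 6,nat_lit 7,nat_lit 5,nat_lit 10,nat_lit 11,nat_lit 5,nat_lit 4,nat_lit 3,nat_lit 5,nat_lit 6,nat_lit 7,nat_lit 5,nat_lit 10,nat_lit 11,nat_lit 5,nat_lit 4,nat_lit 3,nat_lit 5,nat_lit 6,nat_lit 7,nat_lit 5,nat_lit 10,nat_lit 11,nat_lit 5,nat_lit 4,nat_lit 3,nat_lit 5,nat_lit 6,nat_lit 7,nat_lit 5,nat_lit 10,nat_lit 11,nat_lit 5,nat_lit 4,nat_lit 3,nat_lit 5,nat_lit 6,nat_lit 7,nat_lit 5,nat_lit 10,nat_lit 11,nat_lit 5,nat_lit 4,nat_lit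 3,nat_lit 5,nat_lit 6,nat_lit 7,nat_lit 5,nat_lit 10,nat_lit 11,nat_lit 5,nat_lit 4,nat_lit 3,nat_lit 5,nat_lit 6,nat_lit 7,nat_lit 5,nat_lit 10,nat_lit 11]]
def subs : List (List ℕ) := [[nat_lit 0],
  [nat_lit 2],
  [nat_lit 3],
  [nat_lit 4],
  [nat_lit 5],
  [nat_lit 6],
  [nat_lit 7],
  [nat_lit 8],
  [nat_lit 9],
  [nat_lit 10],
  [nat_lit 11],
  [nat_lit 1,nat_lit 2,nat_lit 3,nat_lit 4,nat_lit 5,nat_lit 10,nat_lit 11,nat_lit 6,nat_lit 5,nat_lit 10,nat_lit 7,nat_lit 8,nat_lit 6,nat_lit 7,nat_lit 4,nat_lit 5,nat_lit 6,nat_lit 3,nat_lit 4,nat_lit 5,nat_lit 10,nat_lit 11,nat_lit 7,nat_lit 5,nat_lit 6,nat_lit 3,nat_lit 4,nat_lit 5,nat_lit 10,nat_lit 9,nat_lit 8,nat_lit 7,nat_lit 6,nat_lit 5,nat_lit 4,nat_lit 3,nat_lit 2,nat_lit 3,nat_lit 4,nat_lit 5,nat_lit 6,nat_lit 7,nat_lit 8,nat_lit 9,nat_lit 10,nat_lit 5,nat_lit 4,nat_lit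 3,nat_lit 6,nat_lit 5,nat_lit 7,nat_lit 11,nat_lit 10,nat_lit 5,nat_lit 4,nat_lit 3,nat_lit 6,nat_lit 5,nat_lit 4,nat_lit 7,nat_lit 6,nat_lit 8,nat_lit 7,nat_lit 10,nat_lit 5,nat_lit 6,nat_lit 11,nat_lit 10,nat_lit 5,nat_lit 4,nat_lit 3,nat_lit 2,nat_lit 1]]
noncomputable def row (v : ℕ) : ℕ := mkRow (BT.get tT) (nat_lit 32) (nat_lit 469) (nat_lit 0x2000000000000000000000000000000000000000000000000000000000000000000000000000000000000000000000000000000000000000000000) v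
noncomputable def DC (c r : ℕ) : List ℕ := ruleC (nat_lit 0xfc000000000000000000000000000000000000000000000000000000000000000000000000000c2ca2481c61440c2040) (nat_lit 469) rels c r
noncomputable def D1 (r : ℕ) : List ℕ := rule (nat_lit 0xfc000000000000000000000000000000000000000000000000000000000000000000000000000c2ca2481c61440c2040) (rels ++ subs.map (List.cons 63)) r
noncomputable def chk (v : ℕ) : Bool := chkRow row (nat_lit 33) (nat_lit 8589934592) (nat_lit 131072) (nat_lit 0xfc000000000000000000000000000000000000000000000000000000000000000000000000000c2ca2481c61440c2040) (nat_lit 12) (nat_lit 0) (nat_lit 102389) (nat_lit 23) (nat_lit 8388608) (nat_lit 47104) (nat_lit 429) (nat_lit 16) (nat_lit 65536) DC D1 [nat_lit 0,nat_lit 1,nat_lit 2,nat_lit 3,nat_lit 4,nat_lit 5,nat_lit 6,nat_lit 7,nat_lit 8,nat_lit 9,nat_lit 10,nat_lit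 11]
  (mkRow (BT.get tP) (nat_lit 32) (nat_lit 208) (nat_lit 0x10000000000000000000000000000000000000000000000000000) v) (Nat.rec 0 (fun j _ => BT.get tS j) (Nat.succ (Nat.div v (nat_lit 32)))) (Nat.succ v)

end H28.T24
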