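import Cfsg.Agent.H28.TG
import Cfsg.Agent.H14.GolayM24

set_option autoImplicit false

namespace H28.TG
open Cfsg Finset
open scoped Pointwise

local notation "𝒞" => ternaryGolayCode
local notation "sp" => ternarySupport
variable {x y : Wd} {σ τ : Equiv.Perm ArrayPt} {c d : ArrayPt → (ZMod 3)ˣ}

theorem wt_id (x y : Wd) : #(sp (x + y)) + #(sp (x - y)) + 3 * #(sp x ∩ sp y) = 2 * #(sp x) + 2 * #(sp y) := by
  simp only [ternarySupport, ← filter_and, card_filter, mul_sum, ← sum_add_distrib, Pi.add_apply, Pi.sub_apply]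
  refine sum_congr rfl fun p _ => ?_
  generalize x p = a; generalize y p = b; revert a b; decide

theorem six (hx : x ∈ 𝒞) (hy : y ∈ 𝒞) (h1 : #(sp x) = 6) (h2 : #(sp y) = 6) (h : 5 ≤ #(sp x ∩ sp y)) :
    y = x ∨ y = -x := by
  by_contra! k
  have := wt_id x y
  have := wt (add_mem hx hy) fun e => k.2 (eq_neg_of_add_eq_zero_right e)
  have := wt (sub_mem hx hy) fun e => k.1 (sub_eq_zero.1 e).symm
  omega

theorem sp_neg (x : Wd) : sp (-x) = sp x := by simp [ternarySupport]

/-- the supports of the words of weight 6 -/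
def Bl : Set (Finset ArrayPt) := {h | ∃ x ∈ 𝒞, sp x = h ∧ h.card = 6}

theorem card_Bl : Bl.ncard = 132 := by
  classical
  have h := (ncard_code fun x => #(sp x) = 6).trans (cnt (6, 264) (by simp))
  rw [Set.ncard_eq_toFinset_card', card_eq_sum_card_image sp, sum_const_nat (m := 2)] at h
  · have e : Bl = ↑(image sp {x | x ∈ 𝒞 ∧ #(sp x) = 6}.toFinset) := by ext; simp [Bl]; grind
    rw [e, Set.ncard_coe_finset]; omega
  intro b hb
  simp only [mem_image, Set.mem_toFinset, Set.mem_ofPred_eq] at hb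
  obtain ⟨x, ⟨hx, h6⟩, rfl⟩ := hb
  refine card_eq_two.2 ⟨x, -x, fun e => ?_, ?_⟩
  · have : sp x = ∅ := filter_eq_empty_iff.2 fun p _ => by
      have := congrFun e p
      rw [Pi.neg_apply] at this
      generalize x p = a at *; revert a; decide
    simp [this] at h6
  ext y
  simp only [mem_filter, Set.mem_toFinset, Set.mem_ofPred_eq, mem_insert, mem_singleton]
  exact ⟨fun ⟨⟨hy, k⟩, e⟩ => six hx hy h6 k (by simp [e, h6]), by rintro (rfl | rfl) <;> simp [sp_neg, *]⟩

theorem steiner : IsSteinerSystem 5 6 Bl :=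
  H14.steiner_of_count (fun _ ⟨_, _, _, h⟩ => h) (by
    rintro _ ⟨x, hx, rfl, h1⟩ _ ⟨y, hy, rfl, h2⟩ h
    rcases six hx hy h1 h2 h with rfl | rfl <;> simp [sp_neg]) (by rw [card_Bl]; decide)

/-- the monomial map preserves the code -/
def Pres (σ : Equiv.Perm ArrayPt) (c : ArrayPt → (ZMod 3)ˣ) : Prop := ∀ x ∈ 𝒞, monomialMap σ c x ∈ 𝒞

theorem sp_mon (x : Wd) : sp (monomialMap σ c x) = σ • sp x := by
  ext p; simp [ternarySupport, monomialMap, ← inv_smul_mem_iff]

theorem Pres.two (h : Pres σ c) (h' : Pres σ d) : d = c ∨ d = -c := by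
  have k : ∀ k p q, B k p ≠ 0 → B k q ≠ 0 → (d (σ p) = c (σ p) ↔ d (σ q) = c (σ q)) := fun k p q hp hq => by
    have w : #(sp (B k)) = 6 := by clear hp hq; revert k; decide +kernel
    have n : ∀ a : (ZMod 3)ˣ, -a ≠ a := by decide
    rcases six (h _ (B_mem k)) (h' _ (B_mem k)) (by simp [sp_mon, w]) (by simp [sp_mon, w]) (by simp [sp_mon, w])
      with e | e <;> have e1 := congrFun e (σ p) <;> have e2 := congrFun e (σ q) <;>
      simp only [monomialMap, Equiv.symm_apply_apply, Pi.neg_apply, ← neg_mul, mul_left_inj' hp, mul_left_inj' hq,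
        ← Units.val_neg, Units.val_inj] at e1 e2 <;> simp [e1, e2, n]
  have l : ∀ p, d (σ p) = c (σ p) ↔ d (σ (2, 2)) = c (σ (2, 2)) := fun p => by
    obtain ⟨i, j, r, h1, h2, h3, h4⟩ : ∃ i j r, B i p ≠ 0 ∧ B i r ≠ 0 ∧ B j r ≠ 0 ∧ B j (2, 2) ≠ 0 := by
      revert p; decide +kernel
    exact (k _ _ _ h1 h2).trans (k _ _ _ h3 h4)
  by_cases e : d (σ (2, 2)) = c (σ (2, 2))
  · exact .inl (funext (σ.forall_congr_right.1 fun p => (l p).2 e))
  exact .inr (funext (σ.forall_congr_right.1 fun p =>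
    ((by decide : ∀ a b : (ZMod 3)ˣ, a = b ∨ a = -b) _ _).resolve_left (mt (l p).1 e)))

theorem Pres.one : Pres 1 1 := fun x hx => by convert hx; ext; exact one_mul _

theorem Pres.mul (h : Pres σ c) (h' : Pres τ d) : Pres (σ * τ) fun p => c p * d (σ.symm p) := fun x hx => by
  convert h _ (h' x hx) using 1; ext; simp [monomialMap, mul_assoc, Equiv.Perm.mul_def]

theorem Pres.smul (h : Pres σ c) (u : (ZMod 3)ˣ) : Pres σ fun p => u * c p := fun x hx => by
  convert Submodule.smul_mem _ (u : ZMod 3) (h x hx) using 1; ext; simp [monomialMap, mul_assoc]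

theorem Pres.aut (h : Pres σ c) : σ ∈ setSystemAut Bl :=
  (MulAction.mem_stabilizer_set_iff_smul_set_subset (Set.toFinite _)).2 (by
    rintro _ ⟨_, ⟨x, hx, rfl, h6⟩, rfl⟩
    exact ⟨_, h x hx, sp_mon x, by simp [h6]⟩)

theorem Pres.of_basis (h : ∀ k, monomialMap σ c (B k) ∈ 𝒞) : Pres σ c := fun x hx => by
  convert Submodule.sum_mem 𝒞 (t := univ) fun k _ => Submodule.smul_mem 𝒞 (x (I k)) (h k) using 1
  ext p
  conv_lhs => rw [eq_enc hx]
  simp [monomialMap, enc, mul_sum, mul_left_comm]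

def ix (p : ArrayPt) : ℕ := 3 * p.1.1 + p.2.val
def pt (n : ℕ) : ArrayPt := (Fin.ofNat 4 (n / 3), (n : ZMod 3))
def tf (n : ℕ) (p : ArrayPt) : ArrayPt := pt (0x56a9487b321095746b8a32108b57a469321064b597a8321049865ab73210a74b85963210786ab9453210ba98765432100000000000000000000000000000000000000000000000009845a673b2104b697583a21074a85b6392105796b4a382106a5489b37210b58a47936210a9b768435210867b9a534210ba987654321000000000000000000000000000000000000045986a732b10694b57832a10a874b563291096574ba32810546a98b327108ab574932610b7a9864325107b86a953241098ba67542310ba987654321000000000000000000000000086a4597321b0b576948321a04b5a8763219074b965a32180a98546b321705748ab932160986b7a4321506a97b8532140a6798b542130876ba9543120ba98765432100000000000009456a873210b46957b83210a7a8b546321095964b7a3210865498ab32107b8a745932106ab786943210587ba96532104b9867a5421039ba768543102687a9b543201ba9876543210 >>> (4 * (12 * n + ix p)) % 16)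
def ts (n : ℕ) (p : ArrayPt) : (ZMod 3)ˣ := if 0x500300600300500600000000000000000000500300600300500600000000000000000053a53053953053a53953353353300000000074374f74674f74374674a74a74a00000000027c27027a27027c27a276276276000000000 >>> (12 * n + ix p) % 2 = 1 then -1 else 1
def bs : Fin 5 ↪ ArrayPt := ⟨![(0, 0), (0, 1), (0, 2), (1, 0), (1, 1)], by decide⟩

theorem cert (i : Fin 5) (y : ArrayPt) (h : ∀ j < i, y ≠ bs j) :
    Function.Injective (tf (12 * i + ix y)) ∧ (∀ j < i, tf (12 * i + ix y) (bs j) = bs j) ∧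
    tf (12 * i + ix y) (bs i) = y ∧ ∀ k, (fun p => ts (12 * i + ix y) p * B k (tf (12 * i + ix y) p)) ∈ 𝒞 := by
  simp only [mem_code]
  revert i y
  decide +kernel

theorem chain (σ : Equiv.Perm ArrayPt) (i : ℕ) (hi : i ≤ 5) :
    ∃ τ c, Pres τ c ∧ ∀ j : Fin 5, j.1 < i → τ (σ (bs j)) = bs j := by
  induction i with
  | zero => exact ⟨1, 1, .one, by simp⟩
  | succ i ih =>
    obtain ⟨τ, c, h, k⟩ := ih (by omega)
    obtain ⟨h1, h2, h3, h4⟩ := cert ⟨i, hi⟩ (τ (σ (bs ⟨i, hi⟩))) fun j hj e =>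
      hj.ne' (bs.injective (σ.injective (τ.injective (e.trans (k j hj).symm))))
    refine ⟨_, _, (Pres.of_basis (σ := (Equiv.ofBijective _ h1.bijective_of_finite).symm) h4).mul h, fun j hj => ?_⟩
    rw [Equiv.Perm.mul_apply, Equiv.symm_apply_eq]
    rcases Nat.lt_succ_iff_lt_or_eq.1 hj with hj | rfl
    · rw [k j hj]; exact (h2 j hj).symm
    · exact h3.symm

end H28.TG
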