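import Cfsg.Agent.H28.FI

/-! Relabelling of models, and point counts. -/

namespace H28
open Cfsg Subgroup H11 H11.PForm Module

variable {G : Type*} [Group G] {D E : Set G}

theorem Md.relabel {F F' : Type*} [Field F] [Field F'] {σ : F →+* F} {σ' : F' →+* F'} {P : FParam σ} {P' : FParam σ'}
    {V W : Type*} [AddCommGroup V] [Module F V] [AddCommGroup W] [Module F' W] {S : PForm P V} {T : PForm P' W}
    {τ : V → G} (h : Md S τ E) (hP : SF P') (hT : T.Nondeg) (g : W → V) (h1 : ∀ w, NV T w → NV S (g w))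
    (h2 : ∀ v, NV S v → ∃ w, NV T w ∧ ∃ c : F, v = c • g w)
    (h3 : ∀ u v, NV T u → NV T v → (∃ c : F, g v + S.h (g u) (g v) • g u = c • g (v + T.h u v • u)) ∧
      ((∃ c : F, g v = c • g u) ↔ ∃ c : F', v = c • u)) : Md T (fun w => τ (g w)) E :=
  ⟨h.t3, hP, hT, fun w hw => h.mem _ (h1 w hw), fun e he => by
    obtain ⟨v, hv, rfl⟩ := h.surj e he
    obtain ⟨w, hw, c⟩ := h2 v hv
    exact ⟨w, hw, (h.inj _ _ (h1 w hw) hv).2 c⟩, fun u v hu hv => by
    rw [h.conj _ _ (h1 u hu) (h1 v hv)]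
    exact ((h.inj _ _ (h1 _ (hu.op hv)) ((h1 u hu).op (h1 v hv))).2 (h3 u v hu hv).1).symm,
    fun u v hu hv => (h.inj _ _ (h1 u hu) (h1 v hv)).trans (h3 u v hu hv).2⟩

/-- code of a ternary vector -/
def cd3 (w : Fin 5 → ZMod 3) : ℕ := (w 0).val + 3 * (w 1).val + 9 * (w 2).val + 27 * (w 3).val + 81 * (w 4).val
/-- ternary vector with a code -/
def vc3 (n : ℕ) (i : Fin 5) : ZMod 3 := (n >>> (2 * i.val) % 4 : ℕ)
/-- explicit dot product -/
def dt5 (x y : Fin 5 → ZMod 3) : ZMod 3 := x 0 * y 0 + x 1 * y 1 + x 2 * y 2 + x 3 * y 3 + x 4 * y 4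
theorem dt5_eq (x y : Fin 5 → ZMod 3) : x ⬝ᵥ y = dt5 x y := by simp [dotProduct, Fin.sum_univ_five, dt5]
theorem all5 {P : (Fin 5 → ZMod 3) → Prop} (h : ∀ a b c d e, P ![a, b, c, d, e]) (w : Fin 5 → ZMod 3) : P w := by
  have : w = ![w 0, w 1, w 2, w 3, w 4] := by funext i; fin_cases i <;> rfl
  exact this ▸ h _ _ _ _ _

section Count
variable {F : Type*} [Field F] {σ : F →+* F} {P : FParam σ} {V : Type*} [AddCommGroup V] [Module F V] {S : PForm P V}
  {τ : V → G}

theorem Md.ncard [Finite F] [Finite V] (h : Md S τ E) : {v | NV S v}.ncard = E.ncard * (Nat.card F - 1) := by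
  have fe : E.Finite := (Set.toFinite (τ '' {v | NV S v})).subset fun e he => h.surj e he
  have := ncard_mul_eq (Set.toFinite {v | NV S v}) fe (fun v e => τ v = e) (m := 1) (n := Nat.card F - 1)
    (fun v hv => Set.ncard_eq_one.2 ⟨τ v, Set.ext fun x => ⟨fun h => h.2.symm, fun e => ⟨e ▸ h.mem v hv, e.symm⟩⟩⟩)
    fun e he => by
      obtain ⟨u, hu, rfl⟩ := h.surj e he
      rw [← Set.ncard_univ, ← Set.ncard_sdiff_singleton_of_mem (Set.mem_univ (0 : F)),
        ← Set.ncard_image_of_injective _ (smul_left_injective F hu.1)]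
      congr 1
      ext v
      refine ⟨fun hv => ?_, ?_⟩
      · obtain ⟨c, rfl⟩ := (h.inj u v hu hv.1).1 hv.2.symm
        exact ⟨c, ⟨trivial, fun e => hv.1.1 (by rw [show c = 0 from e, zero_smul])⟩, rfl⟩
      · rintro ⟨c, hc, rfl⟩
        exact ⟨hu.smul h.sf hc.2, h.smul hu hc.2⟩
  rwa [mul_one] at this

/-- number of solutions of `x ⬝ x = c` -/
def cN : ℕ → ZMod 3 → ℕ
  | 0, c => if c = 0 then 1 else 0
  | n + 1, c => cN n c + cN n (c - 1) + cN n (c - 1)

theorem card_dot (n : ℕ) (c : ZMod 3) : Nat.card {x : Fin n → ZMod 3 // x ⬝ᵥ x = c} = cN n c := by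
  induction n generalizing c with
  | zero =>
    simp only [dotProduct, Finset.univ_eq_empty, Finset.sum_empty, cN, eq_comm (b := c)]
    split_ifs with h <;> simp [h]
  | succ n ih =>
    have e : {x : Fin (n + 1) → ZMod 3 // x ⬝ᵥ x = c} ≃ Σ a : ZMod 3, {x : Fin n → ZMod 3 // x ⬝ᵥ x = c - a * a} :=
      (((Fin.consEquiv fun _ => ZMod 3).symm.subtypeEquiv fun x => by
        simp [dotProduct, Fin.sum_univ_succ, Fin.tail, eq_sub_iff_add_eq']).trans
        (Equiv.subtypeProdEquivSigmaSubtype fun a x => x ⬝ᵥ x = c - a * a))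
    rw [Nat.card_congr e, Nat.card_sigma]
    simp only [ih]
    rw [show (Finset.univ : Finset (ZMod 3)) = {0, 1, -1} by decide, Finset.sum_insert (by decide),
      Finset.sum_insert (by decide), Finset.sum_singleton, cN]
    simp [add_assoc]

theorem MO.ncard {n : ℕ} (h : MO n E) : cN n 1 = E.ncard * 2 := by
  obtain ⟨τ, m⟩ := h
  have := m.ncard
  simp only [nv_o3, std3_h, Nat.card_zmod] at this
  rw [← card_dot, ← this]; rfl

theorem MO.six (h : MO 6 E) : E.ncard = 126 := by have := h.ncard; rw [show cN 6 1 = 252 by decide] at this; omega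
theorem MO.seven (h : MO 7 E) : E.ncard = 351 := by have := h.ncard; rw [show cN 7 1 = 702 by decide] at this; omega
theorem MO.eight (h : MO 8 E) : E.ncard = 1080 := by
  have := h.ncard; rw [show cN 8 1 = 2160 by decide +kernel] at this; omega

theorem k4_card : Nat.card K4 = 2 ^ 2 := by rw [Nat.card_eq_fintype_card, K4.card]; rfl

theorem MU.six (h : MU 6 E) : E.ncard = 693 := by
  obtain ⟨τ, m⟩ := h
  have := m.ncard
  have e := m.nd.unit_cnt_zero fr_ne k4_card (n := 5) (by simp)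
  have e' := card_sing_ne_zero (S := stdUnit fr_fr fr_ne (Fin 6))
  simp only [nv_unit, ← unit_sing, k4_card] at this
  rw [e, if_neg (by decide)] at e'
  rw [← Nat.card_coe_set_eq] at this
  have := this.symm.trans e'
  omega

theorem MU.an (h : MU 6 E) {x : G} (hx : x ∈ E) : (An E x).ncard = 512 := by
  obtain ⟨τ, m⟩ := h
  obtain ⟨e, he, rfl⟩ := m.surj x hx
  have he' := nv_unit.1 he
  obtain ⟨f, -, H⟩ := (nd_top m.nd le_rfl).partner trivial he'.1 ((unit_sing _ _).2 he'.2)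
  have c := H.card_partner m.nd 0
  have d := H.finrank_perp
  rw [card_submodule, card_unit_Λ fr_fr fr_ne k4_card, k4_card,
    show finrank K4 (PForm.perp _ (Submodule.span K4 {e, f})) = 4 by simp at d; omega] at c
  have nv : ∀ y, 0 - (stdUnit fr_fr fr_ne (Fin 6)).q y ∈ UP.Λ ∧ (stdUnit fr_fr fr_ne (Fin 6)).h e y = 1 →
      NV (stdUnit fr_fr fr_ne (Fin 6)) y := fun y hy => nv_unit.2 ⟨by rintro rfl; simpa using hy.2,
    (unit_sing _ _).1 (by simpa [Sing] using hy.1)⟩
  have b : Set.BijOn τ {y | 0 - (stdUnit fr_fr fr_ne (Fin 6)).q y ∈ UP.Λ ∧ (stdUnit fr_fr fr_ne (Fin 6)).h e y = 1}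
      (An E (τ e)) := by
    refine ⟨fun y hy => ⟨m.mem y (nv y hy), by rw [m.comm2 K4.two he (nv y hy), hy.2]; decide⟩, fun y hy z hz h => ?_,
      fun a ha => ?_⟩
    · obtain ⟨k, rfl⟩ := (m.inj y z (nv y hy) (nv z hz)).1 h
      have := hz.2
      rw [h_smul_right, hy.2, mul_one] at this
      rw [this, one_smul]
    · obtain ⟨y, hy, rfl⟩ := m.surj a ha.1
      have n := mt (m.comm2 K4.two he hy).2 ha.2
      refine ⟨_, ⟨?_, by rw [h_smul_right, inv_mul_cancel₀ n]⟩, m.smul hy (inv_ne_zero n)⟩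
      simpa [Sing] using (unit_sing _ _).2 (nv_unit.1 (hy.smul sfU (inv_ne_zero n))).2
  rw [← b.ncard_eq, ← Nat.card_coe_set_eq]
  exact c

end Count

end H28
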